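import Cfsg.Agent.CoSection.MatGen
import Cfsg.Agent.Leech.Co1
import Cfsg.Agent.Leech.Co2
import Cfsg.Agent.Leech.UnitaryStab
import Cfsg.Agent.Leech.LatticeModel
import Cfsg.Agent.Leech.TwoThree
import Cfsg.Agent.Leech.Theta

/-!
The centraliser of an element of prime order in the automorphism group of the lattice: certificates for
membership in the subgroup generated by the element and the centre, and upper bounds by orbits.
-/

set_option autoImplicit false

namespace Cfsg.Agent.CoSection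
open Cfsg Cfsg.Agent.Leech

/-- a vector whose only fixing automorphism is trivial: digits in base 64 -/
def probeW : GolayPt → ℤ := fun p => 4 * (2 * 64 ^ idx p)

theorem probeW_mem : probeW ∈ leechLattice :=
  doubleSub_le ⟨0, fun p => 2 * 64 ^ idx p, fun p => by simp [probeW],
    ⟨∑ p, 64 ^ idx p, by rw [Finset.mul_sum]⟩⟩

/-- the probe as a lattice vector -/
def probeL : leechLattice := ⟨probeW, probeW_mem⟩

theorem probe_eq : probeL = ∑ i : GolayPt, ((64 : ℤ) ^ idx i) • oct i := by
  refine Subtype.ext (funext fun p => ?_)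
  rw [AddSubgroup.val_finsetSum, Finset.sum_apply, Finset.sum_eq_single p]
  · simp only [AddSubgroup.coe_zsmul, oct, Pi.smul_apply, Pi.single_eq_same, smul_eq_mul]
    show probeW p = _
    simp [probeW]; ring
  · intro b _ hb
    simp [oct, Pi.single_eq_of_ne (Ne.symm hb)]
  · simp

theorem digits_zero : ∀ (n : ℕ) (d : Fin n → ℤ), (∀ a, d a < 64 ∧ -64 < d a) →
    (∑ a : Fin n, 64 ^ (a : ℕ) * d a) = 0 → ∀ a, d a = 0
  | 0, _, _, _ => fun a => a.elim0
  | n + 1, d, hb, h => by
    rw [Fin.sum_univ_succ] at h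
    simp only [Fin.val_zero, pow_zero, one_mul, Fin.val_succ, pow_succ] at h
    have e : ∑ a : Fin n, 64 ^ (a : ℕ) * 64 * d a.succ = 64 * ∑ a : Fin n, 64 ^ (a : ℕ) * d a.succ := by
      rw [Finset.mul_sum]
      exact Finset.sum_congr rfl fun a _ => by ring
    rw [e] at h
    obtain ⟨h0, h1⟩ : d 0 = 0 ∧ ∑ a : Fin n, 64 ^ (a : ℕ) * d a.succ = 0 := by
      have := hb 0
      omega
    intro a
    refine Fin.cases h0 (fun b => ?_) a
    exact digits_zero n (fun a => d a.succ) (fun a => hb a.succ) h1 b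

theorem eq_of_probe_eq {g h : ↥Co0} (e : g • probeL = h • probeL) : g = h := by
  refine ext_of_oct fun i => Subtype.ext (funext fun q => ?_)
  have key : ∀ g : ↥Co0, ((g • probeL : leechLattice) : GolayPt → ℤ) q =
      ∑ a : Fin 24, 64 ^ (a : ℕ) * ((g • oct (ptOf a.1) : leechLattice) : GolayPt → ℤ) q := by
    intro g
    let act : leechLattice →+ leechLattice := ⟨⟨fun v => g • v, smul_zero' g⟩, smul_add' g⟩
    have : g • probeL = ∑ i : GolayPt, ((64 : ℤ) ^ idx i) • (g • oct i) := by
      rw [probe_eq]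
      show act _ = _
      rw [map_sum]
      exact Finset.sum_congr rfl fun i _ => map_zsmul act _ _
    rw [this, AddSubgroup.val_finsetSum, Finset.sum_apply, sum_pt]
    refine Finset.sum_congr rfl fun a _ => ?_
    simp [idx_ptOf a.1 a.2]
  have hb : ∀ (g : ↥Co0) (j : GolayPt),
      ((g • oct j : leechLattice) : GolayPt → ℤ) q ≤ 8 ∧ -8 ≤ ((g • oct j : leechLattice) : GolayPt → ℤ) q := by
    intro g j
    have h1 := sq_le_sqNorm ((g • oct j : leechLattice) : GolayPt → ℤ) q
    rw [sqNorm_smul] at h1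
    have h2 : sqNorm ((oct j : leechLattice) : GolayPt → ℤ) = 64 := oct_norm j
    rw [h2] at h1
    constructor <;> nlinarith
  have hz := digits_zero 24 (fun a => ((g • oct (ptOf a.1) : leechLattice) : GolayPt → ℤ) q -
      ((h • oct (ptOf a.1) : leechLattice) : GolayPt → ℤ) q)
    (fun a => by have := hb g (ptOf a.1); have := hb h (ptOf a.1); omega)
    (by
      simp only [mul_sub, Finset.sum_sub_distrib, ← key, e, sub_self])
    ⟨idx i, idx_lt i⟩
  simp only [ptOf_idx] at hz
  exact sub_eq_zero.1 hz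

/-- the probe in list form -/
def probeList : List ℤ := (List.range 24).map fun i => 4 * (2 * 64 ^ i)

theorem toL_probe : toL (probeL : GolayPt → ℤ) = probeList := by
  refine List.map_congr_left fun a ha => ?_
  show probeW (ptOf a) = _
  rw [probeW, idx_ptOf a (List.mem_range.1 ha)]

/-- two list actions agree -/
def eqB (A B : List ℤ → List ℤ) : Bool := Model.eqZ (A probeList) (B probeList)

theorem g_eq {A B : LGen} (h : eqB A.f B.f = true) : A.g = B.g := by
  refine eq_of_probe_eq (Subtype.ext (toL_injective ?_))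
  rw [A.spec, B.spec, toL_probe]
  exact Model.eq_of_eqZ h

theorem g_ne {A B : LGen} (h : eqB A.f B.f = false) : A.g ≠ B.g := fun e => by
  have : eqB A.f B.f = true := by
    rw [eqB, ← toL_probe, ← A.spec, ← B.spec, e]; exact Model.eqZ_refl _
  rw [h] at this
  exact Bool.noConfusion this

/-- the identity -/
def oneG : LGen := ⟨1, id, fun v => by rw [one_smul]; rfl⟩

/-- negation -/
def negG : LGen :=
  ⟨zneg, fun l => l.map fun x => -x, fun v => by rw [zneg_smul]; simp [toL, List.map_map, Function.comp_def]⟩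

/-- a product -/
def prodG (L : List LGen) : LGen := L.foldr LGen.comp oneG

theorem prodG_g : ∀ L : List LGen, (prodG L).g = (L.map LGen.g).prod
  | [] => rfl
  | x :: L => by rw [List.map_cons, List.prod_cons, ← prodG_g L]; rfl

/-- a power -/
def powG (a : LGen) (k : ℕ) : LGen := prodG (List.replicate k a)

theorem powG_g (a : LGen) (k : ℕ) : (powG a k).g = a.g ^ k := by
  simp [powG, prodG_g, List.map_replicate, List.prod_replicate]

variable (a : LGen) (p : ℕ)

/-- the subgroup generated by the element -/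
def AA : Subgroup ↥Co0 := Subgroup.zpowers a.g

/-- its centraliser -/
def Cg : Subgroup ↥Co0 := Subgroup.centralizer ((AA a : Subgroup ↥Co0) : Set ↥Co0)

/-- the subgroup factored out -/
def Nn : Subgroup ↥(Cg a) := (AA a ⊔ Subgroup.center ↥Co0).subgroupOf (Cg a)

theorem mem_Cg {a : LGen} {g : ↥Co0} : g ∈ Cg a ↔ a.g * g = g * a.g := by
  rw [Cg, Subgroup.mem_centralizer_iff]
  refine ⟨fun h => h _ (Subgroup.mem_zpowers _), fun h x hx => ?_⟩
  obtain ⟨k, rfl⟩ := hx
  exact (show Commute a.g g from h).zpow_left k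

theorem mem_Cg_of (x : LGen) (h : eqB (a.f ∘ x.f) (x.f ∘ a.f) = true) : x.g ∈ Cg a :=
  mem_Cg.2 (g_eq (A := a.comp x) (B := x.comp a) h)

theorem sup_le_Cg : AA a ⊔ Subgroup.center ↥Co0 ≤ Cg a := by
  refine sup_le (Subgroup.zpowers_le.2 (mem_Cg.2 rfl)) fun c hc => mem_Cg.2 ?_
  exact Subgroup.mem_center_iff.1 hc a.g

instance nn_normal : (Nn a).Normal := ⟨fun n hn g => by
  have hc : g * n = n * g := by
    refine Subtype.ext ?_
    show g.1 * n.1 = n.1 * g.1
    obtain ⟨y, hy, c, hc, e⟩ := Subgroup.mem_sup_of_normal_right.1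
      (show n.1 ∈ AA a ⊔ Subgroup.center ↥Co0 from hn)
    rw [← e]
    obtain ⟨k, rfl⟩ := hy
    have h1 : Commute g.1 a.g := (mem_Cg.1 g.2).symm
    exact ((h1.zpow_right k).mul_right (Subgroup.mem_center_iff.1 hc g.1)).eq
  rw [hc, mul_inv_cancel_right]; exact hn⟩

/-- the subgroup factored out, as a list -/
def nList : List LGen :=
  ((List.range p).map (powG a)) ++ ((List.range p).map fun k => (powG a k).comp negG)

/-- membership -/
def nTest (x : LGen) : Bool := (nList a p).any fun n => eqB x.f n.f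

/-- non-membership -/
def notTest (x : LGen) : Bool := (nList a p).all fun n => !eqB x.f n.f

theorem zneg_mem : zneg ∈ AA a ⊔ Subgroup.center ↥Co0 := Subgroup.mem_sup_right zneg_mem_center

theorem nList_mem {n : LGen} (hn : n ∈ nList a p) : n.g ∈ AA a ⊔ Subgroup.center ↥Co0 := by
  have hk : ∀ k, (powG a k).g ∈ AA a ⊔ Subgroup.center ↥Co0 := fun k => by
    rw [powG_g]; exact Subgroup.mem_sup_left (pow_mem (Subgroup.mem_zpowers _) k)
  rcases List.mem_append.1 hn with h | h <;> obtain ⟨k, -, rfl⟩ := List.mem_map.1 h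
  · exact hk k
  · exact mul_mem (hk k) (zneg_mem a)

theorem mem_of_nTest {x : LGen} (h : nTest a p x = true) : x.g ∈ AA a ⊔ Subgroup.center ↥Co0 := by
  obtain ⟨n, hn, e⟩ := List.any_eq_true.1 h
  rw [g_eq e]; exact nList_mem a p hn

/-- the checks on the element -/
def baseTest : Bool :=
  Nat.blt 2 p && eqB (powG a p).f oneG.f && !eqB a.f oneG.f

variable {a p} (hp : p.Prime) (ha : baseTest a p = true)
include hp ha

theorem order_a : orderOf a.g = p := by
  simp only [baseTest, Bool.and_eq_true, Bool.not_eq_true'] at ha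
  have := Fact.mk hp
  refine orderOf_eq_prime ?_ (g_ne (A := a) (B := oneG) ha.2)
  rw [← powG_g]; exact g_eq (B := oneG) ha.1.2

theorem card_AA : Nat.card ↥(AA a) = p := (Nat.card_zpowers a.g).trans (order_a hp ha)

theorem mem_cases {g : ↥Co0} (h : g ∈ AA a ⊔ Subgroup.center ↥Co0) :
    ∃ n ∈ nList a p, g = n.g := by
  obtain ⟨y, hy, c, hc, rfl⟩ := Subgroup.mem_sup_of_normal_right.1 h
  obtain ⟨k, hk, rfl⟩ : ∃ k < p, a.g ^ k = y := by
    classical
    have := finite_co0
    have := (mem_zpowers_iff_mem_range_orderOf (x := a.g)).1 hy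
    rw [order_a hp ha] at this
    obtain ⟨k, hk, e⟩ := Finset.mem_image.1 this
    exact ⟨k, Finset.mem_range.1 hk, e⟩
  rw [← SetLike.mem_coe, card_center_eq] at hc
  rcases hc with rfl | hc
  · exact ⟨powG a k, List.mem_append_left _ (List.mem_map.2 ⟨k, List.mem_range.2 hk, rfl⟩),
      by rw [powG_g, mul_one]⟩
  · rw [Set.mem_singleton_iff] at hc
    subst hc
    exact ⟨(powG a k).comp negG,
      List.mem_append_right _ (List.mem_map.2 ⟨k, List.mem_range.2 hk, rfl⟩),
      by show _ = (powG a k).g * zneg; rw [powG_g]⟩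

theorem not_mem_of_notTest {x : LGen} (h : notTest a p x = true) :
    x.g ∉ AA a ⊔ Subgroup.center ↥Co0 := fun hx => by
  obtain ⟨n, hn, e⟩ := mem_cases hp ha hx
  have := List.all_eq_true.1 h n hn
  simp only [Bool.not_eq_true'] at this
  exact g_ne this e

theorem card_Nn : Nat.card ↥(Nn a) = 2 * p := by
  have := finite_co0
  rw [Nn, Nat.card_congr (Subgroup.subgroupOfEquivOfLe (sup_le_Cg a)).toEquiv]
  have hz : Nat.card ↥(Subgroup.center ↥Co0) = 2 := by
    show Nat.card ↥(Subgroup.center ↥Co0 : Set ↥Co0) = 2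
    rw [card_center_eq, Nat.card_coe_set_eq, Set.ncard_pair (Ne.symm zneg_ne_one)]
  simp only [baseTest, Bool.and_eq_true, Nat.blt_eq] at ha
  refine Nat.dvd_antisymm ?_ ?_
  · have h2 : Nat.card ↥(AA a ⊔ Subgroup.center ↥Co0) ≤ 2 * p := by
      classical
      have hinj : Function.Injective fun x : ↥(AA a ⊔ Subgroup.center ↥Co0) => (x : ↥Co0) :=
        Subtype.val_injective
      calc Nat.card ↥(AA a ⊔ Subgroup.center ↥Co0)
          ≤ ((nList a p).map LGen.g).toFinset.card := by
            rw [← Nat.card_eq_finsetCard]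
            refine Nat.card_le_card_of_injective (fun x => ⟨x.1, ?_⟩) fun x y e => Subtype.ext (congrArg Subtype.val e :)
            obtain ⟨n, hn, e⟩ := mem_cases hp (by simpa [baseTest] using ha) x.2
            exact List.mem_toFinset.2 (List.mem_map.2 ⟨n, hn, e.symm⟩)
        _ ≤ _ := List.toFinset_card_le _
        _ = 2 * p := by simp [nList]; omega
    have h1 := Subgroup.card_dvd_of_le (le_sup_left : AA a ≤ AA a ⊔ Subgroup.center ↥Co0)
    have h3 := Subgroup.card_dvd_of_le (le_sup_right : Subgroup.center ↥Co0 ≤ AA a ⊔ Subgroup.center ↥Co0)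
    rw [card_AA hp (by simpa [baseTest] using ha)] at h1
    rw [hz] at h3
    have hcop : Nat.Coprime 2 p := (Nat.coprime_primes Nat.prime_two hp).2 (by omega)
    have h4 := Nat.le_of_dvd Nat.card_pos (hcop.mul_dvd_of_dvd_of_dvd h3 h1)
    rw [le_antisymm h2 h4]
  · have h1 := Subgroup.card_dvd_of_le (le_sup_left : AA a ≤ AA a ⊔ Subgroup.center ↥Co0)
    have h3 := Subgroup.card_dvd_of_le (le_sup_right : Subgroup.center ↥Co0 ≤ AA a ⊔ Subgroup.center ↥Co0)
    rw [card_AA hp (by simpa [baseTest] using ha)] at h1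
    rw [hz] at h3
    exact ((Nat.coprime_primes Nat.prime_two hp).2 (by omega)).mul_dvd_of_dvd_of_dvd h3 h1

omit hp ha in
/-- the value in the quotient of a list action -/
theorem mk_eq_one {x : LGen} (hx : x.g ∈ Cg a) (h : nTest a p x = true) :
    (QuotientGroup.mk ⟨x.g, hx⟩ : ↥(Cg a) ⧸ Nn a) = 1 :=
  (QuotientGroup.eq_one_iff _).2 (mem_of_nTest a p h)

/-- a simple group mapping nontrivially with a bound just below twice its order is the quotient -/
theorem bijective_of_bound {P : Type*} [Group P] [IsSimpleGroup P] (φ : P →* ↥(Cg a) ⧸ Nn a) (x : P)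
    (hx : φ x ≠ 1) (hb : Nat.card ↥(Cg a) < 2 * (Nat.card P * (2 * p))) : Function.Bijective φ := by
  have := finite_co0
  have hinj : Function.Injective φ := by
    refine (MonoidHom.ker_eq_bot_iff _).1 (((inferInstance : φ.ker.Normal)).eq_bot_or_eq_top.resolve_right ?_)
    intro e
    exact hx (MonoidHom.mem_ker.1 (e ▸ Subgroup.mem_top x))
  refine ⟨hinj, MonoidHom.range_eq_top.1 (Subgroup.index_eq_one.1 ?_)⟩
  have h1 := φ.range.card_mul_index
  have hr : Nat.card ↥φ.range = Nat.card P := (Nat.card_congr (MonoidHom.ofInjective hinj).toEquiv).symm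
  have h2 := (Nn a).card_eq_card_quotient_mul_card_subgroup
  rw [card_Nn hp ha, ← h1, hr] at h2
  have h0 : φ.range.index ≠ 0 := Subgroup.index_ne_zero_of_finite
  by_contra hne
  have h3 : 2 ≤ φ.range.index := by omega
  have : Nat.card P * 2 * (2 * p) ≤ Nat.card P * φ.range.index * (2 * p) :=
    Nat.mul_le_mul_right _ (Nat.mul_le_mul_left _ h3)
  rw [← h2] at this
  linarith [Nat.mul_assoc (Nat.card P) 2 (2 * p)]

omit hp ha

theorem ncard_layer32 : (layer 32).ncard = 196560 := (ncard_layer 32).trans ncard_norm32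

/-- the centraliser is bounded by the stabiliser of a short vector -/
theorem card_Cg_le (u : leechLattice) (hu : sqNorm (u : GolayPt → ℤ) = 32) :
    Nat.card ↥(Cg a) ≤ 196560 * Nat.card ↥(Cg a ⊓ MulAction.stabilizer ↥Co0 u) := by
  rw [card_orbit_stab (Cg a) u]
  refine Nat.mul_le_mul_right _ ?_
  rw [← ncard_layer32]
  refine Set.ncard_le_ncard ?_ (Set.finite_of_ncard_pos (by rw [ncard_layer32]; norm_num))
  rintro _ ⟨g, rfl⟩
  show sqNorm _ = (32 : ℤ)
  rw [← hu]
  exact sqNorm_smul g.1 u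

theorem fixes_image {g : ↥Co0} (hg : g ∈ Cg a) {u : leechLattice} (hu : g • u = u) :
    g • (a.g • u) = a.g • u := by
  rw [← mul_smul, ← mem_Cg.1 hg, mul_smul, hu]

/-- conjugates of the element bound its centraliser -/
theorem card_conj_mul_le (K : Subgroup ↥Co0) {ι : Type} [Fintype ι] (k : ι → ↥Co0)
    (hk : ∀ i, k i ∈ K) (hinj : Function.Injective fun i => k i * a.g * (k i)⁻¹) :
    Fintype.card ι * Nat.card ↥(K ⊓ Cg a) ≤ Nat.card ↥K := by
  have := finite_co0
  have e : Nat.card ↥(K ⊓ Cg a) = Nat.card ↥((K ⊓ Cg a).subgroupOf K) :=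
    (Nat.card_congr (Subgroup.subgroupOfEquivOfLe inf_le_left).toEquiv).symm
  rw [e, ← ((K ⊓ Cg a).subgroupOf K).index_mul_card, Subgroup.index, ← Nat.card_eq_fintype_card]
  refine Nat.mul_le_mul_right _ ?_
  refine Nat.card_le_card_of_injective
    (fun i => (QuotientGroup.mk ⟨k i, hk i⟩ : ↥K ⧸ (K ⊓ Cg a).subgroupOf K)) fun i j h => hinj ?_
  have hc : (k i)⁻¹ * k j ∈ Cg a := (QuotientGroup.eq.1 h).2
  rw [mem_Cg] at hc
  calc k i * a.g * (k i)⁻¹ = k i * (a.g * ((k i)⁻¹ * k j)) * (k j)⁻¹ := by group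
    _ = k i * ((k i)⁻¹ * k j * a.g) * (k j)⁻¹ := by rw [hc]
    _ = k j * a.g * (k j)⁻¹ := by group

omit a p

/-- the stabiliser of a pair with given scalar product -/
theorem card_pair (v w v₀ w₀ : leechLattice) (hv : sqNorm (v : GolayPt → ℤ) = 32)
    (hw : sqNorm (w : GolayPt → ℤ) = 32) (hv₀ : sqNorm (v₀ : GolayPt → ℤ) = 32)
    (hw₀ : sqNorm (w₀ : GolayPt → ℤ) = 32) (D : ℤ) (hD : D = -16 ∨ D = -8)
    (hd : dotInt (v : GolayPt → ℤ) (w : GolayPt → ℤ) = D)
    (hd₀ : dotInt (v₀ : GolayPt → ℤ) (w₀ : GolayPt → ℤ) = D) :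
    Nat.card ↥(MulAction.stabilizer ↥Co0 v ⊓ MulAction.stabilizer ↥Co0 w) =
      Nat.card ↥(MulAction.stabilizer ↥Co0 v₀ ⊓ MulAction.stabilizer ↥Co0 w₀) := by
  obtain ⟨g, g1, g2⟩ := trans_pairs' v w v₀ w₀ hv hw hv₀ hw₀ D hD hd hd₀
  obtain ⟨e⟩ := stab_pair_iso g v w
  rw [g1, g2] at e
  exact Nat.card_congr e.toEquiv

/-- an orbit lowers the stabiliser -/
theorem orbit_mul_le (V : Subgroup ↥Co0) (y : leechLattice) (n : ℕ)
    (h : n ≤ (MulAction.orbit ↥V y).ncard) :
    n * Nat.card ↥(V ⊓ MulAction.stabilizer ↥Co0 y) ≤ Nat.card ↥V :=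
  (Nat.mul_le_mul_right _ h).trans (card_orbit_stab V y).ge

end Cfsg.Agent.CoSection
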