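import Cfsg.Agent.CoSection.CentCert

/-! Data: an element of order five and elements centralising it. -/

set_option autoImplicit false

namespace Cfsg.Agent.CoSection.J2
open Cfsg Cfsg.Agent.Leech

/-- a transporter onto the standard triple -/
def trM : List (List ℤ) := [
  [-2, -2, 0, 0, 2, -2, 0, 2, 0, 2, 2, 2, 2, 0, 0, 0, -4, 0, -2, 0, 2, 0, 0, -2],
  [-2, 2, -4, 0, 2, 2, 0, -2, 0, 2, 2, -2, 2, 0, 0, 0, 0, 0, -2, 0, -2, 0, 0, 2],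
  [4, 0, -2, -2, 0, 0, -2, 0, 2, 0, 0, 0, 0, 2, 2, -2, -2, -2, 0, -2, 0, -2, -2, 0],
  [2, -2, 0, 0, -2, 2, 0, 2, 0, -2, 2, 2, 2, 0, -4, 0, 0, 0, -2, 0, -2, 0, 0, 2],
  [0, 0, -2, 2, 0, 0, -2, 0, 2, 0, 0, 0, 0, -2, -2, -2, 2, -2, 0, 2, 0, 2, -2, -4],
  [2, 2, 0, 0, -2, -2, 4, -2, 0, 2, -2, 2, 2, 0, 0, 0, 0, 0, -2, 0, -2, 0, 0, -2],
  [-2, 2, 0, 0, -2, -2, 0, 2, 4, -2, -2, -2, 2, 0, 0, 0, 0, 0, -2, 0, 2, 0, 0, 2],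
  [2, -2, 0, 0, 2, 2, 0, -2, 0, -2, -2, -2, 2, 0, 0, 4, 0, 0, -2, 0, 2, 0, 0, -2],
  [0, 0, -2, -2, 0, 0, 2, 0, -2, -4, 0, 0, 0, -2, 2, -2, -2, 2, 0, 2, 0, 2, -2, 0],
  [0, 0, -2, -2, 0, -4, -2, 0, -2, 0, 0, 0, 0, 2, -2, 2, 2, 2, 0, 2, 0, -2, -2, 0],
  [2, 2, 0, 0, 2, 2, 0, 2, 0, 2, -2, 2, -2, 0, 0, 0, 0, 0, -2, 4, 2, 0, 0, 2],
  [0, 0, -2, -2, 0, 0, 2, 0, 2, 0, 0, 0, 0, 2, -2, 2, -2, -2, 4, 2, 0, 2, 2, 0],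
  [0, 0, -2, 2, 0, 0, 2, 0, 2, 0, 0, 0, -4, -2, -2, 2, -2, 2, 0, -2, 0, -2, -2, 0],
  [-2, 2, 0, 0, -2, 2, 0, -2, 0, -2, 2, 2, -2, 4, 0, 0, 0, 0, -2, 0, 2, 0, 0, -2],
  [2, -2, 0, 0, -2, -2, 0, -2, 0, 2, 2, -2, -2, 0, 0, 0, 0, 0, -2, 0, 2, 4, 0, 2],
  [0, 0, -2, 2, 0, 0, 2, 4, -2, 0, 0, 0, 0, 2, 2, 2, 2, -2, 0, -2, 0, 2, -2, 0],
  [0, 4, 2, -2, 0, 0, -2, 0, -2, 0, 0, 0, 0, -2, -2, 2, -2, -2, 0, -2, 0, 2, -2, 0],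
  [-2, -2, 0, 0, 2, -2, 0, -2, 0, -2, -2, 2, -2, 0, 0, 0, 0, -4, -2, 0, -2, 0, 0, 2],
  [0, 0, 2, -2, 0, 0, 2, 0, 2, 0, 4, 0, 0, -2, 2, 2, 2, -2, 0, 2, 0, -2, -2, 0],
  [0, 0, 2, 2, 0, 0, 2, 0, -2, 0, 0, -4, 0, 2, -2, -2, -2, -2, 0, 2, 0, -2, -2, 0],
  [-2, -2, 0, -4, -2, 2, 0, 2, 0, 2, -2, -2, -2, 0, 0, 0, 0, 0, -2, 0, -2, 0, 0, -2],
  [0, 0, 2, 2, 0, 0, -2, 0, 2, 0, 0, 0, 0, 2, 2, 2, -2, 2, 0, 2, -4, 2, -2, 0],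
  [-2, -2, 0, 0, -2, 2, 0, -2, 0, 2, -2, 2, 2, 0, 0, 0, 0, 0, 2, 0, 2, 0, -4, 2],
  [0, 0, 2, -2, 4, 0, 2, 0, 2, 0, 0, 0, 0, 2, -2, -2, 2, 2, 0, -2, 0, 2, -2, 0]]

theorem trM_ok : matOK trM = true := by decide +kernel

/-- a transporter onto the standard triple -/
def trEl : LGen := matGen trM trM_ok

/-- a generator of a point stabiliser -/
def k3El0M : List (List ℤ) := [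
  [4, 2, 0, 0, 0, -2, -4, 0, 0, 0, 0, 0, 0, 0, -2, 2, 0, 0, 0, -2, -2, -2, 0, -2],
  [0, 2, 0, 0, 0, 2, 0, 0, -4, 0, 0, 0, 4, 0, 2, 2, 0, 0, 0, -2, -2, 2, 0, 2],
  [0, 2, 4, 0, 0, 2, 0, 4, 0, 0, 0, 0, 0, 0, 2, -2, 0, 0, 0, -2, 2, -2, 0, -2],
  [2, 0, -2, 2, 2, 0, 2, 2, -2, -2, -2, 2, -2, -2, 0, 0, 2, -2, -2, 0, 0, 0, 2, 0],
  [-2, 0, -2, -2, -2, 0, -2, 2, -2, 2, -2, -2, -2, 2, 0, 0, -2, -2, -2, 0, 0, 0, 2, 0],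
  [0, 2, 0, -4, 0, 2, 0, 0, 0, -4, 0, 0, 0, 0, -2, -2, 0, 0, 0, 2, -2, -2, 0, 2],
  [-4, 2, 0, 0, 0, -2, 4, 0, 0, 0, 0, 0, 0, 0, -2, 2, 0, 0, 0, -2, -2, -2, 0, -2],
  [0, -2, 4, 0, 0, -2, 0, 4, 0, 0, 0, 0, 0, 0, -2, 2, 0, 0, 0, 2, -2, 2, 0, 2],
  [-2, 0, -2, -2, 2, 0, -2, 2, 2, 2, -2, 2, 2, -2, 0, 0, 2, -2, 2, 0, 0, 0, -2, 0],
  [2, 0, -2, -2, -2, 0, 2, 2, 2, 2, 2, 2, 2, 2, 0, 0, 2, 2, -2, 0, 0, 0, 2, 0],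
  [2, 0, -2, -2, 2, 0, 2, 2, -2, 2, 2, -2, -2, -2, 0, 0, -2, 2, 2, 0, 0, 0, -2, 0],
  [0, -2, 0, 0, 0, -2, 0, 0, 0, 0, 0, 4, 0, 0, 2, -2, -4, 0, 0, -2, -2, -2, 0, 2],
  [2, 0, 2, -2, 2, 0, 2, -2, 2, 2, -2, -2, 2, -2, 0, 0, -2, -2, -2, 0, 0, 0, 2, 0],
  [-2, 0, -2, 2, 2, 0, -2, 2, 2, -2, 2, -2, 2, -2, 0, 0, -2, 2, -2, 0, 0, 0, 2, 0],
  [0, 2, 0, 0, 0, -2, 0, 0, 0, 0, -4, 0, 0, 0, 2, 2, 0, 4, 0, 2, 2, -2, 0, 2],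
  [0, 2, 0, 0, 0, -2, 0, 0, 0, 0, 4, 0, 0, 0, 2, 2, 0, -4, 0, 2, 2, -2, 0, 2],
  [0, -2, 0, 0, 0, -2, 0, 0, 0, 0, 0, -4, 0, 0, 2, -2, 4, 0, 0, -2, -2, -2, 0, 2],
  [-2, 0, 2, -2, 2, 0, -2, -2, -2, 2, 2, 2, -2, -2, 0, 0, 2, 2, -2, 0, 0, 0, 2, 0],
  [0, -2, 0, 0, 0, 2, 0, 0, 0, 0, 0, 0, 0, 0, -2, 2, 0, 0, 4, -2, 2, -2, 4, 2],
  [0, 2, 0, 0, 4, -2, 0, 0, 0, 0, 0, 0, 0, 4, -2, -2, 0, 0, 0, -2, 2, 2, 0, 2],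
  [0, -2, 0, -4, 0, -2, 0, 0, 0, -4, 0, 0, 0, 0, 2, 2, 0, 0, 0, -2, 2, 2, 0, -2],
  [0, -2, 0, 0, 4, 2, 0, 0, 0, 0, 0, 0, 0, 4, 2, 2, 0, 0, 0, 2, -2, -2, 0, -2],
  [0, 2, 0, 0, 0, -2, 0, 0, 0, 0, 0, 0, 0, 0, 2, -2, 0, 0, 4, 2, -2, 2, 4, -2],
  [0, 2, 0, 0, 0, 2, 0, 0, 4, 0, 0, 0, -4, 0, 2, 2, 0, 0, 0, -2, -2, 2, 0, 2]]

theorem k3El0M_ok : matOK k3El0M = true := by decide +kernel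

/-- a generator of a point stabiliser -/
def k3El0 : LGen := matGen k3El0M k3El0M_ok

/-- a generator of a point stabiliser -/
def k3El1M : List (List ℤ) := [
  [1, 1, 3, 1, 1, 3, -1, 1, 1, -1, 1, -1, 3, -1, -1, -1, 1, -1, -1, 1, -1, -3, 1, -3],
  [1, 1, -1, 1, -3, -1, -1, -3, 1, -1, 1, -1, 3, 3, 3, -1, 1, -1, -1, 1, -1, 1, 1, 1],
  [3, -1, 1, -1, -1, 1, 1, 3, -1, -3, -1, 1, 1, 1, 1, 1, -1, 1, 1, -1, 1, 3, 3, -1],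
  [-1, -1, 1, -1, -1, 1, -3, -1, -1, -3, -1, 1, -3, 1, 1, 1, -1, -3, 1, -1, -3, -1, -1, -1],
  [-1, -1, 1, -1, 3, 1, 1, -1, 3, 1, -1, 1, 1, 1, 1, 1, 3, -3, 1, -1, 1, 3, -1, -1],
  [3, 3, 1, -1, 3, 1, 1, -1, -1, 1, -1, 1, 1, 1, 1, 1, -1, 1, 1, -1, -3, -1, -1, 3],
  [1, 1, -1, -3, 1, -1, -1, 1, 1, -1, 1, 3, -1, -1, -1, -1, 1, -1, -1, 5, -1, 1, 1, 1],
  [-1, -1, 1, -1, -1, -3, 1, 3, 3, 1, -1, 1, 1, 1, 1, -3, -1, 1, 1, -1, -3, -1, -1, -1],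
  [1, -3, -1, 1, 1, 3, -1, 1, 1, 3, 1, -1, -1, -1, 3, -1, -3, -1, -1, 1, -1, 1, 1, 1],
  [-1, -1, 1, -5, -1, 1, 1, -1, -1, 1, -1, -3, 1, 1, 1, 1, -1, 1, 1, 3, 1, -1, -1, -1],
  [1, 1, -1, 1, 1, -1, -1, 1, 1, -1, 1, -1, -1, -1, 3, 3, 1, 3, -1, 1, -1, 1, -3, -3],
  [-1, -1, 1, -1, 3, -3, -3, -1, -1, 1, -1, 1, 1, 1, 1, 1, -1, 1, -3, -1, 1, -1, 3, -1],
  [1, 1, -1, 1, 1, -1, 3, -3, 1, -1, -3, -1, -1, -1, -1, -1, -3, -1, -1, 1, -1, 1, 1, -3],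
  [-1, -1, 1, -1, -1, 1, 1, -1, 3, -3, -1, 1, 1, -3, 1, 1, -1, 1, -3, -1, 1, -1, -1, 3],
  [-1, 3, 1, -1, -1, 1, 1, -1, 3, 1, 3, 1, -3, 1, 1, 1, -1, 1, 1, -1, 1, -1, 3, -1],
  [-1, -1, -3, -1, 3, 1, 1, -1, -1, -3, 3, 1, 1, 1, 1, -3, -1, 1, 1, -1, 1, -1, -1, -1],
  [-1, -1, -3, -1, -1, 1, 1, -1, -1, 1, -1, 1, 1, -3, 1, 1, 3, 1, 1, -1, -3, -1, 3, -1],
  [-3, 1, 3, 1, 1, -1, 3, 1, -3, -1, 1, -1, -1, -1, 3, -1, 1, -1, -1, 1, -1, 1, 1, 1],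
  [1, -3, 3, 1, 1, -1, -1, -3, 1, -1, 1, -1, -1, -1, -1, -1, 1, 3, 3, 1, -1, 1, 1, 1],
  [1, -3, -1, 1, 1, -1, 3, 1, 1, -1, 1, -1, -1, 3, -1, 3, 1, -1, -1, 1, -1, -3, 1, 1],
  [-1, -1, 1, 3, -1, 1, 1, -1, -1, 1, -1, 5, 1, 1, 1, 1, -1, 1, 1, 3, 1, -1, -1, -1],
  [-3, 1, -1, 1, 1, -1, -1, 1, 1, -1, 1, -1, 3, -1, -1, 3, -3, -1, 3, 1, -1, 1, 1, 1],
  [1, 1, -1, 1, 1, -1, -1, 1, 1, -1, -3, -1, -1, -1, 3, -1, 1, -1, 3, 1, 3, -3, 1, 1],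
  [-3, 1, -1, 1, 1, 3, -1, 1, 1, -1, -3, -1, -1, 3, -1, -1, 1, 3, -1, 1, -1, 1, 1, 1]]

theorem k3El1M_ok : matOK k3El1M = true := by decide +kernel

/-- a generator of a point stabiliser -/
def k3El1 : LGen := matGen k3El1M k3El1M_ok

/-- the short vector -/
def uL : List ℤ := [-2, 0, 0, 0, 0, 0, 0, 0, 0, 0, 0, 0, -2, 0, 2, 0, 2, 2, 2, 0, 0, 0, 2, 2]

/-- a walk through the orbit -/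
def opsX : ℕ := 0x555c000c0000000000000800000001556555c00155655581556001557555c5558155655595571556555d55615560555d55655595571556155655595575559556555d556555d55655585558555d55655585559556555d55655595575559556555d55655595575559556555

/-- its length -/
def lenX : ℕ := 426

/-- a modulus separating the orbit -/
def modX : ℕ := 4051

/-- a walk through the orbit -/
def ops3 : ℕ := 0x5816000000000000161616000000160000000580000000596160000160585858000005858000000585816161616580165816581616005965816596059658581659659616585965965961616165965961616596585965965961659659658596596596165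

/-- its length -/
def len3 : ℕ := 398

/-- a modulus separating the orbit -/
def mod3 : ℕ := 2773

end Cfsg.Agent.CoSection.J2
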