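import Cfsg.Agent.CoSection.CentCert

/-! Data: an element of order five and elements centralising it. -/

set_option autoImplicit false

namespace Cfsg.Agent.CoSection.J2
open Cfsg Cfsg.Agent.Leech

/-- a conjugating element -/
def cEl0M : List (List ℤ) := [
  [8, 0, 0, 0, 0, 0, 0, 0, 0, 0, 0, 0, 0, 0, 0, 0, 0, 0, 0, 0, 0, 0, 0, 0],
  [0, 8, 0, 0, 0, 0, 0, 0, 0, 0, 0, 0, 0, 0, 0, 0, 0, 0, 0, 0, 0, 0, 0, 0],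
  [0, 0, 8, 0, 0, 0, 0, 0, 0, 0, 0, 0, 0, 0, 0, 0, 0, 0, 0, 0, 0, 0, 0, 0],
  [0, 0, 0, 8, 0, 0, 0, 0, 0, 0, 0, 0, 0, 0, 0, 0, 0, 0, 0, 0, 0, 0, 0, 0],
  [0, 0, 0, 0, 8, 0, 0, 0, 0, 0, 0, 0, 0, 0, 0, 0, 0, 0, 0, 0, 0, 0, 0, 0],
  [0, 0, 0, 0, 0, 8, 0, 0, 0, 0, 0, 0, 0, 0, 0, 0, 0, 0, 0, 0, 0, 0, 0, 0],
  [0, 0, 0, 0, 0, 0, 8, 0, 0, 0, 0, 0, 0, 0, 0, 0, 0, 0, 0, 0, 0, 0, 0, 0],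
  [0, 0, 0, 0, 0, 0, 0, 8, 0, 0, 0, 0, 0, 0, 0, 0, 0, 0, 0, 0, 0, 0, 0, 0],
  [0, 0, 0, 0, 0, 0, 0, 0, 8, 0, 0, 0, 0, 0, 0, 0, 0, 0, 0, 0, 0, 0, 0, 0],
  [0, 0, 0, 0, 0, 0, 0, 0, 0, 8, 0, 0, 0, 0, 0, 0, 0, 0, 0, 0, 0, 0, 0, 0],
  [0, 0, 0, 0, 0, 0, 0, 0, 0, 0, 8, 0, 0, 0, 0, 0, 0, 0, 0, 0, 0, 0, 0, 0],
  [0, 0, 0, 0, 0, 0, 0, 0, 0, 0, 0, 8, 0, 0, 0, 0, 0, 0, 0, 0, 0, 0, 0, 0],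
  [0, 0, 0, 0, 0, 0, 0, 0, 0, 0, 0, 0, 8, 0, 0, 0, 0, 0, 0, 0, 0, 0, 0, 0],
  [0, 0, 0, 0, 0, 0, 0, 0, 0, 0, 0, 0, 0, 8, 0, 0, 0, 0, 0, 0, 0, 0, 0, 0],
  [0, 0, 0, 0, 0, 0, 0, 0, 0, 0, 0, 0, 0, 0, 8, 0, 0, 0, 0, 0, 0, 0, 0, 0],
  [0, 0, 0, 0, 0, 0, 0, 0, 0, 0, 0, 0, 0, 0, 0, 8, 0, 0, 0, 0, 0, 0, 0, 0],
  [0, 0, 0, 0, 0, 0, 0, 0, 0, 0, 0, 0, 0, 0, 0, 0, 8, 0, 0, 0, 0, 0, 0, 0],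
  [0, 0, 0, 0, 0, 0, 0, 0, 0, 0, 0, 0, 0, 0, 0, 0, 0, 8, 0, 0, 0, 0, 0, 0],
  [0, 0, 0, 0, 0, 0, 0, 0, 0, 0, 0, 0, 0, 0, 0, 0, 0, 0, 8, 0, 0, 0, 0, 0],
  [0, 0, 0, 0, 0, 0, 0, 0, 0, 0, 0, 0, 0, 0, 0, 0, 0, 0, 0, 8, 0, 0, 0, 0],
  [0, 0, 0, 0, 0, 0, 0, 0, 0, 0, 0, 0, 0, 0, 0, 0, 0, 0, 0, 0, 8, 0, 0, 0],
  [0, 0, 0, 0, 0, 0, 0, 0, 0, 0, 0, 0, 0, 0, 0, 0, 0, 0, 0, 0, 0, 8, 0, 0],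
  [0, 0, 0, 0, 0, 0, 0, 0, 0, 0, 0, 0, 0, 0, 0, 0, 0, 0, 0, 0, 0, 0, 8, 0],
  [0, 0, 0, 0, 0, 0, 0, 0, 0, 0, 0, 0, 0, 0, 0, 0, 0, 0, 0, 0, 0, 0, 0, 8]]

theorem cEl0M_ok : matOK cEl0M = true := by decide +kernel

/-- a conjugating element -/
def cEl0 : LGen := matGen cEl0M cEl0M_ok

/-- a conjugating element -/
def cEl1M : List (List ℤ) := [
  [1, 1, 1, 3, -1, -1, 1, 1, -1, 1, -3, -1, 3, -1, -3, -3, 1, -1, 1, -1, -1, 1, -1, -1],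
  [1, 1, 1, -1, -1, 3, 1, -3, -1, 1, -3, -1, -1, -1, 1, 1, -3, -1, 1, -1, -1, 1, -1, 3],
  [3, -1, 3, 1, 1, -3, -1, -1, -3, -1, -1, 1, 1, 1, 3, -1, -1, 1, -1, 1, 1, -1, 1, 1],
  [1, 1, 1, -1, -1, -1, 1, -3, -1, 1, 1, 3, -1, -1, -3, 1, 1, 3, 1, -1, -1, -3, -1, -1],
  [-1, -1, -1, 1, 1, 1, -1, -1, -3, 3, 3, 1, 1, 1, -1, -1, -1, 1, -1, -3, 1, 3, 1, 1],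
  [1, 1, -3, -1, -1, -1, -3, 1, -1, 1, 1, -1, 3, -1, 1, 1, 1, -1, 1, -1, -1, -3, -1, 3],
  [-1, 3, -1, 1, 1, -3, -1, -1, 1, -1, -1, 1, 1, -3, -1, 3, -1, 1, -1, 1, 1, 3, 1, 1],
  [1, -3, -3, -1, -1, -1, 1, 1, -1, 1, -3, 3, -1, -1, 1, 1, 1, -1, 1, -1, 3, 1, -1, -1],
  [-1, -1, -1, -3, 1, -3, 3, -1, 1, -1, -1, -3, 1, 1, -1, -1, -1, 1, -1, -3, 1, -1, 1, 1],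
  [-3, -3, 1, -1, -1, -1, 1, -3, -1, 1, 1, -1, 3, -1, 1, 1, 1, -1, 1, 3, -1, 1, -1, -1],
  [1, 1, 1, -1, -1, -1, 1, 1, -1, 1, 1, -1, -1, 3, -3, 1, 1, -1, 1, 3, 3, 1, -1, 3],
  [-3, 1, 1, 3, -1, -1, 1, 1, -1, 1, 1, -1, -1, -1, 1, 1, -3, -1, 1, -1, 3, -3, -1, -1],
  [3, -1, -1, 1, 1, 1, 3, -1, 1, -1, 3, 1, 1, -3, -1, -1, -1, -3, -1, 1, 1, -1, 1, 1],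
  [-1, -1, -1, 1, 1, -3, -1, -1, 1, 3, -1, 1, -3, 1, -1, -1, -1, -3, -1, 1, -3, -1, 1, 1],
  [-3, 1, 1, -1, -1, -1, 1, 1, -1, -3, 1, 3, -1, -1, 1, -3, 1, -1, 1, -1, -1, 1, -1, 3],
  [-1, -1, -1, 1, 1, 1, 3, 3, -3, -1, -1, 1, 1, 1, -1, 3, -1, 1, -1, 1, -3, -1, 1, 1],
  [-1, -1, -1, 1, 1, 1, -1, -1, -3, -1, -1, -3, -3, -3, -1, -1, 3, 1, -1, 1, 1, -1, 1, 1],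
  [1, -3, 1, 3, -1, -1, 1, 1, 3, 1, 1, -1, -1, -1, 1, 1, 1, 3, 1, -1, -1, 1, -1, 3],
  [1, 1, 1, -1, 3, -1, 1, 1, -1, 1, 1, -1, -1, -1, 1, 1, 1, -1, 5, -1, -1, 1, 3, -1],
  [-1, -1, -1, 1, 5, 1, -1, -1, 1, -1, -1, 1, 1, 1, -1, -1, -1, 1, 3, 1, 1, -1, -3, 1],
  [-1, -1, 3, -3, 1, 1, -1, 3, 1, 3, -1, 1, 1, -3, -1, -1, -1, 1, -1, 1, 1, -1, 1, 1],
  [1, 1, -3, -1, -1, -1, 1, 1, -1, 1, 1, -1, -1, -1, 1, -3, -3, 3, 1, 3, -1, 1, -1, -1],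
  [-1, -1, -1, 1, -3, 1, -1, -1, 1, -1, -1, 1, 1, 1, -1, -1, -1, 1, 3, 1, 1, -1, 5, 1],
  [-1, 3, -1, 1, 1, 1, 3, -1, 1, 3, -1, 1, 1, 1, 3, -1, 3, 1, -1, 1, 1, -1, 1, 1]]

theorem cEl1M_ok : matOK cEl1M = true := by decide +kernel

/-- a conjugating element -/
def cEl1 : LGen := matGen cEl1M cEl1M_ok

/-- a conjugating element -/
def cEl2M : List (List ℤ) := [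
  [3, 1, 1, 1, -1, 1, -3, -1, -3, -1, 1, 1, 1, -1, 1, 3, 1, -1, -1, -1, -1, -1, -1, -3],
  [1, 3, -1, -1, -3, 3, 3, -3, -1, 1, -1, -1, -1, 1, -1, 1, -1, 1, 1, 1, 1, 1, 1, -1],
  [1, -1, 3, -1, 1, -1, -1, 1, -1, 1, -1, -1, -1, 1, -1, 1, -1, -3, 1, 1, 1, 1, 5, -1],
  [1, -1, -1, -1, 1, -1, -1, -3, -1, -3, -1, 3, -1, 1, -1, -3, -1, 1, 1, 1, -3, 1, 1, -1],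
  [-1, 1, 1, 1, 3, 1, 1, -1, -3, -1, 1, 1, 1, 3, 1, -1, 1, -1, -1, -1, 3, 3, -1, 1],
  [-1, 1, -3, 1, -1, 1, 1, -1, 1, -1, 1, 1, 1, -1, 1, -1, 1, -5, -1, -1, -1, -1, 3, 1],
  [-1, 1, 1, 1, 3, 1, 1, -1, 1, -1, 1, 1, 1, -1, 1, 3, -3, -1, 3, 3, -1, -1, -1, 1],
  [-3, -1, -1, 3, -3, -1, -1, 1, -1, 1, -1, 3, 3, 1, -1, 1, -1, 1, 1, 1, 1, 1, 1, -1],
  [-1, 1, 1, -3, -1, -3, 1, -1, -3, 3, 1, 1, 1, -1, 1, -1, 1, -1, -1, 3, -1, -1, -1, 1],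
  [-3, 3, -1, -1, 1, -1, -1, 1, -1, -3, -1, -1, -1, 1, -1, 1, -1, 1, -3, 1, 1, -3, 1, -1],
  [1, -1, -1, -1, 1, 3, -1, 1, -1, 1, -1, 3, -1, -3, -1, 1, -1, 1, -3, 1, 1, 1, 1, 3],
  [1, -1, -1, -1, 1, -1, 3, 1, -1, 1, 3, 3, -1, 1, -1, 1, -1, 1, 1, -3, 1, -3, 1, -1],
  [3, 1, 1, 1, -1, 1, 1, 3, 1, -1, 1, 1, 1, 3, -3, -1, 1, -1, -1, 3, -1, -1, -1, 1],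
  [-1, -3, 1, -3, -1, 1, 1, -1, 1, -1, -3, 1, 1, 3, 1, 3, 1, -1, -1, -1, -1, -1, -1, 1],
  [1, 3, -1, -1, 1, -1, -1, 1, 3, 1, -1, 3, -1, 1, 3, 1, 3, 1, 1, 1, 1, 1, 1, -1],
  [1, -1, -1, 3, 1, -1, 3, 1, -1, 1, -1, -1, -1, 1, 3, 1, -1, 1, -3, 1, -3, 1, 1, -1],
  [1, -1, -1, 3, 1, -1, -1, -3, -1, 1, -1, -1, -1, 1, -1, 1, 3, 1, 1, 1, 1, -3, 1, 3],
  [1, -1, -1, -1, -3, -1, -1, 1, -1, -3, 3, -1, -1, 1, 3, 1, -1, 1, 1, 1, 1, 1, 1, 3],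
  [-1, 1, 1, 1, -1, 1, 1, 3, -3, -1, -3, 1, -3, -1, 1, -1, 1, -1, 3, -1, -1, -1, -1, 1],
  [-1, 1, 1, 1, -1, 1, -3, -1, 1, 3, 1, 1, -3, 3, 1, -1, -3, -1, -1, -1, -1, -1, -1, 1],
  [-1, -3, 1, 1, -1, 1, 1, -1, 1, -1, 1, 1, -3, -1, 1, -1, 1, -1, -1, 3, 3, -1, -1, -3],
  [-1, 1, 1, 1, -1, -3, 1, -1, 1, -1, 1, 1, -3, -1, -3, 3, 1, -1, -1, -1, -1, 3, -1, 1],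
  [-1, 1, 5, 1, -1, 1, 1, -1, 1, -1, 1, 1, 1, -1, 1, -1, 1, 3, -1, -1, -1, -1, 3, 1],
  [-3, -1, -1, -1, 1, 3, -1, 1, -1, 1, 3, -1, -1, 1, -1, 1, 3, 1, 1, 1, -3, 1, 1, -1]]

theorem cEl2M_ok : matOK cEl2M = true := by decide +kernel

/-- a conjugating element -/
def cEl2 : LGen := matGen cEl2M cEl2M_ok

/-- a conjugating element -/
def cEl3M : List (List ℤ) := [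
  [2, -2, -2, 2, 0, 2, -2, 0, 0, 0, -2, 0, 2, 0, -2, 0, -2, -2, 2, -2, -2, 0, 2, -2],
  [0, 4, 0, 0, -2, 0, 0, 2, -2, 2, 0, -2, 0, 2, 0, -2, 0, 0, 0, 0, -4, 2, 0, 0],
  [0, 0, 4, 0, -2, 0, 0, 2, 2, -2, 0, 2, 0, 2, 0, -2, 0, 0, 0, -4, 0, -2, 0, 0],
  [0, 0, 0, -4, -2, 0, 0, -2, -2, -2, -4, 2, 0, -2, 0, -2, 0, 0, 0, 0, 0, 2, 0, 0],
  [-2, 2, -2, -2, 0, 2, -2, 0, 0, 0, 2, 0, -2, 0, -2, 0, -2, 2, -2, -2, 2, 0, 2, -2],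
  [0, 0, 0, 0, -2, 4, 4, -2, 2, 2, 0, -2, 0, -2, 0, -2, 0, 0, 0, 0, 0, -2, 0, 0],
  [0, 0, 0, 0, 2, 4, 4, 2, -2, -2, 0, 2, 0, 2, 0, 2, 0, 0, 0, 0, 0, 2, 0, 0],
  [0, 0, 0, 0, 2, 0, 0, 2, -2, 2, 0, 2, 0, -2, 4, -2, -4, 0, 0, 0, 0, -2, 0, 0],
  [0, 0, 0, 0, 2, 0, 0, -2, 2, 2, 0, 2, -4, 2, 0, -2, 0, -4, 0, 0, 0, 2, 0, 0],
  [-2, -2, -2, -2, 0, -2, 2, 0, 0, 0, 2, 0, 2, 0, 2, 0, 2, -2, -2, -2, -2, 0, 2, -2],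
  [0, 0, -4, 0, -2, 0, 0, 2, 2, -2, 0, 2, 0, 2, 0, -2, 0, 0, 0, 4, 0, -2, 0, 0],
  [-2, -2, 2, 2, 0, -2, 2, 0, 0, 0, -2, 0, -2, 0, -2, 0, -2, 2, -2, 2, -2, 0, 2, -2],
  [0, 0, 0, 0, 2, 0, 0, -2, -2, -2, 0, -2, 0, 2, 0, -2, 0, 0, 0, 0, 0, -2, -4, -4],
  [0, 0, 0, 0, 2, 0, 0, -2, 2, 2, 0, 2, 4, 2, 0, -2, 0, 4, 0, 0, 0, 2, 0, 0],
  [-4, 0, 0, 0, 2, 0, 0, 2, 2, -2, 0, -2, 0, -2, 0, -2, 0, 0, 4, 0, 0, 2, 0, 0],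
  [2, -2, -2, -2, 0, -2, 2, 0, 0, 0, 2, 0, -2, 0, -2, 0, -2, 2, 2, -2, -2, 0, -2, 2],
  [0, 0, 0, 0, 2, 0, 0, -2, -2, -2, 0, -2, 0, 2, 0, -2, 0, 0, 0, 0, 0, -2, 4, 4],
  [-4, 0, 0, 0, -2, 0, 0, -2, -2, 2, 0, 2, 0, 2, 0, 2, 0, 0, 4, 0, 0, -2, 0, 0],
  [2, 2, -2, 2, 0, -2, 2, 0, 0, 0, -2, 0, -2, 0, 2, 0, 2, 2, 2, -2, 2, 0, 2, -2],
  [0, 0, 0, -4, 2, 0, 0, 2, 2, 2, -4, -2, 0, 2, 0, 2, 0, 0, 0, 0, 0, -2, 0, 0],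
  [0, -4, 0, 0, -2, 0, 0, 2, -2, 2, 0, -2, 0, 2, 0, -2, 0, 0, 0, 0, 4, 2, 0, 0],
  [0, 0, 0, 0, -2, 0, 0, -2, 2, -2, 0, -2, 0, 2, 4, 2, -4, 0, 0, 0, 0, 2, 0, 0],
  [2, -2, 2, -2, 0, 2, -2, 0, 0, 0, 2, 0, -2, 0, 2, 0, 2, 2, 2, 2, -2, 0, 2, -2],
  [-2, -2, -2, 2, 0, 2, -2, 0, 0, 0, -2, 0, -2, 0, 2, 0, 2, 2, -2, -2, -2, 0, -2, 2]]

theorem cEl3M_ok : matOK cEl3M = true := by decide +kernel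

/-- a conjugating element -/
def cEl3 : LGen := matGen cEl3M cEl3M_ok

/-- a conjugating element -/
def cEl4M : List (List ℤ) := [
  [2, 2, -2, 0, -2, 0, -2, 2, -4, 0, -2, 0, 0, -2, -2, -2, 0, -2, 0, 0, 0, 0, 0, -2],
  [2, 2, -2, 0, -2, 0, 2, -2, 0, 0, -2, 0, 0, 2, 2, 2, 0, -2, 0, -4, 0, 0, 0, 2],
  [0, 0, 4, 2, 0, -2, 0, 0, -2, -2, 0, -2, -2, 0, 0, 0, -2, 0, -2, -2, 2, -2, 2, 0],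
  [2, 2, 2, -4, 2, 0, -2, -2, 0, 0, -2, 0, 0, -2, 2, 2, 0, 2, 0, 0, 0, 0, 0, -2],
  [-2, -2, -2, 0, 2, -4, -2, -2, 0, 0, -2, 0, 0, -2, -2, 2, 0, -2, 0, 0, 0, 0, 0, 2],
  [0, 0, 0, -2, 0, 2, 0, 0, 2, -2, 0, -2, -2, 0, -4, 0, 2, 0, -2, -2, -2, 2, 2, 0],
  [-2, 2, -2, 0, 2, 0, 2, 2, 0, -4, 2, 0, 0, -2, 2, 2, 0, -2, 0, 0, 0, 0, 0, -2],
  [-2, -2, 2, 0, -2, 0, -2, 2, 0, 0, -2, 0, 0, 2, 2, 2, 0, -2, 0, 0, 0, 4, 0, -2],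
  [0, 0, 0, -2, 0, -2, 0, 0, -2, -2, 0, 2, -2, 4, 0, 0, 2, 0, -2, 2, -2, -2, -2, 0],
  [0, 0, 0, 2, 4, 2, 0, 0, -2, 2, 0, 2, -2, 0, 0, 0, 2, 0, -2, -2, 2, 2, -2, 0],
  [0, 0, 0, -2, 0, 2, 0, 0, -2, -2, 0, 2, 2, 0, 0, 0, -2, 0, -2, 2, 2, 2, 2, 4],
  [0, 0, 0, -2, 0, -2, 0, 0, 2, -2, 0, 2, -2, 0, 0, -4, -2, 0, 2, -2, 2, 2, -2, 0],
  [-2, 2, 2, 0, 2, 0, 2, -2, 0, 0, -2, 0, 4, 2, -2, -2, 0, -2, 0, 0, 0, 0, 0, -2],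
  [-2, -2, -2, 0, -2, 0, 2, -2, 0, 0, -2, 0, 0, -2, 2, -2, 0, 2, -4, 0, 0, 0, 0, -2],
  [0, 0, 0, -2, 0, -2, 4, 0, -2, 2, 0, -2, -2, 0, 0, 0, 2, 0, 2, 2, 2, 2, 2, 0],
  [-2, 2, 2, 0, -2, 0, 2, 2, 0, 0, -2, 0, 0, -2, -2, 2, 0, 2, 0, 0, 0, 0, -4, 2],
  [-2, 2, 2, 0, -2, 0, -2, -2, 0, 0, 2, 0, 0, -2, 2, -2, 4, -2, 0, 0, 0, 0, 0, 2],
  [-4, 0, 0, -2, 0, 2, 0, 0, -2, 2, 0, 2, -2, 0, 0, 0, -2, 0, 2, -2, -2, -2, 2, 0],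
  [0, 0, 0, 2, 0, -2, 0, 0, -2, -2, 0, 2, 2, 0, 0, 0, 2, 4, 2, -2, -2, 2, 2, 0],
  [-2, 2, -2, 0, -2, 0, -2, -2, 0, 0, 2, 0, 0, 2, -2, 2, 0, 2, 0, 0, 4, 0, 0, -2],
  [0, 0, 0, -2, 0, -2, 0, 4, 2, 2, 0, 2, 2, 0, 0, 0, 2, 0, -2, -2, 2, -2, 2, 0],
  [0, 4, 0, 2, 0, -2, 0, 0, 2, 2, 0, 2, -2, 0, 0, 0, -2, 0, -2, 2, -2, 2, 2, 0],
  [0, 0, 0, 2, 0, 2, 0, 0, 2, -2, -4, 2, -2, 0, 0, 0, 2, 0, 2, 2, 2, -2, 2, 0],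
  [-2, 2, -2, 0, 2, 0, -2, 2, 0, 0, -2, -4, 0, 2, 2, -2, 0, 2, 0, 0, 0, 0, 0, 2]]

theorem cEl4M_ok : matOK cEl4M = true := by decide +kernel

/-- a conjugating element -/
def cEl4 : LGen := matGen cEl4M cEl4M_ok

/-- a conjugating element -/
def cEl5M : List (List ℤ) := [
  [2, 2, 2, 0, 0, -2, 0, -2, 0, -2, 2, -2, 2, 0, 0, -2, -2, -2, 0, -2, -2, 0, 2, -2],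
  [2, 2, -2, 0, 0, 2, 0, 2, 0, -2, -2, -2, 2, 0, 0, 2, -2, 2, 0, 2, -2, 0, 2, 2],
  [2, -2, 2, 0, 0, -2, 0, -2, 0, -2, -2, 2, 2, 0, 0, 2, 2, 2, 0, 2, 2, 0, 2, -2],
  [0, 0, 0, 6, -2, 0, 2, 0, -2, 0, 0, 0, 0, -2, 2, 0, 0, 0, -2, 0, 0, -2, 0, 0],
  [0, 0, 0, -2, -2, 0, 2, 0, 6, 0, 0, 0, 0, -2, 2, 0, 0, 0, -2, 0, 0, -2, 0, 0],
  [-2, 2, -2, 0, 0, 2, 0, -2, 0, -2, -2, -2, 2, 0, 0, -2, 2, 2, 0, -2, 2, 0, -2, -2],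
  [0, 0, 0, 2, 2, 0, 6, 0, 2, 0, 0, 0, 0, 2, -2, 0, 0, 0, 2, 0, 0, 2, 0, 0],
  [-2, 2, -2, 0, 0, -2, 0, 2, 0, -2, -2, 2, -2, 0, 0, -2, -2, -2, 0, 2, 2, 0, 2, -2],
  [0, 0, 0, -2, 6, 0, 2, 0, -2, 0, 0, 0, 0, -2, 2, 0, 0, 0, -2, 0, 0, -2, 0, 0],
  [-2, -2, -2, 0, 0, -2, 0, -2, 0, 2, -2, -2, 2, 0, 0, 2, -2, -2, 0, -2, 2, 0, 2, 2],
  [2, -2, -2, 0, 0, -2, 0, -2, 0, -2, 2, -2, -2, 0, 0, -2, -2, 2, 0, 2, 2, 0, -2, 2],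
  [-2, -2, 2, 0, 0, -2, 0, 2, 0, -2, -2, 2, 2, 0, 0, -2, -2, 2, 0, -2, -2, 0, -2, 2],
  [2, 2, 2, 0, 0, 2, 0, -2, 0, 2, -2, 2, 2, 0, 0, -2, -2, -2, 0, 2, 2, 0, -2, 2],
  [0, 0, 0, -2, -2, 0, 2, 0, -2, 0, 0, 0, 0, 6, 2, 0, 0, 0, -2, 0, 0, -2, 0, 0],
  [0, 0, 0, 2, 2, 0, -2, 0, 2, 0, 0, 0, 0, 2, 6, 0, 0, 0, 2, 0, 0, 2, 0, 0],
  [-2, 2, 2, 0, 0, -2, 0, -2, 0, 2, -2, -2, -2, 0, 0, 2, -2, 2, 0, 2, -2, 0, -2, -2],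
  [-2, -2, 2, 0, 0, 2, 0, -2, 0, -2, -2, -2, -2, 0, 0, -2, 2, -2, 0, 2, -2, 0, 2, 2],
  [-2, 2, 2, 0, 0, 2, 0, -2, 0, -2, 2, 2, -2, 0, 0, 2, -2, 2, 0, -2, 2, 0, 2, 2],
  [0, 0, 0, -2, -2, 0, 2, 0, -2, 0, 0, 0, 0, -2, 2, 0, 0, 0, 6, 0, 0, -2, 0, 0],
  [-2, 2, 2, 0, 0, -2, 0, 2, 0, -2, 2, -2, 2, 0, 0, 2, 2, -2, 0, 2, 2, 0, -2, 2],
  [-2, -2, 2, 0, 0, 2, 0, 2, 0, 2, 2, -2, 2, 0, 0, -2, -2, 2, 0, 2, 2, 0, 2, -2],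
  [0, 0, 0, -2, -2, 0, 2, 0, -2, 0, 0, 0, 0, -2, 2, 0, 0, 0, -2, 0, 0, 6, 0, 0],
  [2, 2, 2, 0, 0, -2, 0, 2, 0, 2, -2, -2, -2, 0, 0, -2, 2, 2, 0, -2, 2, 0, 2, 2],
  [-2, 2, -2, 0, 0, -2, 0, -2, 0, 2, 2, 2, 2, 0, 0, -2, 2, 2, 0, 2, -2, 0, 2, 2]]

theorem cEl5M_ok : matOK cEl5M = true := by decide +kernel

/-- a conjugating element -/
def cEl5 : LGen := matGen cEl5M cEl5M_ok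

/-- a conjugating element -/
def cEl6M : List (List ℤ) := [
  [4, 0, 0, 0, 0, 0, 0, -4, 0, 0, 0, 0, 0, -4, 0, 0, 0, 0, 0, 0, 0, 0, 0, -4],
  [0, 4, 0, 0, 0, 0, 0, 0, 0, 0, 0, 0, 4, 0, 4, 0, 0, 0, 0, 0, -4, 0, 0, 0],
  [0, 0, 4, 4, 0, 0, 0, 0, 0, 0, 0, 4, 0, 0, 0, -4, 0, 0, 0, 0, 0, 0, 0, 0],
  [0, 0, 4, 4, 0, 0, 0, 0, 0, 0, 0, -4, 0, 0, 0, 4, 0, 0, 0, 0, 0, 0, 0, 0],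
  [0, 0, 0, 0, -4, 0, 0, 0, 0, 4, 4, 0, 0, 0, 0, 0, 0, 0, 0, 4, 0, 0, 0, 0],
  [0, 0, 0, 0, 0, 4, 4, 0, 0, 0, 0, 0, 0, 0, 0, 0, 4, -4, 0, 0, 0, 0, 0, 0],
  [0, 0, 0, 0, 0, 4, 4, 0, 0, 0, 0, 0, 0, 0, 0, 0, -4, 4, 0, 0, 0, 0, 0, 0],
  [-4, 0, 0, 0, 0, 0, 0, 4, 0, 0, 0, 0, 0, -4, 0, 0, 0, 0, 0, 0, 0, 0, 0, -4],
  [0, 0, 0, 0, 0, 0, 0, 0, 4, 0, 0, 0, 0, 0, 0, 0, 0, 0, -4, 0, 0, 4, 4, 0],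
  [0, 0, 0, 0, 4, 0, 0, 0, 0, -4, 4, 0, 0, 0, 0, 0, 0, 0, 0, 4, 0, 0, 0, 0],
  [0, 0, 0, 0, 4, 0, 0, 0, 0, 4, -4, 0, 0, 0, 0, 0, 0, 0, 0, 4, 0, 0, 0, 0],
  [0, 0, 4, -4, 0, 0, 0, 0, 0, 0, 0, 4, 0, 0, 0, 4, 0, 0, 0, 0, 0, 0, 0, 0],
  [0, 4, 0, 0, 0, 0, 0, 0, 0, 0, 0, 0, 4, 0, -4, 0, 0, 0, 0, 0, 4, 0, 0, 0],
  [-4, 0, 0, 0, 0, 0, 0, -4, 0, 0, 0, 0, 0, 4, 0, 0, 0, 0, 0, 0, 0, 0, 0, -4],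
  [0, 4, 0, 0, 0, 0, 0, 0, 0, 0, 0, 0, -4, 0, 4, 0, 0, 0, 0, 0, 4, 0, 0, 0],
  [0, 0, -4, 4, 0, 0, 0, 0, 0, 0, 0, 4, 0, 0, 0, 4, 0, 0, 0, 0, 0, 0, 0, 0],
  [0, 0, 0, 0, 0, 4, -4, 0, 0, 0, 0, 0, 0, 0, 0, 0, 4, 4, 0, 0, 0, 0, 0, 0],
  [0, 0, 0, 0, 0, -4, 4, 0, 0, 0, 0, 0, 0, 0, 0, 0, 4, 4, 0, 0, 0, 0, 0, 0],
  [0, 0, 0, 0, 0, 0, 0, 0, -4, 0, 0, 0, 0, 0, 0, 0, 0, 0, 4, 0, 0, 4, 4, 0],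
  [0, 0, 0, 0, 4, 0, 0, 0, 0, 4, 4, 0, 0, 0, 0, 0, 0, 0, 0, -4, 0, 0, 0, 0],
  [0, -4, 0, 0, 0, 0, 0, 0, 0, 0, 0, 0, 4, 0, 4, 0, 0, 0, 0, 0, 4, 0, 0, 0],
  [0, 0, 0, 0, 0, 0, 0, 0, 4, 0, 0, 0, 0, 0, 0, 0, 0, 0, 4, 0, 0, 4, -4, 0],
  [0, 0, 0, 0, 0, 0, 0, 0, 4, 0, 0, 0, 0, 0, 0, 0, 0, 0, 4, 0, 0, -4, 4, 0],
  [-4, 0, 0, 0, 0, 0, 0, -4, 0, 0, 0, 0, 0, -4, 0, 0, 0, 0, 0, 0, 0, 0, 0, 4]]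

theorem cEl6M_ok : matOK cEl6M = true := by decide +kernel

/-- a conjugating element -/
def cEl6 : LGen := matGen cEl6M cEl6M_ok

/-- a conjugating element -/
def cEl7M : List (List ℤ) := [
  [2, 2, 0, 0, 2, 0, 0, 0, -2, 2, -2, -2, 2, 0, -2, 0, 0, -2, 2, 0, 0, 0, 2, -4],
  [2, 2, -4, 0, -2, 0, 0, 0, -2, -2, 2, -2, 2, 0, 2, 0, 0, 2, 2, 0, 0, 0, -2, 0],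
  [0, 0, 2, 2, 0, -2, -2, -2, 0, 0, 0, 0, 0, -2, 4, -2, -2, 0, 0, -2, 2, -2, 0, -2],
  [2, -2, 0, 0, 2, 0, 0, 0, -2, -2, -2, 2, 2, 0, 2, 0, 0, 2, -2, 0, -4, 0, 2, 0],
  [-2, 2, 0, 0, 2, -4, 0, 0, 2, -2, 2, -2, 2, 0, -2, 0, 0, 2, -2, 0, 0, 0, 2, 0],
  [0, 0, -2, 2, 0, -2, -2, -2, 0, 0, 0, 0, 0, 2, 0, 2, 2, -4, 0, -2, -2, -2, 0, 2],
  [0, 0, -2, -2, 0, -2, 2, -2, 0, 0, -4, 0, 0, -2, 0, 2, -2, 0, 0, -2, 2, 2, 0, 2],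
  [0, 0, 2, 2, 0, -2, 2, 2, -4, 0, 0, 0, 0, 2, 0, 2, -2, 0, 0, 2, 2, -2, 0, 2],
  [0, 0, -2, 2, 4, 2, -2, 2, 0, 0, 0, 0, 0, 2, 0, -2, -2, 0, 0, -2, 2, 2, 0, 2],
  [0, 0, -2, -2, 0, -2, -2, 2, 0, 4, 0, 0, 0, -2, 0, -2, -2, 0, 0, 2, -2, -2, 0, 2],
  [-2, -2, 0, 0, -2, 0, 0, 0, -2, 2, 2, -2, 2, 0, 2, 0, 0, -2, -2, 0, 0, 4, 2, 0],
  [0, 0, -2, 2, 0, -2, -2, 2, 0, 0, 0, 4, 0, -2, 0, 2, 2, 0, 0, 2, 2, 2, 0, -2],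
  [2, -2, 0, 4, -2, 0, 0, 0, 2, 2, -2, -2, 2, 0, -2, 0, 0, 2, -2, 0, 0, 0, -2, 0],
  [-2, -2, 0, 0, 2, 0, 0, 0, 2, -2, -2, -2, 2, 0, 2, 0, 0, -2, 2, 4, 0, 0, -2, 0],
  [2, -2, 0, 0, 2, 0, 0, 0, 2, 2, 2, -2, -2, 0, 2, 4, 0, 2, 2, 0, 0, 0, 2, 0],
  [0, 0, -2, 2, 0, -2, 2, -2, 0, 0, 0, 0, -4, 2, 0, -2, -2, 0, 0, 2, -2, 2, 0, -2],
  [0, 0, -2, 2, 0, 2, 2, -2, 0, 0, 0, 0, 0, -2, 0, -2, 2, 0, 0, 2, 2, -2, 4, 2],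
  [-2, 2, 0, 0, -2, 0, 0, 0, 2, 2, -2, 2, 2, 4, 2, 0, 0, 2, 2, 0, 0, 0, 2, 0],
  [0, 0, 2, 2, 0, -2, 2, 2, 0, 0, 0, 0, 0, -2, 0, -2, 2, 0, 4, -2, -2, 2, 0, 2],
  [-2, -2, 0, 0, 2, 0, 0, -4, -2, 2, 2, 2, 2, 0, -2, 0, 0, 2, 2, 0, 0, 0, -2, 0],
  [0, -4, -2, -2, 0, -2, 2, 2, 0, 0, 0, 0, 0, 2, 0, -2, 2, 0, 0, -2, 2, -2, 0, -2],
  [-4, 0, -2, 2, 0, 2, 2, 2, 0, 0, 0, 0, 0, -2, 0, 2, -2, 0, 0, -2, -2, -2, 0, -2],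
  [-2, -2, 0, 0, -2, 0, -4, 0, -2, -2, -2, -2, -2, 0, -2, 0, 0, 2, 2, 0, 0, 0, 2, 0],
  [-2, 2, 0, 0, 2, 0, 0, 0, -2, 2, -2, -2, -2, 0, 2, 0, 4, 2, -2, 0, 0, 0, -2, 0]]

theorem cEl7M_ok : matOK cEl7M = true := by decide +kernel

/-- a conjugating element -/
def cEl7 : LGen := matGen cEl7M cEl7M_ok

/-- a conjugating element -/
def cEl8M : List (List ℤ) := [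
  [1, 1, -1, 3, -3, 1, -1, -1, 1, -1, -1, -1, 1, -1, -3, -1, -1, 1, 1, -3, 1, -1, -1, -3],
  [1, 1, -1, -1, 1, 1, 3, -1, 1, -1, -1, -1, 1, -1, 1, 3, 3, 1, 1, 1, -3, -1, -1, -3],
  [1, -3, 3, -1, 1, 1, -1, -1, 1, -1, -1, -1, 1, -1, 1, -1, -1, 1, 1, 1, 1, 3, 3, -3],
  [3, 3, 1, 1, -1, -1, 1, 1, -1, 1, 1, -3, -1, 1, 3, 1, 1, -1, -1, -1, 3, 1, 1, -1],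
  [-1, -1, 1, 1, 3, -1, 1, 1, -1, 1, 1, -3, -1, 1, -1, -3, 1, 3, -1, -1, -1, 1, -3, -1],
  [-1, -1, 1, 1, -1, -1, 1, -3, -1, 1, 1, -3, 3, -3, -1, 1, 1, -1, -1, -1, -1, 1, 1, 3],
  [1, 1, -1, 3, 1, 1, 3, -1, 1, 3, -1, 3, 1, -1, 1, -1, -1, 1, 1, 1, 1, 3, -1, 1],
  [-1, -1, 1, 1, -1, -5, 1, 1, 3, 1, -3, 1, -1, 1, -1, 1, 1, -1, -1, -1, -1, 1, 1, -1],
  [1, -3, -1, -1, 1, 1, -1, -1, 1, 3, -1, -1, 1, 3, 1, 3, -1, 1, 1, -3, 1, -1, -1, 1],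
  [-1, -1, -3, 1, 3, -1, 1, -3, -1, -3, 1, 1, -1, 1, -1, 1, 1, -1, -1, -1, 3, 1, 1, -1],
  [-1, -1, 1, 1, -1, 3, 1, 1, 3, 1, 5, 1, -1, 1, -1, 1, 1, -1, -1, -1, -1, 1, 1, -1],
  [-1, -1, 1, -3, -1, -1, 1, 1, -1, 1, 1, 1, -1, -3, -1, 1, 1, -1, 3, -1, 3, 1, -3, -1],
  [1, 1, 3, -1, 1, 1, 3, -1, 1, -1, -1, -1, 1, 3, -3, -1, -1, -3, 1, 1, 1, -1, -1, 1],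
  [1, 1, -1, -1, 1, -3, -1, -1, 5, -1, 3, -1, 1, -1, 1, -1, -1, 1, 1, 1, 1, -1, -1, 1],
  [-3, 1, 3, 3, 1, 1, -1, -1, 1, -1, -1, -1, -3, -1, 1, 3, -1, 1, 1, 1, 1, -1, -1, 1],
  [-1, -1, -3, 1, -1, -1, 1, 1, -1, 1, 1, -3, -1, 1, -1, 1, -3, -1, 3, 3, -1, 1, 1, -1],
  [1, 1, -1, -1, 1, 1, -1, -1, 1, 3, -1, -1, -3, -1, -3, -1, 3, 1, 1, 1, 1, -1, 3, 1],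
  [-3, 1, -1, -1, 1, 1, 3, 3, 1, -1, -1, -1, 1, -1, 1, -1, -1, 1, 1, -3, 1, -1, 3, 1],
  [3, -1, 1, 1, -1, -1, 1, 1, -1, -3, 1, 1, -1, 1, -1, 1, 1, 3, 3, -1, -1, 1, 1, 3],
  [1, -3, -1, -1, -3, 1, 3, -1, 1, -1, -1, -1, -3, -1, 1, -1, -1, 1, -3, 1, 1, -1, -1, 1],
  [-1, -1, 1, 1, -1, -1, 1, 1, -1, 1, 1, 1, 3, 1, -1, 1, 1, 3, -1, 3, 3, -3, 1, -1],
  [-1, 3, 1, -3, -1, -1, 1, -3, -1, 1, 1, 1, -1, 1, -1, 1, -3, 3, -1, -1, -1, 1, 1, -1],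
  [-1, -1, 1, 1, -1, -1, 1, -3, -1, 1, 1, 1, -1, 1, 3, -3, 1, -1, 3, -1, -1, -3, 1, -1],
  [-3, 1, -1, -1, -3, 1, -1, -1, 1, -1, -1, -1, 1, 3, 1, -1, 3, 1, 1, 1, 1, 3, -1, 1]]

theorem cEl8M_ok : matOK cEl8M = true := by decide +kernel

/-- a conjugating element -/
def cEl8 : LGen := matGen cEl8M cEl8M_ok

/-- the probe coordinate -/
def probe : ℕ := 0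

end Cfsg.Agent.CoSection.J2
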