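import Cfsg.Agent.CoSection.CentCert

/-! Data: an element of order five and elements centralising it. -/

set_option autoImplicit false

namespace Cfsg.Agent.CoSection.J2
open Cfsg Cfsg.Agent.Leech

/-- the element of order five -/
def aElM : List (List ℤ) := [
  [-2, -2, 2, 0, 0, 0, -2, 0, 2, 0, -2, -2, 0, 0, 4, 0, 2, 0, 0, -2, -2, 0, 2, 2],
  [-2, -2, -2, 0, 0, 0, -2, 0, -2, 0, 2, -2, 0, 0, 0, 4, 2, 0, 0, 2, 2, 0, -2, 2],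
  [0, 0, 0, 2, -2, 2, 0, -2, 0, -2, -4, 0, -2, -2, -2, 2, 0, 2, 2, 0, 0, -2, 0, 0],
  [2, -2, -2, -4, 0, 0, 2, 0, -2, 0, -2, 2, 0, 0, 0, 0, 2, 0, 0, 2, -2, 0, 2, 2],
  [2, -2, 2, 0, -4, 0, -2, 0, 2, 0, 2, 2, 0, 0, 0, 0, -2, 0, 0, 2, -2, 0, -2, 2],
  [-2, -2, -2, 0, 0, 0, 2, 0, 2, -4, 2, 2, 0, 0, 0, 0, -2, 0, 0, -2, 2, 0, 2, 2],
  [2, 2, -2, 0, 0, 0, -2, 0, 2, 0, -2, -2, 0, 0, 0, 0, -2, 0, -4, 2, 2, 0, 2, 2],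
  [2, -2, -2, 0, 0, 0, -2, -4, -2, 0, 2, -2, 0, 0, 0, 0, -2, 0, 0, -2, -2, 0, 2, -2],
  [0, 0, 0, -2, -2, -2, 0, 2, 0, 2, 0, 0, 2, -2, -2, 2, 0, 2, -2, -4, 0, -2, 0, 0],
  [0, 0, 0, -2, -2, 2, 0, 2, 0, -2, 0, 0, -2, 2, 2, 2, 0, -2, -2, 0, 0, -2, 0, -4],
  [2, -2, 2, 0, 0, 0, 2, 0, -2, 0, -2, -2, 0, 4, 0, 0, -2, 0, 0, -2, 2, 0, -2, 2],
  [0, 0, 0, -2, -2, 2, 0, 2, 0, -2, 0, -4, 2, -2, -2, -2, 0, -2, 2, 0, 0, 2, 0, 0],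
  [0, 0, 0, -2, 2, -2, -4, 2, 0, -2, 0, 0, -2, 2, -2, -2, 0, 2, 2, 0, 0, -2, 0, 0],
  [0, 0, 4, -2, 2, -2, 0, -2, 0, -2, 0, 0, -2, -2, -2, 2, 0, -2, -2, 0, 0, 2, 0, 0],
  [0, 0, 0, 2, 2, 2, 0, 2, 0, -2, 0, 0, 2, 2, -2, 2, 0, 2, -2, 0, -4, 2, 0, 0],
  [0, 0, 0, -2, 2, 2, 0, -2, 0, -2, 0, 0, 2, -2, 2, -2, 0, 2, -2, 0, 0, -2, -4, 0],
  [0, 0, 0, -2, 2, 2, 0, 2, 0, 2, 0, 0, -2, -2, 2, 2, -4, 2, 2, 0, 0, 2, 0, 0],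
  [-2, 2, -2, 0, 0, 0, -2, 0, -2, 0, -2, 2, 0, 0, 0, 0, -2, -4, 0, -2, -2, 0, -2, 2],
  [2, 2, -2, 0, 0, 0, 2, 0, 2, 0, 2, -2, -4, 0, 0, 0, 2, 0, 0, -2, -2, 0, -2, 2],
  [2, -2, -2, 0, 0, 0, -2, 0, 2, 0, -2, 2, 0, 0, 0, 0, 2, 0, 0, -2, 2, 4, -2, -2],
  [4, 0, 0, 2, 2, -2, 0, 2, 0, -2, 0, 0, 2, -2, 2, 2, 0, -2, 2, 0, 0, -2, 0, 0],
  [0, 0, 0, -2, 2, 2, 0, -2, 4, 2, 0, 0, 2, 2, -2, 2, 0, -2, 2, 0, 0, -2, 0, 0],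
  [0, 4, 0, -2, -2, -2, 0, -2, 0, -2, 0, 0, 2, 2, 2, 2, 0, 2, 2, 0, 0, 2, 0, 0],
  [-2, -2, -2, 0, 0, -4, 2, 0, 2, 0, -2, -2, 0, 0, 0, 0, -2, 0, 0, 2, -2, 0, -2, -2]]

theorem aElM_ok : matOK aElM = true := by decide +kernel

/-- the element of order five -/
def aEl : LGen := matGen aElM aElM_ok

/-- a letter -/
def gEl0M : List (List ℤ) := [
  [1, -1, -1, 1, 1, 1, 1, -1, 3, -3, -1, -1, -1, -3, 1, 1, -1, -1, -3, -1, -3, -1, 1, -1],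
  [1, -1, -1, 1, 1, -3, -3, -1, -1, 1, -1, -1, -1, -3, -3, 1, -1, -1, 1, 3, 1, -1, 1, -1],
  [1, -1, -1, 1, 1, 1, -3, -1, -1, -3, -1, -1, 3, 1, 1, 1, -1, 3, 1, -1, 1, -1, 1, 3],
  [1, -1, -1, -3, 1, 1, 1, -1, -1, 1, -1, 3, -1, 1, 1, 1, -1, -1, 1, 3, -3, -1, 1, 3],
  [1, -1, -1, -3, 1, 1, 1, 3, -1, 1, -1, -1, -1, -3, 1, 1, -1, 3, 1, -1, 1, 3, 1, -1],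
  [-1, 1, 1, -1, -1, -1, -1, -3, 1, -1, 1, 1, -3, -1, -1, -1, 1, 1, 3, -3, -1, 1, 3, 1],
  [-1, 1, 1, -1, -1, -1, -1, 1, 1, -1, -3, -3, -3, 3, -1, 3, 1, 1, -1, 1, -1, 1, -1, 1],
  [-3, -5, -1, 1, -3, 1, 1, -1, -1, 1, -1, -1, -1, 1, 1, 1, -1, -1, 1, -1, 1, -1, 1, -1],
  [-1, 1, 1, -1, -1, -1, -1, 1, 1, 3, 1, 1, 1, -1, -1, 3, -3, 1, -1, -3, -1, -3, -1, 1],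
  [1, -1, 3, -3, 1, 1, -3, -1, -1, 1, -1, -1, -1, 1, 1, -3, -1, -1, -3, -1, 1, -1, 1, -1],
  [5, 3, -1, 1, -3, 1, 1, -1, -1, 1, -1, -1, -1, 1, 1, 1, -1, -1, 1, -1, 1, -1, 1, -1],
  [-1, 1, 1, -1, -1, 3, -1, 1, 1, -1, 1, -3, 1, -1, -1, -1, -3, -3, 3, 1, -1, 1, -1, 1],
  [-1, 1, -3, -1, -1, 3, -1, 1, 1, -1, 1, 1, -3, -1, -1, -1, 1, 1, -1, 1, 3, -3, -1, 1],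
  [-1, 1, 1, -1, -1, -1, -1, 1, 1, -1, 1, 1, 1, -1, 3, 3, 1, -3, -1, 1, 3, 1, 3, 1],
  [-1, 1, 1, 3, -1, 3, -1, 1, 1, 3, -3, 1, 1, -1, -1, -1, 1, 1, -1, 1, -1, 1, 3, 1],
  [-1, 1, 1, -1, -1, -1, -1, 1, 1, -1, -3, 1, 1, -1, 3, -1, 1, 1, 3, 1, -1, -3, -1, -3],
  [3, -3, 1, -1, -5, -1, -1, 1, 1, -1, 1, 1, 1, -1, -1, -1, 1, 1, -1, 1, -1, 1, -1, 1],
  [-1, 1, -3, -1, -1, -1, -1, 1, -3, -1, -3, 1, 1, -1, -1, -1, 1, -3, -1, -3, -1, 1, -1, 1],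
  [1, -1, -1, 1, 1, -3, 1, 3, 3, 1, -1, -1, -1, 1, 1, -3, -1, -1, 1, -1, 1, -1, 1, 3],
  [1, -1, -1, 1, 1, 1, -3, -1, 3, 1, -1, 3, -1, 1, 1, 1, -1, -1, 1, -1, 1, 3, -3, -1],
  [1, -1, 3, 1, 1, 1, 1, -1, -1, 1, -1, -1, -1, -3, 1, 1, 3, -1, 1, -1, 1, -1, -3, 3],
  [1, -1, -1, -3, 1, 1, 1, -1, 3, 1, -1, -1, 3, 1, -3, 1, 3, -1, 1, -1, 1, -1, 1, -1],
  [-1, 1, 1, -1, -1, -1, 3, -3, 1, -1, -3, 1, 1, -1, -1, -1, -3, 1, -1, 1, 3, 1, -1, 1],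
  [-1, 1, -3, -1, -1, -1, -1, -3, 1, 3, 1, -3, 1, -1, 3, -1, 1, 1, -1, 1, -1, 1, -1, 1]]

theorem gEl0M_ok : matOK gEl0M = true := by decide +kernel

/-- a letter -/
def gEl0 : LGen := matGen gEl0M gEl0M_ok

/-- a letter -/
def gEl1M : List (List ℤ) := [
  [-2, 0, 2, -2, -2, -2, 0, 2, -2, 2, -2, 0, 0, 2, -2, 0, -2, 0, 0, -2, -2, 2, 0, 2],
  [2, 0, 2, -2, 2, 2, 0, 2, -2, -2, -2, 0, 0, 2, 2, 0, 2, 0, 0, -2, 2, 2, 0, -2],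
  [0, 2, 0, 0, 0, -4, 2, 0, 0, 0, 0, -2, -2, 0, 0, -2, 4, -2, 2, 0, 0, 0, 2, 0],
  [0, 2, 0, 0, 0, 0, -2, 0, 4, 0, 0, -2, -2, 0, 0, -2, 0, 2, -2, 0, 0, 4, -2, 0],
  [0, 2, 0, 0, 0, 0, 2, -4, 0, 0, 0, 2, 2, 0, 0, -2, 0, 2, 2, -4, 0, 0, -2, 0],
  [0, 2, 0, 0, 0, 0, 2, 0, 0, 0, -4, -2, 2, -4, 0, 2, 0, 2, -2, 0, 0, 0, 2, 0],
  [0, -2, 0, 0, 0, -4, -2, 0, 0, 0, 0, 2, 2, 0, 0, 2, 4, 2, -2, 0, 0, 0, -2, 0],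
  [-4, -2, 0, 0, 4, 0, 2, 0, 0, 0, 0, 2, -2, 0, 0, -2, 0, 2, -2, 0, 0, 0, 2, 0],
  [0, 2, 0, 0, 0, 0, -2, 0, -4, 0, 0, -2, -2, 0, 0, -2, 0, 2, -2, 0, 0, -4, -2, 0],
  [0, -2, 4, 4, 0, 0, 2, 0, 0, 0, 0, -2, 2, 0, 0, -2, 0, -2, -2, 0, 0, 0, -2, 0],
  [0, 2, 0, 0, 0, 0, -2, 0, 0, -4, 0, 2, 2, 0, 0, -2, 0, -2, -2, 0, 0, 0, 2, 4],
  [-2, 0, -2, 2, -2, 2, 0, 2, 2, 2, -2, 0, 0, 2, 2, 0, 2, 0, 0, -2, 2, -2, 0, 2],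
  [-2, 0, -2, 2, -2, 2, 0, 2, -2, -2, 2, 0, 0, -2, -2, 0, 2, 0, 0, -2, -2, 2, 0, -2],
  [0, -2, 0, 0, 0, 0, -2, 0, 0, 0, 0, -2, 2, 0, -4, -2, 0, 2, 2, 0, 4, 0, 2, 0],
  [-2, 0, 2, -2, -2, 2, 0, -2, 2, -2, -2, 0, 0, 2, -2, 0, 2, 0, 0, 2, -2, -2, 0, -2],
  [0, 2, 4, 4, 0, 0, -2, 0, 0, 0, 0, 2, -2, 0, 0, 2, 0, 2, 2, 0, 0, 0, 2, 0],
  [0, -2, 0, 0, 0, 0, -2, -4, 0, 0, 0, -2, -2, 0, 0, 2, 0, -2, -2, -4, 0, 0, 2, 0],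
  [-2, 0, 2, -2, -2, 2, 0, -2, -2, 2, 2, 0, 0, -2, 2, 0, 2, 0, 0, 2, 2, 2, 0, 2],
  [0, 2, 0, 0, 0, 0, 2, 0, 0, 0, 4, -2, 2, 4, 0, 2, 0, 2, -2, 0, 0, 0, 2, 0],
  [2, 0, 2, -2, 2, 2, 0, 2, 2, 2, 2, 0, 0, -2, -2, 0, 2, 0, 0, -2, -2, -2, 0, 2],
  [0, -2, 0, 0, 0, 0, -2, 0, 0, 0, 0, -2, 2, 0, 4, -2, 0, 2, 2, 0, -4, 0, 2, 0],
  [-2, 0, 2, -2, -2, -2, 0, 2, 2, -2, 2, 0, 0, -2, 2, 0, -2, 0, 0, -2, 2, -2, 0, -2],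
  [0, 2, 0, 0, 0, 0, -2, 0, 0, 4, 0, 2, 2, 0, 0, -2, 0, -2, -2, 0, 0, 0, 2, -4],
  [-4, 2, 0, 0, 4, 0, -2, 0, 0, 0, 0, -2, 2, 0, 0, 2, 0, -2, 2, 0, 0, 0, -2, 0]]

theorem gEl1M_ok : matOK gEl1M = true := by decide +kernel

/-- a letter -/
def gEl1 : LGen := matGen gEl1M gEl1M_ok

/-- a letter -/
def gEl2M : List (List ℤ) := [
  [0, 0, 0, 0, 2, -2, 4, 0, 0, 2, 0, 0, 2, 0, 0, 0, -4, 2, -2, 0, -2, 0, -2, 0],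
  [0, 0, 0, 0, 2, 2, 0, 0, 0, -2, 0, 4, -2, 0, 0, 0, 0, 2, 2, 0, -2, 0, -2, -4],
  [0, 0, 4, 0, 2, -2, 0, 0, 0, -2, 0, 0, -2, 4, 0, 0, 0, -2, -2, 0, -2, 0, 2, 0],
  [0, 0, 0, 0, -2, -2, 0, 0, 4, -2, 0, 0, -2, 0, 0, 0, 0, 2, -2, 0, 2, 4, -2, 0],
  [-2, -2, -2, 2, 0, 0, 2, -2, 2, 0, 2, -2, 0, 2, -2, -2, 2, 0, 0, -2, 0, -2, 0, -2],
  [0, 4, 0, 0, -2, -2, 0, 0, 0, -2, 0, 0, 2, 0, -4, 0, 0, 2, 2, 0, -2, 0, 2, 0],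
  [-4, 0, 0, 0, 2, -2, 0, 0, 0, -2, 0, 0, 2, 0, 0, 4, 0, -2, 2, 0, 2, 0, -2, 0],
  [0, 0, -4, 0, 2, -2, 0, 0, 0, -2, 0, 0, -2, -4, 0, 0, 0, -2, -2, 0, -2, 0, 2, 0],
  [0, 0, 0, 0, -2, -2, 0, 0, -4, -2, 0, 0, -2, 0, 0, 0, 0, 2, -2, 0, 2, -4, -2, 0],
  [0, 0, 0, 4, 2, 2, 0, 4, 0, -2, 0, 0, 2, 0, 0, 0, 0, 2, -2, 0, 2, 0, 2, 0],
  [-2, 2, -2, -2, 0, 0, 2, 2, -2, 0, 2, 2, 0, 2, 2, -2, 2, 0, 0, -2, 0, 2, 0, 2],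
  [0, 0, 0, 0, 2, -2, 0, 0, 0, 2, -4, 0, -2, 0, 0, 0, 0, 2, 2, -4, 2, 0, 2, 0],
  [0, 0, 0, 4, -2, -2, 0, 4, 0, 2, 0, 0, -2, 0, 0, 0, 0, -2, 2, 0, -2, 0, -2, 0],
  [2, -2, -2, -2, 0, 0, -2, 2, -2, 0, 2, -2, 0, 2, -2, 2, -2, 0, 0, -2, 0, 2, 0, -2],
  [-2, -2, -2, -2, 0, 0, -2, 2, 2, 0, -2, 2, 0, 2, -2, -2, -2, 0, 0, 2, 0, -2, 0, 2],
  [-2, -2, 2, 2, 0, 0, -2, -2, -2, 0, 2, 2, 0, -2, -2, -2, -2, 0, 0, -2, 0, 2, 0, 2],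
  [0, 0, 0, 0, -2, 2, 0, 0, 0, -2, -4, 0, 2, 0, 0, 0, 0, -2, -2, -4, -2, 0, -2, 0],
  [-2, -2, 2, -2, 0, 0, 2, 2, -2, 0, -2, -2, 0, -2, -2, -2, 2, 0, 0, 2, 0, 2, 0, -2],
  [-4, 0, 0, 0, -2, 2, 0, 0, 0, 2, 0, 0, -2, 0, 0, 4, 0, 2, -2, 0, -2, 0, 2, 0],
  [2, -2, 2, -2, 0, 0, 2, 2, 2, 0, 2, 2, 0, -2, -2, 2, 2, 0, 0, -2, 0, -2, 0, 2],
  [0, 0, 0, 0, 2, 2, 0, 0, 0, -2, 0, -4, -2, 0, 0, 0, 0, 2, 2, 0, -2, 0, -2, 4],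
  [-2, 2, 2, -2, 0, 0, -2, 2, 2, 0, 2, -2, 0, -2, 2, -2, -2, 0, 0, -2, 0, -2, 0, -2],
  [0, 0, 0, 0, 2, -2, -4, 0, 0, 2, 0, 0, 2, 0, 0, 0, 4, 2, -2, 0, -2, 0, -2, 0],
  [0, 4, 0, 0, 2, 2, 0, 0, 0, 2, 0, 0, -2, 0, -4, 0, 0, -2, -2, 0, 2, 0, -2, 0]]

theorem gEl2M_ok : matOK gEl2M = true := by decide +kernel

/-- a letter -/
def gEl2 : LGen := matGen gEl2M gEl2M_ok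

/-- a letter -/
def gEl3M : List (List ℤ) := [
  [0, 0, 0, 0, 0, 4, 2, 0, 0, 0, 0, 0, 2, -4, 0, -2, -2, -2, 0, -2, 0, 2, 0, 2],
  [-2, 2, -2, -2, 2, -2, 0, -2, -2, 2, -2, -2, 0, -2, 2, 0, 0, 0, 2, 0, 2, 0, -2, 0],
  [0, 0, 0, 0, 0, 0, 2, 0, 0, 0, 0, 0, -2, 0, 0, -2, 2, -2, 0, -2, 4, -2, 4, -2],
  [0, 0, 0, 0, 0, 0, 2, 0, 0, -4, 0, 0, -2, 0, 4, -2, -2, 2, 0, 2, 0, 2, 0, -2],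
  [0, -4, -4, 0, 0, 0, -2, 0, 0, 0, 0, 0, -2, 0, 0, 2, -2, -2, 0, -2, 0, 2, 0, -2],
  [2, -2, 2, 2, 2, -2, 0, 2, 2, 2, -2, -2, 0, -2, 2, 0, 0, 0, 2, 0, -2, 0, 2, 0],
  [0, 0, 0, 0, 0, 0, 2, 0, 0, 0, -4, 0, -2, 0, 0, 2, 2, 2, -4, -2, 0, 2, 0, 2],
  [0, 0, 0, 0, 4, 0, -2, 0, 0, 0, 0, 4, -2, 0, 0, -2, -2, 2, 0, -2, 0, -2, 0, 2],
  [0, 0, 0, -4, 0, 0, 2, 0, 4, 0, 0, 0, 2, 0, 0, 2, -2, 2, 0, -2, 0, -2, 0, -2],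
  [-2, -2, 2, 2, 2, -2, 0, -2, 2, -2, 2, -2, 0, -2, -2, 0, 0, 0, -2, 0, 2, 0, -2, 0],
  [0, 0, 0, 0, 0, 0, 2, 0, 0, 0, 0, 0, -2, 0, 0, -2, 2, -2, 0, -2, -4, -2, -4, -2],
  [4, 0, 0, 0, 0, 0, -2, -4, 0, 0, 0, 0, 2, 0, 0, -2, 2, 2, 0, -2, 0, 2, 0, -2],
  [-4, 0, 0, 0, 0, 0, -2, 4, 0, 0, 0, 0, 2, 0, 0, -2, 2, 2, 0, -2, 0, 2, 0, -2],
  [0, 0, 0, 0, 0, 0, 2, 0, 0, 4, 0, 0, -2, 0, -4, -2, -2, 2, 0, 2, 0, 2, 0, -2],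
  [0, -4, -4, 0, 0, 0, 2, 0, 0, 0, 0, 0, 2, 0, 0, -2, 2, 2, 0, 2, 0, -2, 0, 2],
  [2, 2, -2, 2, -2, -2, 0, 2, 2, 2, 2, 2, 0, -2, 2, 0, 0, 0, -2, 0, 2, 0, -2, 0],
  [2, 2, -2, 2, 2, 2, 0, 2, 2, -2, -2, -2, 0, 2, -2, 0, 0, 0, 2, 0, 2, 0, -2, 0],
  [2, 2, -2, -2, 2, -2, 0, 2, -2, -2, 2, -2, 0, -2, -2, 0, 0, 0, -2, 0, -2, 0, 2, 0],
  [0, 0, 0, 0, 0, 0, 2, 0, 0, 0, 4, 0, -2, 0, 0, 2, 2, 2, 4, -2, 0, 2, 0, 2],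
  [0, 0, 0, 0, 4, 0, 2, 0, 0, 0, 0, 4, 2, 0, 0, 2, 2, -2, 0, 2, 0, 2, 0, -2],
  [0, 0, 0, 0, 0, 4, -2, 0, 0, 0, 0, 0, -2, -4, 0, 2, 2, 2, 0, 2, 0, -2, 0, -2],
  [0, 0, 0, -4, 0, 0, -2, 0, 4, 0, 0, 0, -2, 0, 0, -2, 2, -2, 0, 2, 0, 2, 0, 2],
  [-2, 2, -2, 2, -2, -2, 0, -2, 2, -2, -2, 2, 0, -2, -2, 0, 0, 0, 2, 0, -2, 0, 2, 0],
  [-2, 2, -2, 2, 2, 2, 0, -2, 2, 2, 2, -2, 0, 2, 2, 0, 0, 0, -2, 0, -2, 0, 2, 0]]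

theorem gEl3M_ok : matOK gEl3M = true := by decide +kernel

/-- a letter -/
def gEl3 : LGen := matGen gEl3M gEl3M_ok

/-- a letter -/
def gEl4M : List (List ℤ) := [
  [2, 2, -2, 0, 0, 0, 4, 0, 2, -2, 2, 2, -2, 0, -2, -2, -2, 0, 0, -2, 0, 0, 0, 0],
  [2, 2, 2, 0, 0, 0, 0, 0, -2, 2, -2, 2, 2, 0, -2, -2, -2, 0, 0, 2, 0, 0, 0, -4],
  [2, -2, -2, 0, 0, 0, 0, 0, -2, 2, 2, -2, 2, 4, 2, -2, -2, 0, 0, -2, 0, 0, 0, 0],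
  [0, 0, 0, -2, 2, 2, 2, -2, 0, 0, 0, 0, 0, 2, 0, 0, 0, -2, 2, 4, -2, -2, 2, 2],
  [0, 0, 0, -2, 2, 2, 2, 2, 0, 0, 0, -4, 0, -2, 0, 0, 0, 2, 2, 0, 2, 2, 2, -2],
  [2, 2, 2, 0, 0, 0, 0, 0, 2, 2, -2, -2, -2, 0, 2, -2, 2, 0, 0, -2, -4, 0, 0, 0],
  [-4, 0, 0, -2, -2, -2, 2, -2, 0, 0, 0, 0, 0, 2, 0, 0, 0, 2, 2, 0, -2, 2, -2, -2],
  [0, 0, 0, 2, -2, 2, 2, 2, 0, 0, -4, 0, 0, 2, 0, 0, 0, 2, 2, 0, 2, -2, -2, 2],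
  [-2, 2, 2, 0, 0, 0, 0, 0, 2, 2, 2, -2, 2, 0, -2, 2, -2, 0, 0, -2, 0, -4, 0, 0],
  [0, 0, 0, -2, 2, -2, -2, -2, 0, 0, 0, 0, 0, -2, 0, -4, 0, 2, 2, 0, 2, -2, -2, 2],
  [0, 0, -4, 2, -2, 2, -2, -2, 0, 0, 0, 0, 0, -2, 0, 0, 0, 2, 2, 0, -2, -2, 2, -2],
  [2, -2, 2, 0, 0, 0, 0, 0, 2, 2, 2, 2, -2, 0, 2, 2, -2, 4, 0, 2, 0, 0, 0, 0],
  [0, 0, 0, -2, -2, 2, 2, -2, 0, 0, 0, 0, 0, -2, 4, 0, 0, -2, -2, 0, 2, -2, -2, -2],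
  [-2, 2, -2, 0, 0, 0, 0, 4, 2, 2, 2, 2, 2, 0, 2, -2, 2, 0, 0, 2, 0, 0, 0, 0],
  [0, 0, 0, 2, -2, -2, 2, -2, 0, 4, 0, 0, 0, -2, 0, 0, 0, -2, 2, 0, 2, 2, 2, 2],
  [0, 0, 0, -2, -2, -2, -2, 2, 0, 0, 0, 0, -4, 2, 0, 0, 0, -2, 2, 0, 2, -2, 2, -2],
  [2, -2, 2, 0, -4, 0, 0, 0, 2, -2, 2, -2, 2, 0, -2, -2, 2, 0, 0, 2, 0, 0, 0, 0],
  [0, 0, 0, 2, 2, -2, 2, -2, 0, 0, 0, 0, 0, 2, 0, 0, 4, 2, -2, 0, 2, -2, 2, -2],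
  [-2, -2, 2, 0, 0, 0, 0, 0, 2, -2, -2, 2, 2, 0, 2, -2, -2, 0, 0, -2, 0, 0, 4, 0],
  [0, 0, 0, 2, 2, 2, -2, -2, 4, 0, 0, 0, 0, 2, 0, 0, 0, -2, 2, 0, 2, 2, -2, -2],
  [-2, -2, 2, 0, 0, 4, 0, 0, -2, 2, 2, 2, -2, 0, -2, -2, 2, 0, 0, -2, 0, 0, 0, 0],
  [2, -2, -2, -4, 0, 0, 0, 0, 2, 2, -2, 2, 2, 0, -2, 2, 2, 0, 0, -2, 0, 0, 0, 0],
  [-2, -2, -2, 0, 0, 0, 0, 0, 2, 2, -2, -2, -2, 0, -2, -2, -2, 0, -4, 2, 0, 0, 0, 0],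
  [0, 4, 0, -2, -2, 2, -2, -2, 0, 0, 0, 0, 0, 2, 0, 0, 0, 2, -2, 0, 2, 2, 2, 2]]

theorem gEl4M_ok : matOK gEl4M = true := by decide +kernel

/-- a letter -/
def gEl4 : LGen := matGen gEl4M gEl4M_ok

/-- a letter -/
def gEl5M : List (List ℤ) := [
  [0, 0, -4, 2, 2, 0, 0, 0, 0, 0, -2, -2, 0, -2, 0, 0, 0, 0, 0, 0, -4, 2, 2, -2],
  [0, 0, 0, -2, 2, 0, 0, 0, 0, -4, 2, -2, 4, -2, 0, 0, 0, 0, 0, 0, 0, -2, -2, -2],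
  [4, 0, 0, -2, -2, 0, 0, 0, 0, 0, 2, -2, 0, 2, 4, 0, 0, 0, 0, 0, 0, 2, 2, -2],
  [-2, 2, 2, 0, 0, -2, 2, 2, 2, -2, 0, 0, -2, 0, 2, -2, 2, 2, -2, -2, -2, 0, 0, 0],
  [-2, -2, 2, 0, 0, -2, 2, 2, -2, 2, 0, 0, 2, 0, 2, -2, -2, -2, 2, 2, -2, 0, 0, 0],
  [0, 0, 0, 2, 2, 0, 4, -4, 0, 0, 2, -2, 0, 2, 0, 0, 0, 0, 0, 0, 0, 2, -2, 2],
  [0, 0, 0, -2, -2, -4, 0, 0, 0, 0, -2, -2, 0, -2, 0, 4, 0, 0, 0, 0, 0, 2, -2, 2],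
  [0, 0, 0, -2, -2, 4, 0, 0, 0, 0, -2, -2, 0, -2, 0, -4, 0, 0, 0, 0, 0, 2, -2, 2],
  [0, 0, 0, -2, 2, 0, 0, 0, 0, 0, -2, 2, 0, 2, 0, 0, 4, 0, 0, 4, 0, 2, -2, -2],
  [0, 4, 0, 2, -2, 0, 0, 0, 0, 0, 2, 2, 0, -2, 0, 0, 0, 0, 4, 0, 0, 2, -2, -2],
  [2, -2, -2, 0, 0, -2, 2, 2, 2, -2, 0, 0, -2, 0, -2, -2, -2, 2, 2, 2, 2, 0, 0, 0],
  [2, 2, 2, 0, 0, 2, 2, 2, -2, -2, 0, 0, -2, 0, -2, 2, -2, -2, -2, 2, -2, 0, 0, 0],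
  [0, -4, 0, 2, -2, 0, 0, 0, 0, 0, 2, 2, 0, -2, 0, 0, 0, 0, -4, 0, 0, 2, -2, -2],
  [2, 2, -2, 0, 0, -2, 2, 2, -2, 2, 0, 0, 2, 0, -2, -2, 2, -2, -2, -2, 2, 0, 0, 0],
  [0, 0, -4, -2, -2, 0, 0, 0, 0, 0, 2, 2, 0, 2, 0, 0, 0, 0, 0, 0, -4, -2, -2, 2],
  [0, 0, 0, 2, 2, 0, -4, 4, 0, 0, 2, -2, 0, 2, 0, 0, 0, 0, 0, 0, 0, 2, -2, 2],
  [0, 0, 0, -2, 2, 0, 0, 0, -4, 0, 2, 2, 0, -2, 0, 0, 0, 4, 0, 0, 0, 2, 2, 2],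
  [0, 0, 0, -2, 2, 0, 0, 0, 0, 0, -2, 2, 0, 2, 0, 0, -4, 0, 0, -4, 0, 2, -2, -2],
  [0, 0, 0, 2, -2, 0, 0, 0, 0, -4, -2, 2, 4, 2, 0, 0, 0, 0, 0, 0, 0, 2, 2, 2],
  [0, 0, 0, 2, -2, 0, 0, 0, -4, 0, -2, -2, 0, 2, 0, 0, 0, 4, 0, 0, 0, -2, -2, -2],
  [4, 0, 0, 2, 2, 0, 0, 0, 0, 0, -2, 2, 0, -2, 4, 0, 0, 0, 0, 0, 0, -2, -2, 2],
  [-2, 2, -2, 0, 0, -2, -2, -2, -2, -2, 0, 0, -2, 0, 2, -2, -2, -2, -2, 2, 2, 0, 0, 0],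
  [-2, 2, -2, 0, 0, 2, 2, 2, 2, 2, 0, 0, 2, 0, 2, 2, -2, 2, -2, 2, 2, 0, 0, 0],
  [2, 2, 2, 0, 0, -2, -2, -2, 2, 2, 0, 0, 2, 0, -2, -2, -2, 2, -2, 2, -2, 0, 0, 0]]

theorem gEl5M_ok : matOK gEl5M = true := by decide +kernel

/-- a letter -/
def gEl5 : LGen := matGen gEl5M gEl5M_ok

/-- a letter -/
def gEl6M : List (List ℤ) := [
  [-1, 1, -1, -1, -1, 3, -3, -3, 1, 1, 1, -1, 1, -1, 1, 1, -1, -1, -3, -3, -1, -1, 1, -1],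
  [1, -1, 1, 1, 1, 1, -1, -1, -1, -1, 3, -3, -1, 1, -1, -1, 1, -3, -1, 3, -3, 1, -1, 1],
  [-1, 1, -1, -1, -1, 3, 1, 1, 1, -3, 1, -1, 1, -1, 1, 1, -1, 3, 1, 1, -1, -1, -3, 3],
  [-1, 1, -1, 3, -1, -1, 1, 1, 1, 1, 1, -1, 1, -1, -3, 1, -1, 3, -3, 1, -1, 3, 1, -1],
  [-1, 1, 3, -1, 3, 3, 1, 1, 1, 1, -3, -1, 1, -1, -3, 1, -1, -1, 1, 1, -1, -1, 1, -1],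
  [1, -1, 1, 1, 1, -3, -1, -1, 3, -1, -1, -3, 3, 1, -1, -1, 1, 1, -1, -1, 1, -3, -1, 1],
  [3, 1, -1, -1, -1, -1, 1, 1, -3, 1, -3, -1, 1, -1, 1, 1, -1, -1, -3, 1, -1, -1, -3, -1],
  [1, -1, 1, -3, -3, 1, -1, 3, -1, -1, -1, -3, -1, 1, -1, -1, 1, 1, -1, -1, 1, 1, 3, 1],
  [1, -1, 1, 1, 1, 1, -1, 3, -1, -1, 3, 1, -1, -3, -1, -1, 1, 1, -1, -1, 1, -3, -1, -3],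
  [3, 1, -1, 3, -1, 3, 1, 1, 1, 1, 1, -1, 1, 3, 1, 1, -1, -1, 1, 1, 3, -1, 1, -1],
  [3, 1, 3, -1, -1, -1, 1, -3, 1, 1, 1, -1, -3, -1, 1, 1, -1, 3, 1, 1, -1, -1, 1, -1],
  [3, 1, -1, -1, -1, -1, -3, 1, 1, 1, 1, 3, 1, -1, -3, 1, -1, -1, 1, 1, -1, -1, 1, 3],
  [1, -1, 1, 1, -3, 1, -1, -1, -1, -1, -1, 1, 3, 1, -1, -1, 1, 1, 3, -1, -3, 1, -1, -3],
  [1, 3, 1, 1, 1, 1, -1, -1, -1, -1, -1, 1, -1, 1, -1, 3, 5, 1, -1, -1, 1, 1, -1, 1],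
  [-1, 1, 3, -1, -1, -1, 1, 1, 1, -3, 1, 3, 1, 3, 1, 1, -1, -1, -3, 1, -1, -1, 1, -1],
  [1, -5, 1, 1, 1, 1, -1, -1, -1, -1, -1, 1, -1, 1, -1, 3, -3, 1, -1, -1, 1, 1, -1, 1],
  [1, -1, 1, -3, 1, 1, 3, -1, -1, 3, 3, 1, 3, 1, -1, -1, 1, 1, -1, -1, 1, 1, -1, 1],
  [1, 3, 1, 1, 1, 1, -1, -1, -1, -1, -1, 1, -1, 1, -1, -5, -3, 1, -1, -1, 1, 1, -1, 1],
  [-1, 1, -1, -1, -1, -1, 1, 1, 1, 1, 1, -1, -3, 3, -3, 1, -1, -1, 1, -3, -1, -1, -3, -1],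
  [1, -1, -3, -3, 1, 1, -1, -1, 3, -1, -1, 1, -1, 1, -1, -1, 1, 1, -1, 3, 1, 1, -1, -3],
  [1, -1, 1, 1, 1, 1, -1, 3, 3, 3, -1, 1, -1, 1, 3, -1, 1, 1, -1, -1, -3, 1, -1, 1],
  [-1, 1, 3, -1, -1, -1, -3, 1, 1, 1, 1, -1, 1, -1, 1, 1, -1, -1, 1, 1, 3, 3, -3, -1],
  [-1, 1, -1, -1, 3, -1, -3, 1, -3, 1, 1, -1, 1, 3, 1, 1, -1, 3, 1, 1, -1, -1, 1, -1],
  [-3, -1, 1, 1, -3, 1, -1, -1, -1, 3, -1, 1, -1, 1, -1, -1, 1, 1, -1, 3, 1, -3, -1, 1]]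

theorem gEl6M_ok : matOK gEl6M = true := by decide +kernel

/-- a letter -/
def gEl6 : LGen := matGen gEl6M gEl6M_ok

/-- a letter -/
def gEl7M : List (List ℤ) := [
  [2, 0, 0, -2, 0, 2, -2, 2, -2, -2, 0, -2, 0, 0, 0, 0, -2, -2, -2, -2, 4, 0, 0, 0],
  [0, 2, 2, 0, -2, 0, 0, 0, 0, 0, -2, 0, -2, 2, -2, 2, 0, -4, 0, 0, -2, 2, 2, 2],
  [0, -2, 2, 0, 2, 0, 0, 0, 0, 0, 2, 0, 2, 2, -2, 2, -4, 0, 0, 0, -2, -2, -2, 2],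
  [-2, 0, 0, -2, 0, -2, 2, 2, -2, -2, 0, 2, 0, 0, 0, 0, 2, -2, -2, 2, 0, -4, 0, 0],
  [0, 2, 2, 0, -2, 0, 0, 0, 0, 0, 2, 4, 2, -2, 2, 2, 0, 0, 0, 0, 2, 2, -2, 2],
  [0, -2, 2, 0, -2, 0, -4, 0, 0, 0, -2, 0, -2, -2, 2, 2, 0, 0, 0, 0, -2, -2, -2, -2],
  [2, 0, 0, 2, 0, 2, 2, 2, -2, 2, 0, 2, -4, 0, 0, 0, -2, 2, -2, 2, 0, 0, 0, 0],
  [4, 2, -2, 0, -2, 0, 0, 0, 0, 0, 2, 0, 2, -2, -2, 2, 0, 0, 0, 0, -2, -2, 2, -2],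
  [2, -4, 0, 2, 0, 2, 2, 2, 2, -2, 0, 2, 0, 0, 0, 0, 2, -2, 2, -2, 0, 0, 0, 0],
  [2, 0, 0, -2, 0, -2, 2, 2, 2, 2, 0, -2, 0, 0, 4, 0, -2, -2, 2, 2, 0, 0, 0, 0],
  [-2, 0, 0, -2, 0, 2, 2, 2, -2, 2, 0, -2, 0, 0, 0, 4, 2, 2, 2, -2, 0, 0, 0, 0],
  [0, 2, 2, 0, 2, 0, 0, 4, 0, 0, -2, 0, 2, -2, -2, -2, 0, 0, 0, 0, -2, 2, -2, -2],
  [-2, 0, 0, -2, 0, 2, -2, 2, 2, -2, 0, 2, 0, 0, 0, 0, -2, 2, 2, 2, 0, 0, 4, 0],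
  [0, 2, -2, 0, 2, 0, 0, 0, 0, -4, 2, 0, -2, 2, 2, 2, 0, 0, 0, 0, -2, 2, -2, -2],
  [0, 2, 2, 4, 2, 0, 0, 0, 0, 0, -2, 0, 2, 2, 2, 2, 0, 0, 0, 0, 2, -2, 2, -2],
  [2, 0, 4, -2, 0, 2, 2, -2, 2, -2, 0, -2, 0, 0, 0, 0, 2, 2, -2, 2, 0, 0, 0, 0],
  [0, -2, 2, 0, 2, -4, 0, 0, 0, 0, 2, 0, -2, -2, -2, 2, 0, 0, 0, 0, 2, 2, 2, -2],
  [2, 0, 0, -2, 0, -2, 2, -2, -2, -2, -4, 2, 0, 0, 0, 0, -2, 2, 2, -2, 0, 0, 0, 0],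
  [0, 2, 2, 0, -2, 0, 0, 0, 0, 0, 2, 0, -2, 2, -2, -2, 0, 0, 4, 0, 2, -2, -2, -2],
  [0, -2, -2, 0, -2, 0, 0, 0, 0, 0, -2, 0, 2, 2, -2, 2, 0, 0, 0, 4, 2, 2, -2, -2],
  [-2, 0, 0, -2, 0, 2, 2, -2, 2, 2, 0, 2, 0, 0, 0, 0, -2, -2, -2, -2, 0, 0, 0, -4],
  [2, 0, 0, -2, 4, 2, -2, -2, -2, 2, 0, 2, 0, 0, 0, 0, 2, -2, 2, 2, 0, 0, 0, 0],
  [0, -2, 2, 0, -2, 0, 0, 0, -4, 0, 2, 0, 2, 2, 2, -2, 0, 0, 0, 0, -2, 2, 2, -2],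
  [-2, 0, 0, 2, 0, 2, 2, -2, -2, -2, 0, -2, 0, -4, 0, 0, -2, -2, 2, 2, 0, 0, 0, 0]]

theorem gEl7M_ok : matOK gEl7M = true := by decide +kernel

/-- a letter -/
def gEl7 : LGen := matGen gEl7M gEl7M_ok

/-- a letter -/
def gEl8M : List (List ℤ) := [
  [0, 0, 2, 0, 2, 2, 0, -2, 0, 2, 0, -2, -2, 0, -2, 2, -2, 2, -2, -2, 2, -2, 2, 0],
  [0, 0, -2, 0, 2, 2, 0, 2, 0, 2, 0, 2, -2, 0, 2, -2, 2, 2, -2, 2, 2, 2, 2, 0],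
  [-2, 2, 0, 2, 0, 0, 2, 0, 2, 0, 2, 0, 0, -2, 0, 0, 0, 0, 0, 0, 4, 0, -4, 2],
  [2, -2, 4, -2, 0, 0, 2, 4, -2, 0, 2, 0, 0, -2, 0, 0, 0, 0, 0, 0, 0, 0, 0, 2],
  [2, 2, 0, -2, 0, 0, 2, 0, 2, -4, 2, 0, 0, 2, 0, 0, 0, 4, 0, 0, 0, 0, 0, -2],
  [0, 0, -2, 0, -2, -2, 0, 2, 0, 2, 0, 2, 2, 0, -2, -2, -2, 2, 2, -2, 2, -2, 2, 0],
  [-2, -2, 0, 2, 0, 0, 2, 0, -2, 0, 2, -4, 0, 2, 0, -4, 0, 0, 0, 0, 0, 0, 0, -2],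
  [-2, 2, 4, 2, 0, 0, -2, 4, 2, 0, -2, 0, 0, 2, 0, 0, 0, 0, 0, 0, 0, 0, 0, -2],
  [-2, 2, 0, -2, 0, -4, 2, 0, -2, 0, -2, 0, 0, 2, 0, 0, 0, 0, -4, 0, 0, 0, 0, 2],
  [0, 0, 2, 0, -2, 2, 0, -2, 0, 2, 0, 2, 2, 0, -2, -2, -2, 2, -2, 2, -2, 2, -2, 0],
  [-2, 2, 0, -2, 0, 0, -2, 0, -2, 0, 2, 0, 0, -2, 0, 0, 0, 0, 0, -4, 0, 4, 0, -2],
  [2, 2, 0, -2, 0, 0, -2, 0, 2, 0, -2, -4, 0, -2, 0, -4, 0, 0, 0, 0, 0, 0, 0, 2],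
  [0, 0, 2, 0, -2, -2, 0, -2, 0, 2, 0, -2, 2, 0, 2, 2, 2, 2, 2, 2, 2, 2, 2, 0],
  [-2, 2, 0, -2, 0, 4, 2, 0, -2, 0, -2, 0, 0, 2, 0, 0, 0, 0, 4, 0, 0, 0, 0, 2],
  [0, 0, 2, 0, -2, 2, 0, -2, 0, -2, 0, 2, 2, 0, 2, -2, 2, -2, -2, -2, 2, -2, 2, 0],
  [0, 0, -2, 0, -2, 2, 0, 2, 0, -2, 0, -2, 2, 0, -2, 2, -2, -2, -2, 2, 2, 2, 2, 0],
  [-2, -2, 0, -2, 0, 0, 2, 0, 2, 0, -2, 0, 0, -2, 4, 0, -4, 0, 0, 0, 0, 0, 0, -2],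
  [2, 2, 0, 2, 4, 0, 2, 0, -2, 0, -2, 0, 4, -2, 0, 0, 0, 0, 0, 0, 0, 0, 0, -2],
  [0, 0, -2, 0, -2, 2, 0, 2, 0, 2, 0, -2, 2, 0, 2, 2, 2, 2, -2, -2, -2, -2, -2, 0],
  [2, -2, 0, 2, 0, 0, 2, 0, 2, 0, -2, 0, 0, 2, 0, 0, 0, 0, 0, -4, 0, 4, 0, 2],
  [2, 2, 0, -2, 0, 0, 2, 0, 2, 4, 2, 0, 0, 2, 0, 0, 0, -4, 0, 0, 0, 0, 0, -2],
  [-2, 2, 0, 2, 0, 0, 2, 0, 2, 0, 2, 0, 0, -2, 0, 0, 0, 0, 0, 0, -4, 0, 4, 2],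
  [2, 2, 0, 2, -4, 0, 2, 0, -2, 0, -2, 0, -4, -2, 0, 0, 0, 0, 0, 0, 0, 0, 0, -2],
  [2, 2, 0, 2, 0, 0, -2, 0, -2, 0, 2, 0, 0, 2, 4, 0, -4, 0, 0, 0, 0, 0, 0, 2]]

theorem gEl8M_ok : matOK gEl8M = true := by decide +kernel

/-- a letter -/
def gEl8 : LGen := matGen gEl8M gEl8M_ok

/-- a letter -/
def gEl9M : List (List ℤ) := [
  [-1, -3, 1, 1, -1, -1, 1, -1, 1, -1, -3, -1, 1, 3, -1, 1, -1, -1, 1, 3, -3, -1, 1, 1],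
  [-1, 1, -3, -3, -1, 3, -3, -1, 1, -1, 1, -1, 1, 3, -1, 1, -1, -1, 1, -1, 1, -1, 1, 1],
  [1, -1, -1, -1, 1, 1, -1, -3, 3, 1, -1, 1, -1, -3, 1, -1, 1, 1, 3, 1, -1, 1, -1, 3],
  [1, -1, -1, -1, -3, -3, -1, 1, -1, 1, -1, 1, -1, 1, 1, -1, 1, -3, -1, -3, -1, 1, -1, 3],
  [1, -1, 3, -1, 1, 1, -1, 1, -1, 1, -1, -3, -1, 1, -3, -1, 1, 1, -1, 1, 3, 1, -1, 3],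
  [-3, -1, -1, -1, 1, 1, -1, 1, -1, 1, -1, 1, -1, 1, 1, -1, 1, 1, -1, 1, -1, -3, -5, -1],
  [-1, 1, 1, 1, -1, 3, 1, -1, -3, 3, 1, -1, 1, -1, -1, -3, -1, -1, 1, -1, -3, -1, 1, 1],
  [-1, 1, 1, 1, -1, -1, -3, -1, 1, -1, 1, -1, 1, -1, 3, -3, -1, -1, -3, 3, 1, -1, 1, 1],
  [-1, 1, 1, 1, -1, 3, 1, -1, 1, -1, -3, 3, -3, -1, -1, 1, -1, -1, -3, -1, 1, -1, 1, 1],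
  [-1, 1, 1, -3, -1, -1, 1, -1, -3, -1, -3, -1, 1, -1, 3, 1, -1, 3, 1, -1, 1, -1, 1, 1],
  [-1, -3, 1, 1, 3, -1, -3, -1, -3, -1, 1, 3, 1, -1, -1, 1, -1, -1, 1, -1, 1, -1, 1, 1],
  [1, -1, -1, -1, 1, 1, -1, 1, -1, 1, -1, -3, -1, -3, 1, 3, -3, -3, -1, 1, -1, 1, -1, -1],
  [1, -1, -1, -1, 1, 1, 3, -3, -1, 1, -1, 1, 3, 1, 1, -1, 1, -3, -1, 1, 3, 1, -1, -1],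
  [1, 3, 3, -1, 1, 1, -1, 1, -1, -3, -1, 1, -1, 1, 1, -1, 1, -3, 3, 1, -1, 1, -1, -1],
  [1, 3, -1, -1, 1, -3, -1, -3, -1, 1, -1, 1, -1, 1, -3, -1, -3, 1, -1, 1, -1, 1, -1, -1],
  [-5, 1, 1, 1, -1, -1, 1, -1, 1, -1, 1, -1, 1, -1, -1, 1, -1, -1, 1, -1, 1, 3, -3, 1],
  [-1, 1, 1, -3, 3, -1, 1, -1, 1, -1, 1, -1, 1, -1, -1, 1, 3, -1, -3, -1, -3, -1, 1, 1],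
  [-1, 1, 1, -3, -1, -1, 1, 3, 1, 3, 1, 3, 1, -1, -1, 1, -1, -1, 1, 3, 1, -1, 1, 1],
  [1, -1, 3, -1, 1, 1, -1, 1, 3, 1, -1, 1, 3, 1, 1, -1, -3, 1, -1, -3, -1, 1, -1, -1],
  [-1, 1, 1, 1, 3, -1, 1, -1, 1, 3, 1, -1, -3, 3, 3, 1, -1, -1, 1, -1, 1, -1, 1, 1],
  [1, -1, -1, -1, 1, 1, 3, 1, -1, -3, 3, 1, -1, 1, 1, -1, -3, 1, -1, 1, -1, 1, -1, 3],
  [1, -1, 3, -1, -3, 1, -1, -3, -1, 1, 3, 1, -1, 1, 1, 3, 1, 1, -1, 1, -1, 1, -1, -1],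
  [-3, -1, -1, -1, 1, 1, -1, 1, -1, 1, -1, 1, -1, 1, 1, -1, 1, 1, -1, 1, -1, 5, 3, -1],
  [-1, -3, 1, -3, -1, -1, 1, -1, 1, -1, 1, -1, -3, -1, -1, -3, -1, -1, 1, -1, 1, -1, 1, -3]]

theorem gEl9M_ok : matOK gEl9M = true := by decide +kernel

/-- a letter -/
def gEl9 : LGen := matGen gEl9M gEl9M_ok

/-- a letter -/
def gEl10M : List (List ℤ) := [
  [2, -4, 0, -2, -2, -2, -2, -2, -2, 0, 0, 0, -2, 0, -2, -2, 0, 0, 2, 2, 0, 0, 0, 0],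
  [-2, 0, 0, -2, -2, 2, -2, -2, -2, 4, 0, 0, 2, 0, 2, 2, 0, 0, -2, 2, 0, 0, 0, 0],
  [0, -2, 2, 0, 0, 0, 0, 0, 4, 2, 2, -2, 0, 2, 0, 0, 2, -2, 0, 0, -2, 2, -2, 2],
  [0, -2, 2, 0, 0, 0, 0, 4, 0, 2, -2, 2, 0, 2, 0, 0, -2, -2, 0, 0, 2, -2, 2, 2],
  [2, 0, 0, 2, 2, 2, -2, -2, -2, 0, 0, 0, 2, 0, -2, 2, 0, -4, 2, -2, 0, 0, 0, 0],
  [-2, 0, 0, -2, -2, -2, 2, -2, 2, 0, 0, 0, 2, 0, -2, 2, 0, 0, 2, -2, 4, 0, 0, 0],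
  [2, 0, 0, 2, -2, -2, -2, 2, 2, 0, 0, 0, 2, -4, -2, 2, 0, 0, -2, 2, 0, 0, 0, 0],
  [-2, 0, 0, 2, -2, 2, 2, 2, -2, 0, 0, -4, 2, 0, -2, -2, 0, 0, 2, 2, 0, 0, 0, 0],
  [0, 2, 2, 0, 0, 0, 0, 0, 0, 2, -2, 2, 0, -2, 0, 0, 2, 2, 4, 0, -2, -2, -2, 2],
  [-4, -2, -2, 0, 0, 0, 0, 0, 0, -2, -2, 2, 0, -2, 0, 0, 2, -2, 0, 0, -2, 2, 2, 2],
  [0, 2, -2, 0, 0, 0, 0, 0, 0, -2, 2, 2, 0, 2, 0, 0, 2, -2, 0, 4, 2, -2, -2, 2],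
  [0, 2, 2, -4, 0, 0, 0, 0, 0, -2, 2, -2, 0, -2, 0, 0, -2, -2, 0, 0, -2, -2, 2, 2],
  [-2, 0, 0, 2, -2, -2, -2, 2, -2, 0, 4, 0, -2, 0, 2, 2, 0, 0, 2, -2, 0, 0, 0, 0],
  [2, 0, 0, -2, 2, -2, 2, 2, -2, 0, 0, 0, 2, 0, 2, 2, 0, 0, 2, 2, 0, 4, 0, 0],
  [0, 2, 2, 0, 0, 0, 0, 0, 0, 2, 2, 2, 0, -2, 0, -4, 2, -2, 0, 0, 2, 2, 2, -2],
  [-2, 0, 0, -2, 2, 2, -2, 2, 2, 0, 0, 0, -2, 0, -2, 2, 0, 0, 2, 2, 0, 0, 0, -4],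
  [0, 2, 2, 0, -4, 0, 0, 0, 0, -2, -2, 2, 0, 2, 0, 0, -2, -2, 0, 0, -2, 2, -2, -2],
  [2, 0, 0, -2, -2, 2, 2, 2, -2, 0, 0, 0, -2, 0, -2, 2, 4, 0, -2, -2, 0, 0, 0, 0],
  [-2, 0, 4, 2, 2, -2, 2, -2, -2, 0, 0, 0, -2, 0, -2, 2, 0, 0, -2, 2, 0, 0, 0, 0],
  [0, -2, 2, 0, 0, 0, 0, 0, 0, -2, 2, 2, 4, 2, 0, 0, 2, 2, 0, 0, -2, -2, 2, -2],
  [-2, 0, 0, -2, 2, -2, -2, 2, -2, 0, 0, 0, 2, 0, -2, -2, 0, 0, -2, -2, 0, 0, -4, 0],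
  [0, 2, 2, 0, 0, 0, -4, 0, 0, -2, -2, -2, 0, 2, 0, 0, 2, 2, 0, 0, 2, 2, 2, 2],
  [0, 2, -2, 0, 0, -4, 0, 0, 0, 2, -2, -2, 0, 2, 0, 0, 2, -2, 0, 0, -2, -2, 2, -2],
  [0, -2, 2, 0, 0, 0, 0, 0, 0, -2, -2, -2, 0, -2, 4, 0, 2, -2, 0, 0, 2, -2, -2, -2]]

theorem gEl10M_ok : matOK gEl10M = true := by decide +kernel

/-- a letter -/
def gEl10 : LGen := matGen gEl10M gEl10M_ok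

/-- a letter -/
def gEl11M : List (List ℤ) := [
  [-2, 2, -2, -2, 0, -2, 2, -2, -2, 0, 2, 0, 0, -2, 0, 0, 0, 0, -2, -2, 2, 2, -2, 2],
  [2, -2, 2, 2, 0, -2, 2, 2, 2, 0, 2, 0, 0, -2, 0, 0, 0, 0, -2, -2, -2, 2, 2, 2],
  [-2, -2, -2, 2, 0, 2, 2, 2, -2, 0, 2, 0, 0, 2, 0, 0, 0, 0, -2, 2, 2, 2, 2, -2],
  [0, 0, 0, 0, -2, 0, 0, 0, 0, -2, 0, 2, 2, 0, -2, 6, -2, -2, 0, 0, 0, 0, 0, 0],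
  [-2, 2, -2, 2, 0, -2, -2, -2, 2, 0, 2, 0, 0, -2, 0, 0, 0, 0, -2, 2, -2, -2, 2, -2],
  [2, 2, 2, 2, 0, -2, 2, -2, -2, 0, -2, 0, 0, -2, 0, 0, 0, 0, 2, 2, 2, 2, 2, -2],
  [0, 0, 0, 0, 2, 0, 0, 0, 0, -6, 0, -2, -2, 0, 2, 2, 2, 2, 0, 0, 0, 0, 0, 0],
  [0, 0, 0, 0, 2, 0, 0, 0, 0, 2, 0, -2, -2, 0, -6, 2, 2, 2, 0, 0, 0, 0, 0, 0],
  [2, 2, -2, 2, 0, -2, -2, 2, -2, 0, 2, 0, 0, 2, 0, 0, 0, 0, 2, 2, -2, 2, -2, 2],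
  [-2, -2, 2, 2, 0, -2, 2, -2, -2, 0, 2, 0, 0, 2, 0, 0, 0, 0, 2, -2, -2, -2, -2, -2],
  [0, 0, 0, 0, -6, 0, 0, 0, 0, 2, 0, -2, -2, 0, 2, 2, 2, 2, 0, 0, 0, 0, 0, 0],
  [0, 0, 0, 0, -2, 0, 0, 0, 0, -2, 0, 2, 2, 0, -2, -2, 6, -2, 0, 0, 0, 0, 0, 0],
  [-2, -2, -2, -2, 0, -2, 2, 2, 2, 0, -2, 0, 0, -2, 0, 0, 0, 0, 2, 2, -2, 2, -2, -2],
  [2, 2, -2, 2, 0, 2, 2, 2, -2, 0, -2, 0, 0, -2, 0, 0, 0, 0, -2, -2, -2, -2, -2, -2],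
  [-2, 2, 2, 2, 0, -2, 2, 2, 2, 0, -2, 0, 0, 2, 0, 0, 0, 0, -2, 2, 2, -2, -2, 2],
  [2, -2, -2, -2, 0, -2, 2, -2, -2, 0, -2, 0, 0, 2, 0, 0, 0, 0, -2, 2, -2, -2, 2, 2],
  [0, 0, 0, 0, -2, 0, 0, 0, 0, -2, 0, -6, 2, 0, -2, -2, -2, -2, 0, 0, 0, 0, 0, 0],
  [2, -2, -2, 2, 0, -2, -2, -2, 2, 0, -2, 0, 0, 2, 0, 0, 0, 0, -2, -2, 2, 2, -2, -2],
  [2, 2, -2, -2, 0, -2, 2, 2, 2, 0, 2, 0, 0, 2, 0, 0, 0, 0, 2, -2, 2, -2, 2, -2],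
  [0, 0, 0, 0, -2, 0, 0, 0, 0, -2, 0, 2, 2, 0, -2, -2, -2, 6, 0, 0, 0, 0, 0, 0],
  [-2, 2, -2, 2, 0, 2, 2, -2, 2, 0, -2, 0, 0, 2, 0, 0, 0, 0, 2, -2, -2, 2, 2, 2],
  [-2, -2, -2, 2, 0, -2, -2, 2, -2, 0, -2, 0, 0, -2, 0, 0, 0, 0, 2, -2, 2, -2, 2, 2],
  [2, -2, -2, 2, 0, 2, 2, -2, 2, 0, 2, 0, 0, -2, 0, 0, 0, 0, 2, 2, 2, -2, -2, 2],
  [0, 0, 0, 0, 2, 0, 0, 0, 0, 2, 0, -2, 6, 0, 2, 2, 2, 2, 0, 0, 0, 0, 0, 0]]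

theorem gEl11M_ok : matOK gEl11M = true := by decide +kernel

/-- a letter -/
def gEl11 : LGen := matGen gEl11M gEl11M_ok

end Cfsg.Agent.CoSection.J2
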