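import Cfsg.Agent.CoSection.CentCert
import Cfsg.Agent.CoSection.J2Gens
import Cfsg.Agent.CoSection.J2Chain
import Cfsg.Agent.CoSection.J2Conj
import Cfsg.Agent.Leech.UnitModelU35
import Cfsg.Agent.Leech.HSGens

/-! An upper bound for the centraliser of the element of order five. -/

set_option autoImplicit false
set_option maxRecDepth 100000

namespace Cfsg.Agent.CoSection.J2
open Cfsg Cfsg.Agent.Leech

theorem uL_facts : latB uL = true ∧ toL (ofL uL) = uL := by decide +kernel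

/-- the short vector -/
def u : leechLattice := ⟨ofL uL, mem_of_latB (by rw [uL_facts.2]; exact uL_facts.1)⟩

/-- its images -/
def u1 : leechLattice := aEl.g • u

/-- its images -/
def u2 : leechLattice := aEl.g • u1

/-- its images -/
def u3 : leechLattice := aEl.g • u2

theorem toL_u : toL (u : GolayPt → ℤ) = uL := uL_facts.2

theorem toL_u1 : toL (u1 : GolayPt → ℤ) = aEl.f uL := by rw [u1, aEl.spec, toL_u]

theorem toL_u2 : toL (u2 : GolayPt → ℤ) = aEl.f (aEl.f uL) := by rw [u2, aEl.spec, toL_u1]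

theorem toL_u3 : toL (u3 : GolayPt → ℤ) = aEl.f (aEl.f (aEl.f uL)) := by rw [u3, aEl.spec, toL_u2]

theorem dot_facts : sqNorm (ofL uL) = 32 ∧ dotInt (ofL uL) (ofL (aEl.f uL)) = -8 := by decide +kernel

theorem ofL_toL (x : GolayPt → ℤ) : ofL (toL x) = x :=
  funext fun p => by rw [ofL, toL_getD _ _ (idx_lt p), ptOf_idx]

/-- the pair stabiliser -/
def K2 : Subgroup ↥Co0 := MulAction.stabilizer ↥Co0 u ⊓ MulAction.stabilizer ↥Co0 u1

/-- the stabiliser of three vectors -/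
def K3 : Subgroup ↥Co0 := K2 ⊓ MulAction.stabilizer ↥Co0 u2

/-- the stabiliser of four vectors -/
def K4 : Subgroup ↥Co0 := K3 ⊓ MulAction.stabilizer ↥Co0 u3

theorem card_K2 : Nat.card ↥K2 = 898128000 := by
  rw [← simple_mcl.2]
  refine card_pair u u1 Spor.leechU eW dot_facts.1 ?_ (by decide +kernel) (by decide +kernel) (-8)
    (Or.inr rfl) ?_ (by decide +kernel)
  · rw [u1, sqNorm_smul]; exact dot_facts.1
  · show dotInt (ofL uL) (u1 : GolayPt → ℤ) = -8
    rw [← ofL_toL (u1 : GolayPt → ℤ), toL_u1]; exact dot_facts.2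

theorem smul_eq_of (x : LGen) (v : leechLattice) (l : List ℤ) (hl : toL (v : GolayPt → ℤ) = l)
    (h : x.f l = l) : x.g • v = v :=
  Subtype.ext (toL_injective (by rw [x.spec, hl, h]))

theorem gens3_fix : ∀ x ∈ [k3El0.f, k3El1.f],
    x uL = uL ∧ x (aEl.f uL) = aEl.f uL ∧ x (aEl.f (aEl.f uL)) = aEl.f (aEl.f uL) := by
  decide +kernel

theorem conj_fix : ∀ x ∈ [cEl0.f, cEl1.f, cEl2.f, cEl3.f, cEl4.f, cEl5.f, cEl6.f, cEl7.f, cEl8.f],
    x uL = uL ∧ x (aEl.f uL) = aEl.f uL ∧ x (aEl.f (aEl.f uL)) = aEl.f (aEl.f uL) ∧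
      x (aEl.f (aEl.f (aEl.f uL))) = aEl.f (aEl.f (aEl.f uL)) := by
  decide +kernel

theorem walkX_ok : (noColl modX 0 ((toL (u35X : GolayPt → ℤ) ::
    walk [mg0.f, mg1.f, hsGen.f] (toL (u35X : GolayPt → ℤ)) (unpack 4 lenX opsX) []).map encodeL) &&
    Nat.beq (toL (u35X : GolayPt → ℤ) ::
      walk [mg0.f, mg1.f, hsGen.f] (toL (u35X : GolayPt → ℤ)) (unpack 4 lenX opsX) []).length 352) = true := by
  decide +kernel

theorem tr_facts : trEl.f uL = toL (u35X : GolayPt → ℤ) ∧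
    trEl.f (aEl.f (aEl.f uL)) = toL (hT : GolayPt → ℤ) ∧
    trEl.f (aEl.f uL) = (toL ((hV + hT + u35X : leechLattice) : GolayPt → ℤ)).map fun x => -x := by
  decide +kernel

theorem walk3_ok : (noColl mod3 0 ((aEl.f (aEl.f (aEl.f uL)) ::
    walk [k3El0.f, k3El1.f] (aEl.f (aEl.f (aEl.f uL))) (unpack 4 len3 ops3) []).map encodeL) &&
    Nat.beq (aEl.f (aEl.f (aEl.f uL)) ::
      walk [k3El0.f, k3El1.f] (aEl.f (aEl.f (aEl.f uL))) (unpack 4 len3 ops3) []).length 252) = true := by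
  decide +kernel

theorem card_K3 : 352 * Nat.card ↥K3 ≤ 44352000 := by
  obtain ⟨t0, t2, t1⟩ := tr_facts
  have e0 : trEl.g • u = u35X := Subtype.ext (toL_injective (by rw [trEl.spec, toL_u, t0]))
  have e2 : trEl.g • u2 = hT := Subtype.ext (toL_injective (by rw [trEl.spec, toL_u2, t2]))
  have e1 : trEl.g • u1 = -(hV + hT + u35X) := Subtype.ext (toL_injective (by
    rw [trEl.spec, toL_u1, t1, AddSubgroup.coe_neg]
    simp [toL, List.map_map, Function.comp_def]))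
  obtain ⟨e⟩ := stab_triple_iso trEl.g u u1 u2
  rw [e0, e1, e2] at e
  have hc : Nat.card ↥K3 = Nat.card ↥u35Group := by
    refine (Nat.card_congr e.toEquiv).trans (congrArg (fun V : Subgroup ↥Co0 => Nat.card ↥V) ?_)
    ext h
    simp only [u35Group, hsGroup, Subgroup.mem_inf, MulAction.mem_stabilizer_iff, smul_neg', smul_add',
      neg_inj]
    constructor
    · rintro ⟨⟨hX, hW⟩, hT'⟩
      rw [hT', hX] at hW
      exact ⟨⟨add_right_cancel (add_right_cancel hW), hT'⟩, hX⟩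
    · rintro ⟨⟨hV', hT'⟩, hX⟩
      exact ⟨⟨hX, by rw [hV', hT', hX]⟩, hT'⟩
  rw [hc, ← simple_hs.2]
  exact orbit_mul_le hsGroup u35X 352 (le_ncard_orbit [mg0, mg1, hsGen] hsGroup hsGens_mem u35X _ rfl
    (unpack 4 lenX opsX) _ rfl modX 352 walkX_ok)

theorem card_K4 : 252 * Nat.card ↥K4 ≤ Nat.card ↥K3 := by
  refine orbit_mul_le K3 u3 252 (le_ncard_orbit [k3El0, k3El1] K3 (fun x hx => ?_) u3 _ toL_u3
    (unpack 4 len3 ops3) _ rfl mod3 252 walk3_ok)
  obtain ⟨h0, h1, h2⟩ := gens3_fix x.f (by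
    simp only [List.mem_cons, List.not_mem_nil, or_false] at hx ⊢
    rcases hx with rfl | rfl <;> simp)
  exact ⟨⟨smul_eq_of x u _ toL_u h0, smul_eq_of x u1 _ toL_u1 h1⟩, smul_eq_of x u2 _ toL_u2 h2⟩

/-- the probe -/
def probeV : leechLattice := oct (ptOf probe)

/-- the matrices of the conjugating elements -/
def cMats : List (List (List ℤ)) :=
  [cEl0M, cEl1M, cEl2M, cEl3M, cEl4M, cEl5M, cEl6M, cEl7M, cEl8M]

/-- the conjugating elements -/
def cEls : Fin 9 → LGen := ![cEl0, cEl1, cEl2, cEl3, cEl4, cEl5, cEl6, cEl7, cEl8]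

theorem cEls_inv (i : Fin 9) (v : leechLattice) :
    toL (((cEls i).g⁻¹ • v : leechLattice) : GolayPt → ℤ) =
      matF (tr (cMats.getD i.1 [])) (toL (v : GolayPt → ℤ)) := by
  fin_cases i <;> exact toL_img _ (by simp [tr]) _

theorem conj_distinct : (List.range 9).map (fun i =>
    matF (cMats.getD i []) (aEl.f (matF (tr (cMats.getD i [])) (toL (probeV : GolayPt → ℤ)))))
      |>.Nodup := by
  decide +kernel

theorem cEls_f : ∀ i : Fin 9, (cEls i).f = matF (cMats.getD i.1 []) := by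
  intro i; fin_cases i <;> rfl

theorem card_Cu : 9 * Nat.card ↥(K4 ⊓ Cg aEl) ≤ Nat.card ↥K4 := by
  have h := card_conj_mul_le (a := aEl) K4 (fun i : Fin 9 => (cEls i).g) (fun i => ?_) (fun i j e => ?_)
  · simpa using h
  · obtain ⟨h0, h1, h2, h3⟩ := conj_fix (cEls i).f (by fin_cases i <;> simp [cEls])
    exact ⟨⟨⟨smul_eq_of _ u _ toL_u h0, smul_eq_of _ u1 _ toL_u1 h1⟩, smul_eq_of _ u2 _ toL_u2 h2⟩,
      smul_eq_of _ u3 _ toL_u3 h3⟩
  · have e' := congrArg (fun g : ↥Co0 => toL ((g • probeV : leechLattice) : GolayPt → ℤ)) e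
    simp only [mul_smul, LGen.spec, cEls_inv, cEls_f] at e'
    exact Fin.ext (List.inj_on_of_nodup_map conj_distinct (List.mem_range.2 i.2) (List.mem_range.2 j.2) e')

theorem card_Cg : Nat.card ↥(Cg aEl) < 2 * (604800 * (2 * 5)) := by
  have := finite_co0
  have h1 := card_Cg_le (a := aEl) u dot_facts.1
  have h2 : Nat.card ↥(Cg aEl ⊓ MulAction.stabilizer ↥Co0 u) ≤ Nat.card ↥(K4 ⊓ Cg aEl) := by
    refine Subgroup.card_le_of_le fun g hg => ?_
    obtain ⟨hC, hu⟩ := hg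
    have e1 := fixes_image (a := aEl) hC (MulAction.mem_stabilizer_iff.1 hu)
    have e2 := fixes_image (a := aEl) hC e1
    have e3 := fixes_image (a := aEl) hC e2
    exact ⟨⟨⟨⟨hu, e1⟩, e2⟩, e3⟩, hC⟩
  have h3 := card_K3
  have h4 := card_K4
  have h5 := card_Cu
  omega

end Cfsg.Agent.CoSection.J2
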