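import Cfsg.Agent.HallJanko.Uniq.Iso
import Cfsg.Agent.HallJanko.Reduce
import Cfsg.Agent.Layer.FStar
import Cfsg.Agent.Layer.PConstraint

/-! The large extraspecial property of the group on 315 points. -/

set_option autoImplicit false

namespace Cfsg.Agent.CoSection.J2Model
open Cfsg Cfsg.Agent.JankoTwo Cfsg.Agent.HallJanko

/-- the centraliser of the involution -/
noncomputable abbrev CK : Subgroup ↥K315 := Subgroup.centralizer ({tR 0} : Set ↥K315)

theorem mem_CK {x : ↥K315} (hx : x ∈ CK) : (x : Equiv.Perm (Fin 315)) ∈ Cg :=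
  ModelJ2.mem_C_iff.1 (mem_C.1 hx)

/-- the action on five blocks -/
noncomputable def act : ↥CK →* Equiv.Perm (Fin 5) :=
  blockHom.comp (MonoidHom.mk' (fun x => (⟨((x : ↥K315) : Equiv.Perm (Fin 315)), mem_CK x.2⟩ : ↥Cg))
    fun _ _ => Subtype.ext rfl)

theorem act_ker : act.ker = Qk.subgroupOf CK := by
  ext x
  rw [MonoidHom.mem_ker, Subgroup.mem_subgroupOf, mem_Qk_iff]
  exact ⟨fun h => ⟨mem_CK x.2, h⟩, fun ⟨_, h⟩ => h⟩

theorem act_range : act.range = alternatingGroup (Fin 5) := by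
  rw [← range_blockHom]
  ext s
  constructor
  · rintro ⟨x, rfl⟩; exact ⟨_, rfl⟩
  · rintro ⟨⟨σ, hσ⟩, rfl⟩
    exact ⟨⟨⟨σ, Cg_le hσ⟩, mem_C.2 (ModelJ2.mem_C_iff.2 hσ)⟩, rfl⟩

theorem finite_K : Finite ↥K315 := inferInstance

theorem omega_alt :
    Nonempty (↥(Omega (ZMod 2) (quadFormMinus 1 (ZMod 2) 1 1)) ≃* ↥(alternatingGroup (Fin 5))) := by
  obtain ⟨e⟩ := Classical.Symm2.equiv_five (F := ZMod 2) (ZMod.card 2)
  have hmap : (commutator ↥(Cfsg.isometryGroup (ZMod 2) (Cfsg.quadFormMinus 1 (ZMod 2) 1 1))).map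
      e.toMonoidHom = commutator (Equiv.Perm (Fin 5)) := by
    rw [commutator_def, commutator_def, Subgroup.map_commutator, Subgroup.map_top_of_surjective _ e.surjective]
  exact ⟨((e.subgroupMap _).trans (MulEquiv.subgroupCongr hmap)).trans
    (MulEquiv.subgroupCongr CharTwoInvol.Orth.commutator_perm_five)⟩

theorem large_extraspecial : ∃ z : ↥K315, orderOf z = 2 ∧
    ∃ (Q : Subgroup (Subgroup.centralizer ({z} : Set ↥K315))) (_ : Q.Normal),
    generalizedFittingSubgroup (Subgroup.centralizer ({z} : Set ↥K315)) = Q ∧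
    IsExtraspecial 2 Q ∧ Nat.card Q = 2 ^ 5 ∧
    Nonempty ((Subgroup.centralizer ({z} : Set ↥K315)) ⧸ Q ≃* Omega (ZMod 2) (quadFormMinus 1 (ZMod 2) 1 1)) ∧
    ∃ g : ↥K315, (∃ hq : g * z * g⁻¹ ∈ Subgroup.centralizer ({z} : Set ↥K315),
      (⟨g * z * g⁻¹, hq⟩ : Subgroup.centralizer ({z} : Set ↥K315)) ∈ Q) ∧ g * z * g⁻¹ ≠ z := by
  have h := ModelJ2.hj_K315
  have hle : Qk ≤ CK := fun q hq => mem_C.2 (h.le q hq)
  let e : ↥(Qk.subgroupOf CK) ≃* ↥Qk := Subgroup.subgroupOfEquivOfLe hle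
  have hnorm : (Qk.subgroupOf CK).Normal := act_ker ▸ inferInstance
  have hes : IsExtraspecial 2 ↥(Qk.subgroupOf CK) := LargeExtra.extraspecial_congr e.symm h.es
  let q' : ↥CK →* ↥(alternatingGroup (Fin 5)) := act.codRestrict _ fun x => act_range.le ⟨x, rfl⟩
  have hsurj : Function.Surjective q' := fun y => by
    obtain ⟨x, hx⟩ := act_range.ge y.2
    exact ⟨x, Subtype.ext hx⟩
  have hker : q'.ker = Qk.subgroupOf CK := by
    rw [← act_ker]
    exact act.ker_codRestrict _ _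
  have hsimple : IsSimpleGroup ↥(alternatingGroup (Fin 5)) :=
    alternatingGroup.isSimpleGroup (by simp)
  have hfit : fittingSubgroup ↥CK = Qk.subgroupOf CK := by
    refine le_antisymm ?_ (Core.le_fittingSubgroup hes.1.1.isNilpotent)
    rcases (Subgroup.Normal.map (inferInstance : (fittingSubgroup ↥CK).Normal) q'
      hsurj).eq_bot_or_eq_top with e' | e'
    · rw [← hker]; exact (Subgroup.map_eq_bot_iff _).1 e'
    · exfalso
      have hn : Group.IsNilpotent ↥(alternatingGroup (Fin 5)) := by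
        refine Group.isNilpotent_top.1 ?_
        rw [← e']
        exact Core.isNilpotent_map Core.fittingSubgroup_isNilpotent _
      have hc := IsSimpleGroup.comm_iff_isSolvable.2 (inferInstance : Group.IsSolvable ↥(alternatingGroup (Fin 5)))
      have := (by decide +kernel : ¬ ∀ a b : ↥(alternatingGroup (Fin 5)), a * b = b * a)
      exact this hc
  refine ⟨tR 0, h.hz, Qk.subgroupOf CK, hnorm, ?_, hes, by rw [Nat.card_congr e.toEquiv, h.card]; rfl, ?_, ?_⟩
  · rw [generalizedFittingSubgroup, Layer.layer_eq_bot_iff_centralizer_fitting.2 ?_, bot_sup_eq, hfit]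
    rw [hfit]
    intro c hc
    have := h.cQ c.1 fun q hq => congrArg Subtype.val
      (Subgroup.mem_centralizer_iff.1 hc ⟨q, hle hq⟩ hq)
    rcases this with e' | e'
    · show c.1 ∈ Qk
      rw [e']; exact Subgroup.one_mem _
    · show c.1 ∈ Qk
      rw [e']; exact h.zmem
  · obtain ⟨o⟩ := omega_alt
    exact ⟨((QuotientGroup.quotientMulEquivOfEq hker.symm).trans
      (QuotientGroup.quotientKerEquivOfSurjective q' hsurj)).trans o.symm⟩
  · obtain ⟨g, hg, hne⟩ := h.nwc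
    exact ⟨g, ⟨hle hg, hg⟩, hne⟩

theorem simple_K315 : IsSimpleGroup ↥K315 ∧ ¬ IsMulCommutative ↥K315 := by
  obtain ⟨a, b, h⟩ := exists_noncomm
  exact ⟨isSimpleGroup_K315, fun hc => h (hc.is_comm.comm a b)⟩

end Cfsg.Agent.CoSection.J2Model
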