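import Cfsg.Agent.CoSection.J2Bound
import Cfsg.Agent.HallJanko.Uniq.Iso
import Cfsg.Agent.HallJanko.Reduce
import Cfsg.Agent.Layer.FStar
import Cfsg.Agent.Layer.PConstraint

/-! The centraliser modulo the element and the centre is the Hall–Janko group. -/

set_option autoImplicit false
set_option maxRecDepth 100000

namespace Cfsg.Agent.CoSection.J2
open Cfsg Cfsg.Agent.Leech

/-- the letters -/
def letters : List LGen :=
  [gEl0, gEl1, gEl2, gEl3, gEl4, gEl5, gEl6, gEl7, gEl8, gEl9, gEl10, gEl11]

theorem letters_comm :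
    (letters.all fun x => eqB (aEl.f ∘ x.f) (x.f ∘ aEl.f)) = true := by
  decide +kernel

theorem letter_mem (n : ℕ) : (letters.getD n oneG).g ∈ Cg aEl := by
  rw [List.getD_eq_getElem?_getD]
  cases h : letters[n]? with
  | none => exact (Cg aEl).one_mem
  | some x => exact mem_Cg_of aEl x (List.all_eq_true.1 letters_comm x (List.mem_of_getElem? h))

/-- the quotient -/
abbrev QS : Type := ↥(Cg aEl) ⧸ Nn aEl

/-- the value of a letter -/
def val (n : ℕ) : QS := QuotientGroup.mk ⟨(letters.getD n oneG).g, letter_mem n⟩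

theorem prod_val : ∀ w : List ℕ, ∃ h : (prodG (w.map fun n => letters.getD n oneG)).g ∈ Cg aEl,
    (w.map val).prod = QuotientGroup.mk ⟨_, h⟩
  | [] => ⟨(Cg aEl).one_mem, rfl⟩
  | n :: w => by
    obtain ⟨h, e⟩ := prod_val w
    refine ⟨mul_mem (letter_mem n) h, ?_⟩
    rw [List.map_cons, List.prod_cons, e]
    rfl

theorem prod_one {w : List ℕ} (h : nTest aEl 5 (prodG (w.map fun n => letters.getD n oneG)) = true) :
    (w.map val).prod = 1 := by
  obtain ⟨hm, e⟩ := prod_val w
  rw [e]
  exact mk_eq_one hm h

/-- the relators in five parts -/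
def relPart (k : ℕ) : List (List ℕ) := ((HallJanko.Uniq.baseRels ++ [HallJanko.Uniq.goodRel]).drop (12 * k)).take 12

theorem rels0 : ((relPart 0).all fun w => nTest aEl 5 (prodG (w.map fun n => letters.getD n oneG))) = true := by
  decide +kernel

theorem rels1 : ((relPart 1).all fun w => nTest aEl 5 (prodG (w.map fun n => letters.getD n oneG))) = true := by
  decide +kernel

theorem rels2 : ((relPart 2).all fun w => nTest aEl 5 (prodG (w.map fun n => letters.getD n oneG))) = true := by
  decide +kernel

theorem rels3 : ((relPart 3).all fun w => nTest aEl 5 (prodG (w.map fun n => letters.getD n oneG))) = true := by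
  decide +kernel

theorem rels4 : ((relPart 4).all fun w => nTest aEl 5 (prodG (w.map fun n => letters.getD n oneG))) = true := by
  decide +kernel

theorem rels_split : (HallJanko.Uniq.baseRels ++ [HallJanko.Uniq.goodRel]) =
    relPart 0 ++ relPart 1 ++ relPart 2 ++ relPart 3 ++ relPart 4 := by decide +kernel

theorem rels_one : ∀ w ∈ HallJanko.Uniq.baseRels ++ [HallJanko.Uniq.goodRel], (w.map val).prod = 1 := by
  intro w hw
  rw [rels_split] at hw
  simp only [List.mem_append] at hw
  rcases hw with (((h | h) | h) | h) | h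
  exacts [prod_one (List.all_eq_true.1 rels0 w h), prod_one (List.all_eq_true.1 rels1 w h),
    prod_one (List.all_eq_true.1 rels2 w h), prod_one (List.all_eq_true.1 rels3 w h),
    prod_one (List.all_eq_true.1 rels4 w h)]

theorem inv_val (n : ℕ) : val (HallJanko.Uniq.invL n) = (val n)⁻¹ := by
  have key : ∀ n, [n, HallJanko.Uniq.invL n] ∈ HallJanko.Uniq.baseRels →
      val (HallJanko.Uniq.invL n) = (val n)⁻¹ := fun n h => by
    have e := rels_one _ (List.mem_append_left _ h)
    simp only [List.map_cons, List.map_nil, List.prod_cons, List.prod_nil, mul_one] at e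
    exact eq_inv_of_mul_eq_one_right e
  match n with
  | 0 | 1 | 2 | 3 | 4 | 5 | 6 | 7 | 8 | 9 | 10 | 11 => exact key _ (by decide +kernel)
  | m + 12 =>
    show val (m + 12) = (val (m + 12))⁻¹
    have e : val (m + 12) = 1 := by
      refine (QuotientGroup.eq_one_iff _).2 ?_
      show (letters.getD (m + 12) oneG).g ∈ AA aEl ⊔ Subgroup.center ↥Co0
      rw [List.getD_eq_default _ _ (by simp [letters])]
      exact Subgroup.one_mem _
    rw [e, inv_one]

theorem val12 : val 12 = 1 := by
  refine (QuotientGroup.eq_one_iff _).2 ?_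
  exact Subgroup.one_mem _

theorem prime_five : Nat.Prime 5 := by norm_num

theorem base_ok : baseTest aEl 5 = true := by decide +kernel

theorem moves_ok : notTest aEl 5 (prodG ([9, 4, 10, 4].map fun n => letters.getD n oneG)) = true := by decide +kernel

/-- the subgroup generated by the letters -/
def HS : Subgroup QS := Subgroup.closure (Set.range fun x : Fin 12 => val x)

theorem val_mem (n : ℕ) : val n ∈ HS := by
  by_cases h : n < 12
  · exact Subgroup.subset_closure ⟨⟨n, h⟩, rfl⟩
  · have e : val n = 1 := by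
      refine (QuotientGroup.eq_one_iff _).2 ?_
      show (letters.getD n oneG).g ∈ AA aEl ⊔ Subgroup.center ↥Co0
      rw [List.getD_eq_default _ _ (by simp [letters]; omega)]
      exact Subgroup.one_mem _
    rw [e]; exact one_mem _

/-- the letters inside the subgroup -/
def valH (n : ℕ) : ↥HS := ⟨val n, val_mem n⟩

theorem prodH (w : List ℕ) (h : (w.map val).prod = 1) : (w.map valH).prod = 1 := by
  refine Subtype.ext ?_
  rw [SubmonoidClass.coe_list_prod, List.map_map]
  exact h

theorem valH_closure : Subgroup.closure (Set.range fun x : Fin 12 => valH x) = ⊤ := by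
  rw [← Subgroup.map_injective HS.subtype_injective |>.eq_iff, MonoidHom.map_closure, ← MonoidHom.range_eq_map,
    Subgroup.range_subtype, ← Set.range_comp]
  rfl

theorem exists_equiv : Nonempty (QS ≃* ↥HallJanko.Uniq.TG) := by
  classical
  have := finite_co0
  set M : Subgroup ↥HS := Subgroup.centralizer {valH 4}
  have hmem : ∀ y : ↥HS, y ∈ M ↔ y * valH 4 = valH 4 * y := fun y =>
    Subgroup.mem_centralizer_singleton_iff
  have hfix : ∀ y : ↥HS, y • ((1 : ↥HS) : ↥HS ⧸ M) = ((1 : ↥HS) : ↥HS ⧸ M) ↔ y ∈ M := fun y => by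
    rw [MulAction.Quotient.smul_coe, smul_eq_mul, mul_one, QuotientGroup.eq, mul_one, inv_mem_iff]
  have hrels : ∀ w ∈ HallJanko.Uniq.baseRels, (w.map valH).prod = 1 := fun w hw =>
    prodH w (rels_one w (List.mem_append_left _ hw))
  have hgood : ((HallJanko.Uniq.xgRel 3 1).map valH).prod = 1 := by
    rw [HallJanko.Uniq.xgRel_good]
    exact prodH _ (rels_one _ (List.mem_append_right _ List.mem_cons_self))
  have h12 : valH 12 = 1 := Subtype.ext val12
  have hinv : ∀ n, valH (HallJanko.Uniq.invL n) = (valH n)⁻¹ := fun n => Subtype.ext (inv_val n)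
  have hsub : ∀ n ∈ HallJanko.Uniq.subL, valH n • ((1 : ↥HS) : ↥HS ⧸ M) = ((1 : ↥HS) : ↥HS ⧸ M) := by
    intro n hn
    rw [hfix, hmem]
    have hs : (HallJanko.Uniq.subL.all fun n => Nat.beq n 4 ||
        (decide ([n, 4, HallJanko.Uniq.invL n, 4] ∈ HallJanko.Uniq.baseRels) ||
          decide ([4, n, 4, n] ∈ HallJanko.Uniq.baseRels) ||
          decide ([HallJanko.Uniq.invL n, 4, n, 4] ∈ HallJanko.Uniq.baseRels))) = true := by decide +kernel
    have h44 : valH 4 * valH 4 = 1 := by
      have := hrels [4, 4] (by decide +kernel)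
      simpa using this
    have hn' := List.all_eq_true.1 hs n hn
    simp only [Bool.or_eq_true, decide_eq_true_eq, Nat.beq_eq] at hn'
    have h4i : (valH 4)⁻¹ = valH 4 := inv_eq_of_mul_eq_one_right h44
    rcases hn' with rfl | (h | h) | h
    · rfl
    · have e := hrels _ h
      simp only [List.map_cons, List.map_nil, List.prod_cons, List.prod_nil, mul_one, hinv] at e
      have e2 : valH n * valH 4 * (valH n)⁻¹ * valH 4 = 1 := by rw [← e]; group
      rw [mul_eq_one_iff_eq_inv, h4i, mul_inv_eq_iff_eq_mul] at e2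
      exact e2
    · have e := hrels _ h
      simp only [List.map_cons, List.map_nil, List.prod_cons, List.prod_nil, mul_one] at e
      have e2 : (valH 4 * valH n) * (valH 4 * valH n) = 1 := by rw [← e]; group
      have hnn : valH n * valH n = 1 := by
        have hs2 : (HallJanko.Uniq.subL.all fun n => !decide ([4, n, 4, n] ∈ HallJanko.Uniq.baseRels) ||
            decide ([n, n] ∈ HallJanko.Uniq.baseRels)) = true := by decide +kernel
        have h' := List.all_eq_true.1 hs2 n hn
        simp only [Bool.or_eq_true, Bool.not_eq_true', decide_eq_false_iff_not, decide_eq_true_eq] at h'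
        simpa using hrels _ (h'.resolve_left (not_not.2 h))
      have e3 := inv_eq_of_mul_eq_one_right e2
      rw [mul_inv_rev, h4i, inv_eq_of_mul_eq_one_right hnn] at e3
      exact e3
    · have e := hrels _ h
      simp only [List.map_cons, List.map_nil, List.prod_cons, List.prod_nil, mul_one, hinv] at e
      have e2 : (valH n)⁻¹ * valH 4 * valH n * valH 4 = 1 := by rw [← e]; group
      rw [mul_eq_one_iff_eq_inv, h4i, mul_assoc, inv_mul_eq_iff_eq_mul] at e2
      exact e2.symm
  have hne : valH 9 • ((1 : ↥HS) : ↥HS ⧸ M) ≠ ((1 : ↥HS) : ↥HS ⧸ M) := by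
    rw [Ne, hfix, hmem]
    intro e
    refine not_mem_of_notTest prime_five base_ok moves_ok ?_
    have e' := congrArg Subtype.val e
    have e4 : (val 4)⁻¹ = val 4 := (inv_val 4).symm
    have e9 : (val 9)⁻¹ = val 10 := (inv_val 9).symm
    have h : ([9, 4, 10, 4].map val).prod = 1 := by
      simp only [List.map_cons, List.map_nil, List.prod_cons, List.prod_nil, mul_one]
      show val 9 * (val 4 * (val 10 * val 4)) = 1
      rw [← e9, ← mul_assoc, show val 9 * val 4 = val 4 * val 9 from e', mul_assoc,
        mul_inv_cancel_left]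
      exact mul_eq_one_iff_eq_inv.2 e4.symm
    obtain ⟨hm, e''⟩ := prod_val [9, 4, 10, 4]
    rw [e''] at h
    have hN : (⟨_, hm⟩ : ↥(Cg aEl)) ∈ Nn aEl := (QuotientGroup.eq_one_iff _).1 h
    exact hN
  obtain ⟨P, hP, hsgm, hreach⟩ := HallJanko.Uniq.exists_points h12 hinv hrels hsub hne hgood
  -- every generator permutes the named points, so they are all the points
  have hall : ∀ (y : ↥HS) (i : Fin 315), ∃ j, y • P i = P j := by
    intro y
    have hy : y ∈ Subgroup.closure (Set.range fun x : Fin 12 => valH x) := valH_closure ▸ Subgroup.mem_top y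
    induction hy using Subgroup.closure_induction with
    | mem x hx =>
      obtain ⟨n, rfl⟩ := hx
      exact fun i => ⟨_, hsgm n i⟩
    | one => exact fun i => ⟨i, one_smul _ _⟩
    | mul x z _ _ ihx ihz =>
      intro i
      obtain ⟨j, hj⟩ := ihz i
      obtain ⟨k, hk⟩ := ihx j
      exact ⟨k, by rw [mul_smul, hj, hk]⟩
    | inv x _ ih =>
      choose f hf using ih
      have hinj : Function.Injective f := fun i j e => hP (MulAction.injective x (by
        show x • P i = x • P j
        rw [hf, hf, e]))
      intro i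
      obtain ⟨j, hj⟩ := (Finite.injective_iff_surjective.1 hinj) i
      exact ⟨j, by rw [inv_smul_eq_iff, hf, hj]⟩
  choose f hf using hall
  let φ : ↥HS →* Equiv.Perm (Fin 315) :=
    MonoidHom.mk' (fun y => ⟨f y, f y⁻¹,
        fun i => hP (by rw [← hf, ← hf, inv_smul_smul]),
        fun i => hP (by rw [← hf, ← hf, smul_inv_smul])⟩) fun x z => Equiv.ext fun i => hP (by
      show P (f (x * z) i) = P (f x (f z i))
      rw [← hf, ← hf, ← hf, mul_smul])
  have hrange : φ.range = HallJanko.Uniq.TG := by
    rw [MonoidHom.range_eq_map, ← valH_closure, MonoidHom.map_closure, HallJanko.Uniq.TG, ← Set.range_comp]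
    refine congrArg Subgroup.closure (congrArg Set.range (funext fun x => Equiv.ext fun i => hP ?_))
    show P (f (valH x) i) = _
    rw [← hf, hsgm]
  obtain ⟨eT⟩ := HallJanko.ModelJ2.hj_K315.equiv_TG
  have hT : Nat.card ↥HallJanko.Uniq.TG = 604800 := by
    rw [← Nat.card_congr eT.toEquiv, ← Nat.card_congr JankoTwo.j2Equiv.toEquiv, JankoTwo.card_J2]
  have h1 := φ.ker.card_mul_index
  rw [Subgroup.index_ker, hrange, hT] at h1
  have h2 := HS.card_mul_index
  have h3 := (Nn aEl).card_eq_card_quotient_mul_card_subgroup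
  rw [card_Nn prime_five base_ok, ← h2, ← h1] at h3
  have h4 := card_Cg
  have hk : φ.ker = ⊥ ∧ HS.index = 1 := by
    have a1 : 0 < Nat.card ↥φ.ker := Nat.card_pos
    have a2 : HS.index ≠ 0 := Subgroup.index_ne_zero_of_finite
    have h5 : Nat.card ↥φ.ker * HS.index < 2 := by
      by_contra hc
      have := Nat.mul_le_mul_right 6048000 (not_lt.1 hc)
      rw [h3] at h4
      linarith
    obtain ⟨b1, b2⟩ : Nat.card ↥φ.ker = 1 ∧ HS.index = 1 := by
      have : Nat.card ↥φ.ker * HS.index = 1 := by
        have := Nat.mul_pos a1 (Nat.pos_of_ne_zero a2)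
        omega
      exact mul_eq_one.1 this
    exact ⟨Subgroup.card_eq_one.1 b1, b2⟩
  have hinj : Function.Injective φ := (MonoidHom.ker_eq_bot_iff _).1 hk.1
  exact ⟨((MulEquiv.subgroupCongr (Subgroup.index_eq_one.1 hk.2)).trans Subgroup.topEquiv).symm.trans
    ((MonoidHom.ofInjective hinj).trans (MulEquiv.subgroupCongr hrange))⟩

end Cfsg.Agent.CoSection.J2
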