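import Cfsg.Agent.CoSection.CentCert

/-! Inverses of matrix elements and matrices of products. -/

set_option autoImplicit false

namespace Cfsg.Agent.CoSection
open Cfsg Cfsg.Agent.Leech

/-- the inverse of a matrix element -/
def invGen (M : List (List ℤ)) (h : matOK M = true) : LGen where
  g := (matGen M h).g⁻¹
  f := matF (tr M)
  spec v := toL_img (tr M) (by simp [tr]) _

theorem lin_neg (M : List (List ℤ)) (x : GolayPt → ℤ) : lin M (-x) = -lin M x := by
  funext p; simp [lin]

theorem lin_zsmul (M : List (List ℤ)) (n : ℤ) (x : GolayPt → ℤ) : lin M (n • x) = n • lin M x := by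
  funext p
  simp only [lin, Pi.smul_apply, smul_eq_mul, Finset.mul_sum]
  exact Finset.sum_congr rfl fun a _ => by ring

/-- the list of eight times a unit vector -/
def octL8 (i : ℕ) : List ℤ := (List.range 24).map fun a => if a = i then 8 else 0

theorem toL_oct (i : GolayPt) : toL (oct i : GolayPt → ℤ) = octL8 (idx i) := by
  revert i; decide +kernel

/-- the test that a matrix is that of an action on lists -/
def matchB (M : List (List ℤ)) (f : List ℤ → List ℤ) : Bool :=
  decide (M.length = 24) && (List.range 24).all fun i =>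
    Model.eqZ (linF M (octL8 i)) ((f (octL8 i)).map fun x => 8 * x)

theorem toL_smul8 (x : GolayPt → ℤ) : toL ((8 : ℤ) • x) = (toL x).map fun a => 8 * a := by
  simp [toL, List.map_map, Function.comp_def]

theorem lin_of_match {M : List (List ℤ)} {A : LGen} (h : matchB M A.f = true) (v : leechLattice) :
    lin M (v : GolayPt → ℤ) = (8 : ℤ) • ((A.g • v : leechLattice) : GolayPt → ℤ) := by
  simp only [matchB, Bool.and_eq_true, decide_eq_true_eq, List.all_eq_true, List.mem_range] at h
  obtain ⟨hM, hi⟩ := h
  have key : ∀ i : GolayPt,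
      lin M (oct i : GolayPt → ℤ) = (8 : ℤ) • ((A.g • oct i : leechLattice) : GolayPt → ℤ) := fun i => by
    refine toL_injective ?_
    rw [toL_lin M hM, toL_oct, toL_smul8, A.spec, toL_oct]
    exact Model.eq_of_eqZ (hi _ (idx_lt i))
  let Φ : leechLattice →+ (GolayPt → ℤ) :=
    AddMonoidHom.mk' (fun v => lin M (v : GolayPt → ℤ) - (8 : ℤ) • ((A.g • v : leechLattice) : GolayPt → ℤ))
      fun a b => by
        rw [AddSubgroup.coe_add, lin_add, smul_add', AddSubgroup.coe_add, smul_add]
        abel
  have hΦ : ∀ i, Φ (oct i) = 0 := fun i => sub_eq_zero.2 (key i)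
  have e : (8 : ℤ) • v = ∑ i : GolayPt, (v : GolayPt → ℤ) i • oct i := by
    refine Subtype.ext (funext fun p => ?_)
    rw [AddSubgroup.val_finsetSum, Finset.sum_apply, Finset.sum_eq_single p]
    · simp only [AddSubgroup.coe_zsmul, Pi.smul_apply, oct, Pi.single_eq_same, smul_eq_mul]
      ring
    · intro b _ hb
      simp [oct, Pi.single_eq_of_ne (Ne.symm hb)]
    · simp
  have h8 : (8 : ℤ) • Φ v = 0 := by
    rw [← map_zsmul, e, map_sum]
    exact Finset.sum_eq_zero fun i _ => by rw [map_zsmul, hΦ, smul_zero]
  refine sub_eq_zero.1 (funext fun p => ?_)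
  have := congrFun h8 p
  simp only [Pi.smul_apply, smul_eq_mul, Pi.zero_apply] at this
  exact (mul_eq_zero.1 this).resolve_left (by norm_num)

/-- an element with the action of a matrix -/
def reGen (M : List (List ℤ)) (A : LGen) (h : matchB M A.f = true) : LGen where
  g := A.g
  f := matF M
  spec v := by
    have hM : M.length = 24 := by
      simp only [matchB, Bool.and_eq_true, decide_eq_true_eq] at h; exact h.1
    rw [← toL_img M hM]
    refine congrArg toL (funext fun p => ?_)
    rw [img, lin_of_match h v]
    simp

end Cfsg.Agent.CoSection
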