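import Cfsg.Agent.Leech.Generators
import Cfsg.Agent.Leech.OrbitCert
import Cfsg.Agent.Leech.Monomial
import Cfsg.Agent.Leech.PairsEight

/-! Lattice automorphisms from integer matrices (eight times the rational matrix), checked by the kernel. -/

set_option autoImplicit false

namespace Cfsg.Agent.CoSection
open Cfsg Cfsg.Agent.Leech

/-- scalar product of lists -/
def dotL : List ℤ → List ℤ → ℤ
  | a :: r, b :: l => a * b + dotL r l
  | _, _ => 0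

theorem dotL_ofFn : ∀ (n : ℕ) (r : List ℤ) (f : Fin n → ℤ),
    dotL r (List.ofFn f) = ∑ a : Fin n, r.getD a.1 0 * f a
  | 0, r, f => by cases r <;> simp [dotL]
  | n + 1, [], f => by simp [dotL]
  | n + 1, a :: r, f => by
    rw [List.ofFn_succ, dotL, dotL_ofFn n r, Fin.sum_univ_succ]
    simp

theorem toL_ofFn (x : GolayPt → ℤ) : toL x = List.ofFn fun a : Fin 24 => x (ptOf a.1) :=
  List.ext_getElem (by simp [toL]) fun i h1 h2 => by
    rw [List.getElem_ofFn]; simp [toL]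

/-- an entry -/
def entry (M : List (List ℤ)) (i a : ℕ) : ℤ := (M.getD i []).getD a 0

/-- the numbering of the coordinates -/
def ptEquiv : Fin 24 ≃ GolayPt where
  toFun a := ptOf a.1
  invFun p := ⟨idx p, idx_lt p⟩
  left_inv a := Fin.ext (idx_ptOf a.1 a.2)
  right_inv p := ptOf_idx p

theorem sum_pt (f : GolayPt → ℤ) : ∑ p, f p = ∑ a : Fin 24, f (ptOf a.1) :=
  (Equiv.sum_comp ptEquiv f).symm

/-- eight times the image of a vector -/
def lin (M : List (List ℤ)) (x : GolayPt → ℤ) : GolayPt → ℤ :=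
  fun p => ∑ a : Fin 24, entry M (idx p) a.1 * x (ptOf a.1)

/-- the image of a vector -/
def img (M : List (List ℤ)) (x : GolayPt → ℤ) : GolayPt → ℤ := fun p => lin M x p / 8

/-- the image on lists -/
def matF (M : List (List ℤ)) (l : List ℤ) : List ℤ := M.map fun r => dotL r l / 8

/-- eight times the image on lists -/
def linF (M : List (List ℤ)) (l : List ℤ) : List ℤ := M.map fun r => dotL r l

theorem toL_lin (M : List (List ℤ)) (hM : M.length = 24) (x : GolayPt → ℤ) :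
    toL (lin M x) = linF M (toL x) := by
  refine List.ext_getElem (by simp [toL, linF, hM]) fun i h1 h2 => ?_
  have hi : i < 24 := by simpa [toL] using h1
  simp only [toL, linF, List.getElem_map, List.getElem_range, lin]
  show _ = dotL M[i] (toL x)
  rw [toL_ofFn, dotL_ofFn]
  refine Finset.sum_congr rfl fun a _ => ?_
  rw [idx_ptOf i hi, entry, List.getD_eq_getElem M [] (hM ▸ hi)]

theorem toL_img (M : List (List ℤ)) (hM : M.length = 24) (x : GolayPt → ℤ) :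
    toL (img M x) = matF M (toL x) := by
  have h : toL (img M x) = (toL (lin M x)).map fun a => a / 8 := by simp [toL, img, Function.comp_def]
  rw [h, toL_lin M hM, linF, matF, List.map_map]
  rfl

/-- the code word with given values at the pivots -/
def cwI (w : ℕ) : ℕ :=
  [13062145, 4845570, 9691140, 7221256, 14442512, 15806496, 11243584, 2019456, 4038912, 8077824,
    16155648, 10811392].zipIdx.foldl (fun acc e => if w.testBit e.2 then acc ^^^ e.1 else acc) 0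

theorem cwI_mem (w : ℕ) : bitWord (cwI w) ∈ golayCode := by
  have key : ∀ (L : List (ℕ × ℕ)) (acc : ℕ), (∀ e ∈ L, bitWord e.1 ∈ golayCode) →
      bitWord acc ∈ golayCode →
      bitWord (L.foldl (fun acc e => if w.testBit e.2 then acc ^^^ e.1 else acc) acc) ∈ golayCode := by
    intro L
    induction L with
    | nil => exact fun acc _ h => h
    | cons e L ih =>
      intro acc hL hacc
      refine ih _ (fun f hf => hL f (List.mem_cons_of_mem _ hf)) ?_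
      dsimp only
      split_ifs
      · rw [bitWord_xor]; exact add_mem hacc (hL e List.mem_cons_self)
      · exact hacc
  refine key _ 0 (fun e he => ?_) (by rw [bitWord_zero]; exact zero_mem _)
  obtain ⟨i, hi⟩ : ∃ i : Fin 12, e.1 = rowMask i := by
    revert he e
    decide +kernel
  rw [hi]
  exact row_mem i

/-- parities of the halved deviations at the pivots -/
def pivBits : List ℤ → ℤ → ℕ → ℕ
  | a :: l, m, k + 1 => (if (a - m) / 2 % 2 = 1 then 1 else 0) + 2 * pivBits l m k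
  | _, _, _ => 0

/-- membership in the lattice -/
def latB (l : List ℤ) : Bool :=
  let m := l.headD 0
  let w := cwI (pivBits l m 12)
  decide (l.length = 24) && l.all (fun a => decide ((a - m) % 2 = 0)) &&
    decide ((l.sum - 4 * m) % 8 = 0) &&
    (List.range 24).all fun i => decide ((l.getD i 0 - m) / 2 % 2 = 1) == w.testBit i

theorem mem_of_latB {x : GolayPt → ℤ} (h : latB (toL x) = true) : x ∈ leechLattice := by
  simp only [latB, Bool.and_eq_true, decide_eq_true_eq, List.all_eq_true, beq_iff_eq,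
    List.mem_range] at h
  obtain ⟨⟨⟨-, hev⟩, hsum⟩, hbit⟩ := h
  set m := (toL x).headD 0
  have hev' : ∀ p, x p = m + 2 * ((x p - m) / 2) := fun p => by
    have := hev (x p) (by
      rw [toL_ofFn, List.mem_ofFn]
      exact ⟨⟨idx p, idx_lt p⟩, congrArg x (ptOf_idx p)⟩)
    omega
  refine mem_lattice_iff.2 ⟨m, fun p => (x p - m) / 2, hev', ?_, ?_⟩
  · have e : (toL x).sum = ∑ p, x p := by rw [toL_ofFn, List.sum_ofFn, sum_pt]
    rw [← e]
    exact Int.dvd_of_emod_eq_zero hsum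
  · convert cwI_mem (pivBits (toL x) m 12) using 1
    funext p
    have hb := hbit (idx p) (idx_lt p)
    rw [toL_getD _ _ (idx_lt p), ptOf_idx] at hb
    show ((((x p - m) / 2 : ℤ)) : ZMod 2) = bitWord _ p
    rw [bitWord, ← hb]
    by_cases hp : (x p - m) / 2 % 2 = 1
    · rw [show decide ((x p - m) / 2 % 2 = 1) = true from decide_eq_true hp, if_pos rfl,
        ← ZMod.intCast_mod _ 2]
      rw [show ((2 : ℕ) : ℤ) = 2 from rfl, hp]
      rfl
    · rw [show decide ((x p - m) / 2 % 2 = 1) = false from decide_eq_false hp,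
        if_neg Bool.false_ne_true, ← ZMod.intCast_mod _ 2]
      have : (x p - m) / 2 % 2 = 0 := by omega
      rw [show ((2 : ℕ) : ℤ) = 2 from rfl, this]
      rfl

/-- a spanning list of the lattice -/
def genL : List (List ℤ) := [
  [-3, 1, 1, 1, 1, 1, 1, 1, 1, 1, 1, 1, 1, 1, 1, 1, 1, 1, 1, 1, 1, 1, 1, 1],
  [4, 4, 0, 0, 0, 0, 0, 0, 0, 0, 0, 0, 0, 0, 0, 0, 0, 0, 0, 0, 0, 0, 0, 0],
  [4, 0, 4, 0, 0, 0, 0, 0, 0, 0, 0, 0, 0, 0, 0, 0, 0, 0, 0, 0, 0, 0, 0, 0],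
  [4, 0, 0, 4, 0, 0, 0, 0, 0, 0, 0, 0, 0, 0, 0, 0, 0, 0, 0, 0, 0, 0, 0, 0],
  [4, 0, 0, 0, 4, 0, 0, 0, 0, 0, 0, 0, 0, 0, 0, 0, 0, 0, 0, 0, 0, 0, 0, 0],
  [4, 0, 0, 0, 0, 4, 0, 0, 0, 0, 0, 0, 0, 0, 0, 0, 0, 0, 0, 0, 0, 0, 0, 0],
  [4, 0, 0, 0, 0, 0, 4, 0, 0, 0, 0, 0, 0, 0, 0, 0, 0, 0, 0, 0, 0, 0, 0, 0],
  [4, 0, 0, 0, 0, 0, 0, 4, 0, 0, 0, 0, 0, 0, 0, 0, 0, 0, 0, 0, 0, 0, 0, 0],
  [4, 0, 0, 0, 0, 0, 0, 0, 4, 0, 0, 0, 0, 0, 0, 0, 0, 0, 0, 0, 0, 0, 0, 0],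
  [4, 0, 0, 0, 0, 0, 0, 0, 0, 4, 0, 0, 0, 0, 0, 0, 0, 0, 0, 0, 0, 0, 0, 0],
  [4, 0, 0, 0, 0, 0, 0, 0, 0, 0, 4, 0, 0, 0, 0, 0, 0, 0, 0, 0, 0, 0, 0, 0],
  [4, 0, 0, 0, 0, 0, 0, 0, 0, 0, 0, 4, 0, 0, 0, 0, 0, 0, 0, 0, 0, 0, 0, 0],
  [4, 0, 0, 0, 0, 0, 0, 0, 0, 0, 0, 0, 4, 0, 0, 0, 0, 0, 0, 0, 0, 0, 0, 0],
  [4, 0, 0, 0, 0, 0, 0, 0, 0, 0, 0, 0, 0, 4, 0, 0, 0, 0, 0, 0, 0, 0, 0, 0],
  [4, 0, 0, 0, 0, 0, 0, 0, 0, 0, 0, 0, 0, 0, 4, 0, 0, 0, 0, 0, 0, 0, 0, 0],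
  [4, 0, 0, 0, 0, 0, 0, 0, 0, 0, 0, 0, 0, 0, 0, 4, 0, 0, 0, 0, 0, 0, 0, 0],
  [4, 0, 0, 0, 0, 0, 0, 0, 0, 0, 0, 0, 0, 0, 0, 0, 4, 0, 0, 0, 0, 0, 0, 0],
  [4, 0, 0, 0, 0, 0, 0, 0, 0, 0, 0, 0, 0, 0, 0, 0, 0, 4, 0, 0, 0, 0, 0, 0],
  [4, 0, 0, 0, 0, 0, 0, 0, 0, 0, 0, 0, 0, 0, 0, 0, 0, 0, 4, 0, 0, 0, 0, 0],
  [4, 0, 0, 0, 0, 0, 0, 0, 0, 0, 0, 0, 0, 0, 0, 0, 0, 0, 0, 4, 0, 0, 0, 0],
  [4, 0, 0, 0, 0, 0, 0, 0, 0, 0, 0, 0, 0, 0, 0, 0, 0, 0, 0, 0, 4, 0, 0, 0],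
  [4, 0, 0, 0, 0, 0, 0, 0, 0, 0, 0, 0, 0, 0, 0, 0, 0, 0, 0, 0, 0, 4, 0, 0],
  [4, 0, 0, 0, 0, 0, 0, 0, 0, 0, 0, 0, 0, 0, 0, 0, 0, 0, 0, 0, 0, 0, 4, 0],
  [4, 0, 0, 0, 0, 0, 0, 0, 0, 0, 0, 0, 0, 0, 0, 0, 0, 0, 0, 0, 0, 0, 0, 4],
  [-4, 4, 0, 0, 0, 0, 0, 0, 0, 0, 0, 0, 0, 0, 0, 0, 0, 0, 0, 0, 0, 0, 0, 0],
  [-4, 0, 4, 0, 0, 0, 0, 0, 0, 0, 0, 0, 0, 0, 0, 0, 0, 0, 0, 0, 0, 0, 0, 0],
  [-4, 0, 0, 4, 0, 0, 0, 0, 0, 0, 0, 0, 0, 0, 0, 0, 0, 0, 0, 0, 0, 0, 0, 0],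
  [-4, 0, 0, 0, 4, 0, 0, 0, 0, 0, 0, 0, 0, 0, 0, 0, 0, 0, 0, 0, 0, 0, 0, 0],
  [-4, 0, 0, 0, 0, 4, 0, 0, 0, 0, 0, 0, 0, 0, 0, 0, 0, 0, 0, 0, 0, 0, 0, 0],
  [-4, 0, 0, 0, 0, 0, 4, 0, 0, 0, 0, 0, 0, 0, 0, 0, 0, 0, 0, 0, 0, 0, 0, 0],
  [-4, 0, 0, 0, 0, 0, 0, 4, 0, 0, 0, 0, 0, 0, 0, 0, 0, 0, 0, 0, 0, 0, 0, 0],
  [-4, 0, 0, 0, 0, 0, 0, 0, 4, 0, 0, 0, 0, 0, 0, 0, 0, 0, 0, 0, 0, 0, 0, 0],
  [-4, 0, 0, 0, 0, 0, 0, 0, 0, 4, 0, 0, 0, 0, 0, 0, 0, 0, 0, 0, 0, 0, 0, 0],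
  [-4, 0, 0, 0, 0, 0, 0, 0, 0, 0, 4, 0, 0, 0, 0, 0, 0, 0, 0, 0, 0, 0, 0, 0],
  [-4, 0, 0, 0, 0, 0, 0, 0, 0, 0, 0, 4, 0, 0, 0, 0, 0, 0, 0, 0, 0, 0, 0, 0],
  [-4, 0, 0, 0, 0, 0, 0, 0, 0, 0, 0, 0, 4, 0, 0, 0, 0, 0, 0, 0, 0, 0, 0, 0],
  [-4, 0, 0, 0, 0, 0, 0, 0, 0, 0, 0, 0, 0, 4, 0, 0, 0, 0, 0, 0, 0, 0, 0, 0],
  [-4, 0, 0, 0, 0, 0, 0, 0, 0, 0, 0, 0, 0, 0, 4, 0, 0, 0, 0, 0, 0, 0, 0, 0],
  [-4, 0, 0, 0, 0, 0, 0, 0, 0, 0, 0, 0, 0, 0, 0, 4, 0, 0, 0, 0, 0, 0, 0, 0],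
  [-4, 0, 0, 0, 0, 0, 0, 0, 0, 0, 0, 0, 0, 0, 0, 0, 4, 0, 0, 0, 0, 0, 0, 0],
  [-4, 0, 0, 0, 0, 0, 0, 0, 0, 0, 0, 0, 0, 0, 0, 0, 0, 4, 0, 0, 0, 0, 0, 0],
  [-4, 0, 0, 0, 0, 0, 0, 0, 0, 0, 0, 0, 0, 0, 0, 0, 0, 0, 4, 0, 0, 0, 0, 0],
  [-4, 0, 0, 0, 0, 0, 0, 0, 0, 0, 0, 0, 0, 0, 0, 0, 0, 0, 0, 4, 0, 0, 0, 0],
  [-4, 0, 0, 0, 0, 0, 0, 0, 0, 0, 0, 0, 0, 0, 0, 0, 0, 0, 0, 0, 4, 0, 0, 0],
  [-4, 0, 0, 0, 0, 0, 0, 0, 0, 0, 0, 0, 0, 0, 0, 0, 0, 0, 0, 0, 0, 4, 0, 0],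
  [-4, 0, 0, 0, 0, 0, 0, 0, 0, 0, 0, 0, 0, 0, 0, 0, 0, 0, 0, 0, 0, 0, 4, 0],
  [-4, 0, 0, 0, 0, 0, 0, 0, 0, 0, 0, 0, 0, 0, 0, 0, 0, 0, 0, 0, 0, 0, 0, 4],
  [2, 0, 0, 0, 0, 0, 0, 0, 0, 0, 0, 0, 2, 0, 2, 0, 2, 2, 2, 0, 0, 0, 2, 2],
  [0, 2, 0, 0, 0, 0, 0, 0, 0, 0, 0, 0, 2, 2, 2, 2, 2, 0, 0, 2, 0, 0, 2, 0],
  [0, 0, 2, 0, 0, 0, 0, 0, 0, 0, 0, 0, 0, 2, 2, 2, 2, 2, 0, 0, 2, 0, 0, 2],
  [0, 0, 0, 2, 0, 0, 0, 0, 0, 0, 0, 0, 2, 2, 0, 0, 0, 2, 2, 2, 0, 2, 2, 0],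
  [0, 0, 0, 0, 2, 0, 0, 0, 0, 0, 0, 0, 0, 2, 2, 0, 0, 0, 2, 2, 2, 0, 2, 2],
  [0, 0, 0, 0, 0, 2, 0, 0, 0, 0, 0, 0, 2, 2, 0, 0, 2, 0, 0, 0, 2, 2, 2, 2],
  [0, 0, 0, 0, 0, 0, 2, 0, 0, 0, 0, 0, 2, 0, 0, 2, 2, 2, 0, 2, 0, 2, 0, 2],
  [0, 0, 0, 0, 0, 0, 0, 2, 0, 0, 0, 0, 2, 0, 2, 2, 0, 2, 2, 2, 2, 0, 0, 0],
  [0, 0, 0, 0, 0, 0, 0, 0, 2, 0, 0, 0, 0, 2, 0, 2, 2, 0, 2, 2, 2, 2, 0, 0],
  [0, 0, 0, 0, 0, 0, 0, 0, 0, 2, 0, 0, 0, 0, 2, 0, 2, 2, 0, 2, 2, 2, 2, 0],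
  [0, 0, 0, 0, 0, 0, 0, 0, 0, 0, 2, 0, 0, 0, 0, 2, 0, 2, 2, 0, 2, 2, 2, 2],
  [0, 0, 0, 0, 0, 0, 0, 0, 0, 0, 0, 2, 2, 2, 2, 2, 0, 0, 2, 0, 0, 2, 0, 2]]

theorem lattice_le_genL (H : AddSubgroup (GolayPt → ℤ))
    (h : ∀ x, toL x ∈ genL → x ∈ H) : leechLattice ≤ H := by
  refine lattice_le H (h _ ?_) (fun i hi => ⟨h _ ?_, h _ ?_⟩) (Set.range row) ?_ ?_ ?_
  · decide +kernel
  · revert hi i; decide +kernel
  · revert hi i; decide +kernel
  · intro c hc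
    rw [← (mem_iff c).1 hc, dec_eq]
    exact sum_mem fun i _ => Submodule.smul_mem _ _ (Submodule.subset_span ⟨i, rfl⟩)
  · rintro _ ⟨i, rfl⟩; exact row_mem i
  · rintro _ ⟨i, rfl⟩
    refine h _ ?_
    revert i; decide +kernel

/-- the transposed matrix -/
def tr (M : List (List ℤ)) : List (List ℤ) :=
  (List.range 24).map fun a => M.map fun r => r.getD a 0

/-- images of the spanning vectors are in the lattice -/
def stableB (M : List (List ℤ)) : Bool :=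
  genL.all fun s => (linF M s).all (fun a => decide (a % 8 = 0)) && latB (matF M s)

/-- the rows are orthogonal of squared length 64 -/
def orthB (M : List (List ℤ)) : Bool :=
  decide (M.length = 24) && M.all (fun r => decide (r.length = 24)) &&
    (List.range 24).all fun i => (List.range 24).all fun j =>
      decide (dotL (M.getD i []) (M.getD j []) = if i = j then 64 else 0)

/-- the whole check -/
def matOK (M : List (List ℤ)) : Bool :=
  orthB M && orthB (tr M) && stableB M && stableB (tr M)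

theorem lin_add (M : List (List ℤ)) (x y : GolayPt → ℤ) : lin M (x + y) = lin M x + lin M y := by
  funext p; simp [lin, mul_add, Finset.sum_add_distrib]

theorem stable (M : List (List ℤ)) (hM : M.length = 24) (h : stableB M = true) {x : GolayPt → ℤ}
    (hx : x ∈ leechLattice) : (∀ p, (8 : ℤ) ∣ lin M x p) ∧ img M x ∈ leechLattice := by
  let H : AddSubgroup (GolayPt → ℤ) :=
    { carrier := {x | (∀ p, (8 : ℤ) ∣ lin M x p) ∧ img M x ∈ leechLattice}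
      zero_mem' := ⟨fun p => by simp [lin], by
        convert zero_mem leechLattice using 1
        funext p; simp [img, lin]⟩
      add_mem' := fun {a b} ha hb => ⟨fun p => by rw [lin_add]; exact dvd_add (ha.1 p) (hb.1 p), by
        have e : img M (a + b) = img M a + img M b := funext fun p => by
          simp only [img, lin_add, Pi.add_apply]
          exact Int.add_ediv_of_dvd_left (ha.1 p)
        rw [e]; exact add_mem ha.2 hb.2⟩
      neg_mem' := fun {a} ha => by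
        have hl : lin M (-a) = -lin M a := by funext p; simp [lin]
        refine ⟨fun p => by rw [hl]; exact dvd_neg.2 (ha.1 p), ?_⟩
        have e : img M (-a) = -img M a := funext fun p => by
          simp only [img, hl, Pi.neg_apply]
          exact Int.neg_ediv_of_dvd (ha.1 p)
        rw [e]; exact neg_mem ha.2 }
  refine lattice_le_genL H (fun s hs => ?_) hx
  simp only [stableB, List.all_eq_true, Bool.and_eq_true, decide_eq_true_eq] at h
  obtain ⟨h8, hl⟩ := h _ hs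
  refine ⟨fun p => Int.dvd_of_emod_eq_zero (h8 _ ?_), mem_of_latB (by rwa [toL_img M hM])⟩
  rw [← toL_lin M hM, toL_ofFn, List.mem_ofFn]
  exact ⟨⟨idx p, idx_lt p⟩, congrArg (lin M s) (ptOf_idx p)⟩

theorem row_dot (M : List (List ℤ)) (h : orthB M = true) (i j : ℕ) (hi : i < 24) (hj : j < 24) :
    ∑ a : Fin 24, entry M i a.1 * entry M j a.1 = if i = j then 64 else 0 := by
  simp only [orthB, Bool.and_eq_true, decide_eq_true_eq, List.all_eq_true, List.mem_range] at h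
  obtain ⟨⟨hlen, hrow⟩, hd⟩ := h
  rw [← hd i hi j hj]
  have e : M.getD j [] = List.ofFn fun a : Fin 24 => entry M j a.1 := by
    have hl : (M.getD j []).length = 24 := hrow _ (by
      rw [List.getD_eq_getElem?_getD, List.getElem?_eq_getElem (by omega)]
      exact List.getElem_mem _)
    refine List.ext_getElem (by rw [List.length_ofFn, hl]) fun a h1 h2 => ?_
    rw [List.getElem_ofFn]
    simp only [entry]
    rw [List.getD_eq_getElem _ _ (by omega : a < (M.getD j []).length)]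
  conv_rhs => rw [e, dotL_ofFn]
  rfl

theorem entry_tr (M : List (List ℤ)) (hM : M.length = 24) (a i : ℕ) (ha : a < 24) (hi : i < 24) :
    entry (tr M) a i = entry M i a := by
  simp [entry, tr, List.getD_eq_getElem?_getD, ha, hM, hi]

theorem cancel (M : List (List ℤ)) (hM : M.length = 24) (h : orthB (tr M) = true) {x : GolayPt → ℤ}
    (hx : ∀ p, (8 : ℤ) ∣ lin M x p) : lin (tr M) (img M x) = fun p => 8 * x p := by
  funext p
  refine mul_left_cancel₀ (show (8 : ℤ) ≠ 0 by norm_num) ?_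
  have h8 : ∀ a : Fin 24, 8 * img M x (ptOf a.1) = lin M x (ptOf a.1) := fun a =>
    Int.mul_ediv_cancel' (hx _)
  calc 8 * lin (tr M) (img M x) p
      = ∑ a : Fin 24, entry (tr M) (idx p) a.1 * lin M x (ptOf a.1) := by
        rw [lin, Finset.mul_sum]
        refine Finset.sum_congr rfl fun a _ => ?_
        rw [← h8 a]; ring
    _ = ∑ a : Fin 24, ∑ b : Fin 24,
          entry (tr M) (idx p) a.1 * entry (tr M) b.1 a.1 * x (ptOf b.1) := by
        refine Finset.sum_congr rfl fun a _ => ?_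
        rw [lin, Finset.mul_sum]
        refine Finset.sum_congr rfl fun b _ => ?_
        rw [idx_ptOf a.1 a.2, entry_tr M hM b.1 a.1 b.2 a.2, mul_assoc]
    _ = ∑ b : Fin 24, (if idx p = b.1 then 64 else 0) * x (ptOf b.1) := by
        rw [Finset.sum_comm]
        refine Finset.sum_congr rfl fun b _ => ?_
        rw [← row_dot _ h _ _ (idx_lt p) b.2, Finset.sum_mul]
    _ = 8 * (8 * x p) := by
        rw [Finset.sum_eq_single (⟨idx p, idx_lt p⟩ : Fin 24)]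
        · rw [if_pos rfl, ptOf_idx]; ring
        · intro b _ hb
          rw [if_neg fun e => hb (Fin.ext e.symm), zero_mul]
        · simp

theorem lin_congr {M M' : List (List ℤ)} (h : ∀ i a, i < 24 → a < 24 → entry M i a = entry M' i a) :
    lin M = lin M' := by
  funext x p
  exact Finset.sum_congr rfl fun a _ => by rw [h _ _ (idx_lt p) a.2]

theorem tr_tr (M : List (List ℤ)) (hM : M.length = 24) : lin (tr (tr M)) = lin M :=
  lin_congr fun i a hi ha => by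
    rw [entry_tr (tr M) (by simp [tr]) i a hi ha, entry_tr M hM a i ha hi]

theorem norm_img (M : List (List ℤ)) (hM : M.length = 24) (h : orthB (tr M) = true)
    {x : GolayPt → ℤ} (hx : ∀ p, (8 : ℤ) ∣ lin M x p) : sqNorm (img M x) = sqNorm x := by
  refine mul_left_cancel₀ (show (8 : ℤ) ≠ 0 by norm_num) ?_
  have hc : ∀ p, 8 * x p = lin (tr M) (img M x) p := fun p => (congrFun (cancel M hM h hx) p).symm
  calc 8 * sqNorm (img M x)
      = ∑ p : GolayPt, lin M x p * img M x p := by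
        rw [sqNorm, Finset.mul_sum]
        refine Finset.sum_congr rfl fun p _ => ?_
        rw [img, pow_two, ← mul_assoc, Int.mul_ediv_cancel' (hx p)]
    _ = ∑ a : Fin 24, ∑ b : Fin 24, entry M a.1 b.1 * x (ptOf b.1) * img M x (ptOf a.1) := by
        rw [sum_pt]
        refine Finset.sum_congr rfl fun a _ => ?_
        rw [lin, Finset.sum_mul, idx_ptOf a.1 a.2]
    _ = ∑ b : Fin 24, x (ptOf b.1) * lin (tr M) (img M x) (ptOf b.1) := by
        rw [Finset.sum_comm]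
        refine Finset.sum_congr rfl fun b _ => ?_
        rw [lin, Finset.mul_sum, idx_ptOf b.1 b.2]
        refine Finset.sum_congr rfl fun a _ => ?_
        rw [entry_tr M hM b.1 a.1 b.2 a.2]; ring
    _ = 8 * sqNorm x := by
        rw [sqNorm, Finset.mul_sum, sum_pt]
        refine Finset.sum_congr rfl fun b _ => ?_
        rw [← hc, pow_two]; ring

/-- the action of the matrix on the lattice -/
def matEquiv (M : List (List ℤ)) (h : matOK M = true) : Equiv.Perm leechLattice :=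
  have hM : M.length = 24 := by
    simp only [matOK, orthB, Bool.and_eq_true, decide_eq_true_eq] at h; exact h.1.1.1.1.1
  have hs : stableB M = true := by simp only [matOK, Bool.and_eq_true] at h; exact h.1.2
  have ht : stableB (tr M) = true := by simp only [matOK, Bool.and_eq_true] at h; exact h.2
  have ho : orthB (tr M) = true := by simp only [matOK, Bool.and_eq_true] at h; exact h.1.1.2
  have ho' : orthB M = true := by simp only [matOK, Bool.and_eq_true] at h; exact h.1.1.1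
  have hT : (tr M).length = 24 := by simp [tr]
  { toFun := fun v => ⟨img M v, (stable M hM hs v.2).2⟩
    invFun := fun v => ⟨img (tr M) v, (stable _ hT ht v.2).2⟩
    left_inv := fun v => Subtype.ext (funext fun p => by
      show lin (tr M) (img M v) p / 8 = _
      rw [cancel M hM ho (stable M hM hs v.2).1]
      exact Int.mul_ediv_cancel_left _ (by norm_num))
    right_inv := fun v => Subtype.ext (funext fun p => by
      have hTT : orthB (tr (tr M)) = true := by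
        simp only [orthB, Bool.and_eq_true, decide_eq_true_eq, List.all_eq_true, List.mem_range] at ho' ⊢
        have e : tr (tr M) = M := by
          refine List.ext_getElem (by simp [tr, hM]) fun i h1 h2 => ?_
          have hi : i < 24 := hM ▸ h2
          have hl : (M[i]).length = 24 := ho'.1.2 _ (List.getElem_mem h2)
          refine List.ext_getElem (by simp [tr, hl]) fun a g1 g2 => ?_
          have ha : a < 24 := hl ▸ g2
          simp [tr, List.getD_eq_getElem?_getD, hM, hl, hi, ha]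
        rw [e]; exact ho'
      have := congrFun (cancel (tr M) hT hTT (stable _ hT ht v.2).1) p
      rw [tr_tr M hM] at this
      show lin M (img (tr M) v) p / 8 = _
      rw [this]
      exact Int.mul_ediv_cancel_left _ (by norm_num)) }

theorem matEquiv_mem (M : List (List ℤ)) (h : matOK M = true) : matEquiv M h ∈ Co0 := by
  have h' := h
  simp only [matOK, orthB, stableB, Bool.and_eq_true, decide_eq_true_eq] at h'
  have hM : M.length = 24 := h'.1.1.1.1.1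
  have hs : stableB M = true := by simp only [matOK, Bool.and_eq_true] at h; exact h.1.2
  have ho : orthB (tr M) = true := by simp only [matOK, Bool.and_eq_true] at h; exact h.1.1.2
  refine ⟨fun v w => Subtype.ext (funext fun p => ?_), fun v => norm_img M hM ho (stable M hM hs v.2).1⟩
  show lin M ((v : GolayPt → ℤ) + (w : GolayPt → ℤ)) p / 8 = lin M v p / 8 + lin M w p / 8
  rw [lin_add]
  exact Int.add_ediv_of_dvd_left ((stable M hM hs v.2).1 p)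

/-- a matrix element with its action on lists -/
def matGen (M : List (List ℤ)) (h : matOK M = true) : LGen where
  g := ⟨matEquiv M h, matEquiv_mem M h⟩
  f := matF M
  spec v := toL_img M (by simp only [matOK, orthB, Bool.and_eq_true, decide_eq_true_eq] at h; exact h.1.1.1.1.1) _

end Cfsg.Agent.CoSection
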