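import Cfsg.Agent.CoSection.MatGen

/-! Data: elements fixing a short vector and its image, and words in them. -/

set_option autoImplicit false
set_option maxRecDepth 100000

namespace Cfsg.Agent.CoSection.Suz3
open Cfsg Cfsg.Agent.Leech

/-- a stabilising element of order eleven -/
def g0M : List (List ℤ) := [
  [2, -2, -2, -2, 2, 0, 0, 2, 0, 0, 0, 2, 2, 2, 0, 0, -2, 0, 2, 0, -2, 0, 4, 0],
  [2, 2, 2, -2, 2, 0, 0, -2, 0, 0, 0, -2, -2, -2, 0, 0, -2, 0, 2, 0, -2, -4, 0, 0],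
  [-2, -2, -2, 2, 2, 0, 0, -2, 0, 0, -4, 2, -2, -2, 0, 0, 2, 0, 2, 0, -2, 0, 0, 0],
  [2, -2, 2, 2, -2, 0, 0, -2, 0, -4, 0, 2, 2, -2, 0, 0, -2, 0, -2, 0, -2, 0, 0, 0],
  [2, -2, -2, -2, -2, 0, 0, 2, 4, 0, 0, -2, -2, -2, 0, 0, 2, 0, -2, 0, -2, 0, 0, 0],
  [0, 4, 0, 0, 0, 2, -2, 0, 2, -2, -2, 0, 0, 0, 2, -2, 0, -2, 0, -2, 0, 2, 2, -2],
  [0, 0, 0, 0, 4, 2, 2, 0, 2, -2, 2, 0, 0, 0, 2, 2, 0, -2, 0, 2, 0, 2, -2, 2],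
  [0, 0, 0, 0, 0, -2, -2, 0, 2, -2, -2, 0, 0, 0, -2, 2, 0, -2, 0, 2, 4, -2, 2, 2],
  [0, 0, 0, 0, 0, 2, -2, 0, -2, -2, 2, 0, -4, 0, -2, 2, 0, 2, 0, -2, 0, 2, 2, 2],
  [0, 0, 0, 0, 0, -2, -2, 0, 2, 2, -2, 0, 0, 0, 2, 2, -4, 2, 0, -2, 0, 2, -2, 2],
  [0, 0, 0, 0, 0, -2, -2, 0, -2, 2, 2, 0, 0, -4, 2, 2, 0, -2, 0, 2, 0, 2, 2, -2],
  [0, 0, 0, 0, 0, 2, -2, 4, -2, -2, -2, 0, 0, 0, 2, 2, 0, 2, 0, 2, 0, -2, -2, -2],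
  [-2, 2, 2, -2, -2, 0, 0, 2, 0, 0, 0, 2, 2, -2, 0, 0, 2, 0, 2, 0, -2, 0, 0, 4],
  [4, 0, 0, 0, 0, 2, -2, 0, -2, 2, -2, 0, 0, 0, -2, -2, 0, -2, 0, 2, 0, 2, -2, 2],
  [0, 0, 0, 0, 0, -2, 2, 0, -2, -2, -2, -4, 0, 0, 2, -2, 0, 2, 0, 2, 0, 2, 2, 2],
  [0, 0, 0, 0, 0, -2, -2, 0, 2, -2, 2, 0, 0, 0, -2, -2, 0, 2, 4, 2, 0, 2, -2, -2],
  [2, 2, -2, -2, 2, 0, 0, -2, 0, 0, 0, 2, 2, -2, 0, 0, 2, 4, -2, 0, 2, 0, 0, 0],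
  [2, 2, -2, 2, -2, 0, 0, -2, 0, 0, 0, -2, 2, 2, 0, 4, 2, 0, 2, 0, -2, 0, 0, 0],
  [2, -2, 2, 2, 2, 0, 0, 2, 0, 0, 0, -2, 2, -2, 0, 0, 2, 0, 2, -4, 2, 0, 0, 0],
  [2, 2, -2, 2, -2, 0, 4, 2, 0, 0, 0, 2, -2, -2, 0, 0, -2, 0, 2, 0, 2, 0, 0, 0],
  [0, 0, 4, 0, 0, 2, 2, 0, 2, 2, -2, 0, 0, 0, -2, 2, 0, 2, 0, 2, 0, 2, 2, -2],
  [-2, -2, -2, -2, -2, 4, 0, -2, 0, 0, 0, -2, 2, -2, 0, 0, -2, 0, 2, 0, 2, 0, 0, 0],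
  [0, 0, 0, 4, 0, 2, -2, 0, 2, 2, 2, 0, 0, 0, 2, -2, 0, 2, 0, 2, 0, -2, 2, 2],
  [2, -2, 2, -2, -2, 0, 0, -2, 0, 0, 0, 2, -2, 2, 4, 0, 2, 0, 2, 0, 2, 0, 0, 0]]

theorem g0M_ok : matOK g0M = true := by decide +kernel

/-- a stabilising element of order eleven -/
def g0 : LGen := matGen g0M g0M_ok

/-- a stabilising element -/
def h0M : List (List ℤ) := [
  [1, -3, -3, -1, -1, -1, -1, 3, -1, -1, -3, 1, 1, 1, 3, -1, 1, 1, 1, 1, -1, -1, 1, -1],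
  [-3, -3, 1, -1, -1, -1, -1, -1, 3, -1, 1, 1, 1, 1, -1, -1, -3, 1, 1, 1, -1, -1, 1, 3],
  [1, -3, 1, -1, 3, -1, 3, -1, -1, -1, 1, 1, 1, 1, -1, -1, 1, 1, -3, -3, -1, -1, 1, -1],
  [1, 1, 1, -1, -1, -1, -1, -1, -1, -1, 1, 1, 1, 1, -1, -1, 1, -3, 1, 1, 3, -5, 1, -1],
  [-1, -1, -1, 1, 1, 1, 1, 1, 1, 1, -1, -1, -1, -1, 1, 1, -1, 3, -1, -1, 5, -3, -1, 1],
  [3, -1, 3, -3, 1, 1, 1, 1, 1, 1, -1, -1, -1, -1, 1, -3, -1, -1, -1, 3, 1, 1, -1, 1],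
  [-1, 3, -1, -3, 1, -3, 1, 1, 1, 1, -1, 3, -1, -1, 1, 1, -1, -1, -1, -1, 1, 1, 3, 1],
  [3, -1, -1, 1, -3, 1, 1, 1, 1, -3, 3, 3, -1, -1, 1, 1, -1, -1, -1, -1, 1, 1, -1, 1],
  [-1, -1, -1, 1, 1, 1, 1, 1, 1, 1, 3, -1, -1, -1, 1, -3, -1, -1, 3, -1, 1, 1, 3, -3],
  [-1, -1, -1, 1, -3, -3, 1, -3, 1, 1, -1, -1, -1, -1, 1, -3, 3, -1, -1, -1, 1, 1, -1, 1],
  [-1, -1, -1, 1, 1, -3, 1, 1, -3, 1, 3, -1, 3, -1, 1, 1, -1, -1, -1, 3, 1, 1, -1, 1],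
  [1, 1, 1, 3, -1, -1, 3, -1, -1, -1, -3, 1, 1, -3, -1, -1, -3, 1, 1, 1, -1, -1, 1, -1],
  [-1, -1, 3, 1, 1, 1, 1, 1, 1, 1, -1, 3, 3, -1, 1, 1, 3, -1, 3, -1, 1, 1, -1, 1],
  [-1, -1, 3, 1, -3, 1, 1, 1, -3, 1, -1, -1, -1, 3, 1, 1, -1, -1, -1, -1, 1, 1, 3, 1],
  [3, -1, -1, 1, 1, 1, -3, -3, 1, 1, -1, -1, 3, -1, 1, 1, -1, -1, -1, -1, 1, 1, 3, 1],
  [1, -3, 1, -1, -1, -1, -1, -1, -1, 3, 1, 1, -3, -3, -1, 3, 1, 1, 1, 1, -1, -1, 1, -1],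
  [1, 1, 1, -1, -1, -1, 3, -1, 3, -1, 1, -3, 1, 1, 3, 3, 1, 1, 1, 1, -1, -1, 1, -1],
  [1, 1, 1, -1, -1, -1, -1, 3, -1, -1, 1, -3, 1, -3, -1, -1, 1, 1, 1, -3, -1, -1, 1, 3],
  [1, 1, 1, -1, -1, -1, -1, -1, -1, -1, 1, 1, 1, 1, -1, -1, 1, 5, 1, 1, 3, 3, 1, -1],
  [-1, -1, -1, -3, 1, 1, 1, -3, -3, -3, -1, -1, -1, -1, 1, 1, -1, -1, 3, -1, 1, 1, -1, 1],
  [-3, 1, 1, -1, -1, 3, -1, -1, -1, -1, 1, 1, 1, -3, 3, -1, 1, 1, -3, 1, -1, -1, 1, -1],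
  [-1, -1, -1, 1, 1, 1, 1, 1, 1, -3, -1, -1, -1, -1, -3, 1, 3, -1, -1, 3, 1, 1, 3, 1],
  [1, 1, 1, 3, 3, -1, -1, -1, -1, -1, 1, 1, -3, 1, 3, -1, 1, 1, 1, 1, -1, -1, 1, 3],
  [1, 1, -3, -1, -1, 3, 3, -1, -1, 3, 1, 1, 1, 1, -1, -1, 1, 1, 1, 1, -1, -1, 1, 3]]

theorem h0M_ok : matOK h0M = true := by decide +kernel

/-- a stabilising element -/
def h0 : LGen := matGen h0M h0M_ok

/-- the short vector -/
def vL : List ℤ := [2, 0, 0, 0, 0, 0, 0, 0, 0, 0, 0, 0, 2, 0, 2, 0, 2, 2, 2, 0, 0, 0, 2, 2]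

/-- a vector fixed by the first element -/
def wL : List ℤ := [16, 0, 0, 0, 0, -2, -6, 6, 0, 0, -4, 6, 12, 4, 4, 2, 12, 12, 12, 0, 0, -6, 10, 10]

/-- the words -/
def seeds : List (List Bool) := [
  [],
  [false],
  [false, true],
  [false, false],
  [false, true, true],
  [false, true, false],
  [false, false, true],
  [false, false, false],
  [false, true, true, true],
  [false, true, true, false],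
  [false, true, false, true],
  [false, true, false, false],
  [false, false, true, true],
  [false, false, true, false],
  [false, false, false, true],
  [false, false, false, false],
  [false, true, true, true, true],
  [false, true, true, true, false],
  [false, true, true, false, true],
  [false, true, true, false, false],
  [false, true, false, true, false],
  [false, true, false, false, true],
  [false, true, false, false, false],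
  [false, false, true, true, true],
  [false, false, true, true, false],
  [false, false, true, false, true],
  [false, false, true, false, false],
  [false, false, false, true, true],
  [false, false, false, false, true],
  [false, true, true, false, true, true],
  [false, true, true, false, false, true]]

/-- the modulus -/
def keyMod : ℕ := 8911

end Cfsg.Agent.CoSection.Suz3
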