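import Cfsg.Agent.CoSection.SuzElems
import Cfsg.Agent.CoSection.SuzGridData
import Cfsg.Agent.Leech.UnitModelU62

/-! An upper bound for the centraliser of the element of order three. -/

set_option autoImplicit false
set_option maxRecDepth 100000

namespace Cfsg.Agent.CoSection.Suz3
open Cfsg Cfsg.Agent.Leech

theorem vL_facts : latB vL = true ∧ toL (ofL vL) = vL := by decide +kernel

/-- the short vector -/
def vV : leechLattice := ⟨ofL vL, mem_of_latB (by rw [vL_facts.2]; exact vL_facts.1)⟩

theorem toL_vV : toL (vV : GolayPt → ℤ) = vL := vL_facts.2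

/-- its image -/
noncomputable def vA : leechLattice := aEl.g • vV

theorem toL_vA : toL (vA : GolayPt → ℤ) = aEl.f vL := by rw [vA, aEl.spec, toL_vV]

theorem dot_facts : sqNorm (ofL vL) = 32 ∧ dotInt (ofL vL) (ofL (aEl.f vL)) = -16 := by decide +kernel

theorem wL_facts : latB wL = true ∧ toL (ofL wL) = wL := by decide +kernel

/-- the probe -/
def wV : leechLattice := ⟨ofL wL, mem_of_latB (by rw [wL_facts.2]; exact wL_facts.1)⟩

theorem toL_wV : toL (wV : GolayPt → ℤ) = wL := wL_facts.2

/-- the pair stabiliser -/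
noncomputable def KP : Subgroup ↥Co0 := MulAction.stabilizer ↥Co0 vV ⊓ MulAction.stabilizer ↥Co0 vA

theorem u62W_facts : sqNorm (u62W : GolayPt → ℤ) = 32 ∧
    dotInt Spor.vecU (u62W : GolayPt → ℤ) = -16 ∧ sqNorm Spor.vecU = 32 := by decide +kernel

theorem card_KP : Nat.card ↥KP = 9196830720 := by
  obtain ⟨hW, hUW, hU⟩ := u62W_facts
  set X := {y : ↥leechLattice | y ∈ layer 32 ∧ dotInt Spor.vecU (y : GolayPt → ℤ) = -16} with hX
  have hXcard : X.ncard = 4600 := by
    rw [← ncard_pairSum32.1, ← ncard_layer_dot Spor.leechU hU 8 (-16) (-4) (by norm_num)]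
    rfl
  have horb : MulAction.orbit ↥stabU u62W = X := by
    ext y
    constructor
    · rintro ⟨⟨k, hk⟩, rfl⟩
      refine ⟨?_, ?_⟩
      · show sqNorm ((k • u62W : ↥leechLattice) : GolayPt → ℤ) = 32
        rw [sqNorm_smul]; exact hW
      · have := dotInt_smul k Spor.leechU u62W
        rw [show k • Spor.leechU = Spor.leechU from hk] at this
        exact this.trans hUW
    · rintro ⟨a, b⟩
      obtain ⟨k, k1, k2⟩ := trans_pairs' Spor.leechU u62W Spor.leechU y hU hW hU a
        (-16) (Or.inl rfl) hUW b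
      exact ⟨⟨k, k1⟩, k2⟩
  have hcardA : Nat.card ↥(stabU ⊓ MulAction.stabilizer ↥Co0 u62W) = 9196830720 := by
    have h1 := card_orbit_stab stabU u62W
    rw [stabU_transitive_facts, horb, hXcard] at h1
    omega
  rw [← hcardA]
  refine card_pair vV vA Spor.leechU u62W dot_facts.1 ?_ hU hW (-16) (Or.inl rfl) ?_ hUW
  · rw [vA, sqNorm_smul]; exact dot_facts.1
  · show dotInt (ofL vL) (vA : GolayPt → ℤ) = -16
    have e : ofL (toL (vA : GolayPt → ℤ)) = (vA : GolayPt → ℤ) :=
      funext fun p => by rw [ofL, toL_getD _ _ (idx_lt p), ptOf_idx]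
    rw [← e, toL_vA]
    exact dot_facts.2

/-- a letter -/
noncomputable def genE (b : Bool) : LGen := if b then g0 else h0

/-- the inverse of a letter -/
def genI (b : Bool) : LGen := if b then invGen g0M g0M_ok else invGen h0M h0M_ok

theorem genI_g (b : Bool) : (genI b).g = (genE b).g⁻¹ := by cases b <;> rfl

/-- the element of a word -/
noncomputable def kW : List Bool → ↥Co0
  | [] => 1
  | b :: s => (genE b).g * kW s

/-- the action of the conjugate -/
noncomputable def cAct : List Bool → List ℤ → List ℤ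
  | [], l => aEl.f l
  | b :: s, l => (genE b).f (cAct s ((genI b).f l))

theorem cAct_spec : ∀ (s : List Bool) (v : leechLattice),
    toL (((kW s * aEl.g * (kW s)⁻¹) • v : leechLattice) : GolayPt → ℤ) = cAct s (toL (v : GolayPt → ℤ))
  | [], v => by rw [kW, one_mul, inv_one, mul_one, aEl.spec]; rfl
  | b :: s, v => by
    rw [show kW (b :: s) * aEl.g * (kW (b :: s))⁻¹ =
      (genE b).g * (kW s * aEl.g * (kW s)⁻¹) * (genI b).g by rw [genI_g, kW]; group,
      mul_smul, mul_smul, (genE b).spec, cAct_spec s, (genI b).spec]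
    rfl

/-- successive images -/
noncomputable def powsL : ℕ → List ℤ → List (List ℤ)
  | 0, _ => []
  | n + 1, l => l :: powsL n (g0.f l)

theorem powsL_length : ∀ n l, (powsL n l).length = n
  | 0, _ => rfl
  | n + 1, l => by simp [powsL, powsL_length n]

theorem powsL_get : ∀ (n : ℕ) (i : ℕ) (v : leechLattice), i < n →
    (powsL n (toL (v : GolayPt → ℤ))).getD i [] = toL ((g0.g ^ i • v : leechLattice) : GolayPt → ℤ)
  | 0, i, v, h => absurd h (Nat.not_lt_zero i)
  | n + 1, 0, v, _ => by rw [pow_zero, one_smul]; rfl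
  | n + 1, i + 1, v, h => by
    rw [powsL, List.getD_cons_succ, ← g0.spec, powsL_get n i _ (Nat.lt_of_succ_lt_succ h), pow_succ,
      mul_smul]

/-- a code for a list of small integers -/
def encK (l : List ℤ) : ℕ := l.foldl (fun acc a => acc * 1024 + (a + 512).toNat) 0

/-- the keys -/
noncomputable def keys : List ℕ :=
  (seeds.flatMap fun s => powsL 11 (cAct s wL)).map fun l => encK l % keyMod

theorem keys_ok : Model.noRep 0 keys = true := by decide +kernel

theorem fix_ok : g0.f wL = wL ∧ ∀ b : Bool, (genE b).f vL = vL ∧ (genE b).f (aEl.f vL) = aEl.f vL := by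
  decide +kernel

theorem genE_mem (b : Bool) : (genE b).g ∈ KP := by
  refine ⟨Subtype.ext (toL_injective ?_), Subtype.ext (toL_injective ?_)⟩
  · rw [(genE b).spec, toL_vV, (fix_ok.2 b).1]
  · rw [(genE b).spec, toL_vA, (fix_ok.2 b).2]

theorem kW_mem : ∀ s : List Bool, kW s ∈ KP
  | [] => one_mem _
  | b :: s => mul_mem (genE_mem b) (kW_mem s)

/-- the index type -/
abbrev KI : Type := Fin seeds.length × Fin 11

/-- the conjugating elements -/
noncomputable def kI (x : KI) : ↥Co0 := g0.g ^ x.2.1 * kW seeds[x.1.1]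

theorem kI_key (x : KI) : encK
    (toL (((kI x * aEl.g * (kI x)⁻¹) • wV : leechLattice) : GolayPt → ℤ)) % keyMod =
      ((powsL 11 (cAct seeds[x.1.1] wL)).map fun l => encK l % keyMod).getD x.2.1 0 := by
  have hg : g0.g • wV = wV := Subtype.ext (toL_injective (by rw [g0.spec, toL_wV, fix_ok.1]))
  have hi : (g0.g ^ x.2.1)⁻¹ • wV = wV := by
    rw [inv_smul_eq_iff]
    have : ∀ n : ℕ, g0.g ^ n • wV = wV := fun n => by
      induction n with
      | zero => rw [pow_zero, one_smul]
      | succ n ih => rw [pow_succ, mul_smul, hg, ih]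
    exact (this _).symm
  have e : kI x * aEl.g * (kI x)⁻¹ =
      g0.g ^ x.2.1 * (kW seeds[x.1.1] * aEl.g * (kW seeds[x.1.1])⁻¹) * (g0.g ^ x.2.1)⁻¹ := by
    rw [kI]; group
  rw [e, mul_smul, hi, mul_smul, ← powsL_get 11 _ _ x.2.2, cAct_spec, toL_wV]
  have hlen : x.2.1 < (powsL 11 (cAct seeds[x.1.1] wL)).length := by rw [powsL_length]; exact x.2.2
  rw [List.getD_eq_getElem _ _ hlen, List.getD_eq_getElem _ _ (by simpa using hlen), List.getElem_map]

theorem flatten_nodup_pair {ls : List (List ℕ)} (h : (ls.flatten).Nodup) {i j a b : ℕ}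
    (hi : i < ls.length) (hj : j < ls.length) (ha : a < (ls[i]).length) (hb : b < (ls[j]).length)
    (e : (ls[i])[a] = (ls[j])[b]) : i = j ∧ a = b := by
  obtain ⟨h1, h2⟩ := List.nodup_flatten.1 h
  rcases lt_trichotomy i j with hij | hij | hij
  · exact absurd (e ▸ List.getElem_mem hb) ((List.pairwise_iff_getElem.1 h2 i j hi hj hij) (List.getElem_mem ha))
  · subst hij
    exact ⟨rfl, (h1 _ (List.getElem_mem hi)).getElem_inj_iff.1 e⟩
  · exact absurd (e ▸ List.getElem_mem hb)
      (fun hm => (List.pairwise_iff_getElem.1 h2 j i hj hi hij) hm (List.getElem_mem ha))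

theorem kI_inj : Function.Injective fun x => kI x * aEl.g * (kI x)⁻¹ := by
  rintro ⟨i, a⟩ ⟨j, b⟩ h
  have e := congrArg (fun g : ↥Co0 => (fun l => encK l % keyMod) (toL ((g • wV : leechLattice) : GolayPt → ℤ))) h
  simp only at e
  rw [kI_key, kI_key] at e
  set ls := seeds.map fun s => (powsL 11 (cAct s wL)).map fun l => encK l % keyMod with hls
  have hflat : ls.flatten = keys := by
    rw [hls, keys, List.flatMap, List.map_flatten, List.map_map]; rfl
  have hn : ls.flatten.Nodup := by rw [hflat]; exact (Model.noRep_spec _ 0 keys_ok).1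
  have hlen : ∀ (s : List Bool), ((powsL 11 (cAct s wL)).map fun l => encK l % keyMod).length = 11 :=
    fun s => by rw [List.length_map, powsL_length]
  have hi : i.1 < ls.length := by rw [hls, List.length_map]; exact i.2
  have hj : j.1 < ls.length := by rw [hls, List.length_map]; exact j.2
  rw [List.getD_eq_getElem _ _ (by rw [hlen]; exact a.2),
    List.getD_eq_getElem _ _ (by rw [hlen]; exact b.2)] at e
  obtain ⟨h1, h2⟩ := flatten_nodup_pair hn hi hj (a := a.1) (b := b.1)
    (by simp only [hls, List.getElem_map]; rw [List.length_map, powsL_length]; exact a.2)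
    (by simp only [hls, List.getElem_map]; rw [List.length_map, powsL_length]; exact b.2)
    (by simpa only [hls, List.getElem_map] using e)
  exact Prod.ext (Fin.ext h1) (Fin.ext h2)

theorem card_bound : Nat.card ↥(Cg aEl) < 2 * (448345497600 * (2 * 3)) := by
  have := finite_co0
  have h1 := card_Cg_le (a := aEl) vV dot_facts.1
  have h2 : Nat.card ↥(Cg aEl ⊓ MulAction.stabilizer ↥Co0 vV) ≤ Nat.card ↥(KP ⊓ Cg aEl) := by
    refine Subgroup.card_le_of_le (fun g hg => ⟨⟨hg.2, ?_⟩, hg.1⟩)
    exact fixes_image (a := aEl) hg.1 hg.2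
  have h3 := card_conj_mul_le (a := aEl) KP kI (fun x => mul_mem (pow_mem (genE_mem true) _) (kW_mem _)) kI_inj
  have hs : seeds.length = 31 := by decide +kernel
  rw [Fintype.card_prod, Fintype.card_fin, Fintype.card_fin, card_KP, hs] at h3
  have h4 := h1.trans (Nat.mul_le_mul_left 196560 h2)
  omega

end Cfsg.Agent.CoSection.Suz3
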