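import Mathlib.Data.List.Basic

/-! Data: the elements of order dividing four centralised by the element, and the action on them. -/

set_option autoImplicit false
set_option maxRecDepth 100000

namespace Cfsg.Agent.CoSection.Suz3
/-- the numbers of the centralised elements -/
def q0L : List ℕ := [0, 5, 9, 12, 19, 22, 26, 31, 34, 39, 43, 46, 49, 52, 56, 61, 66, 71, 75, 78, 81, 84, 88, 93, 96, 101, 105, 108, 115, 118, 122, 127, 129, 132, 136, 141, 146, 151, 155, 158, 163, 166, 170, 175, 176, 181, 185, 188, 195, 198, 202, 207, 208, 213, 217, 220, 225, 228, 232, 237, 242, 247, 251, 254, 257, 260, 264, 269, 274, 279, 283, 286, 291, 294, 298, 303, 304, 309, 313, 316, 323, 326, 330, 335, 336, 341, 345, 348, 353, 356, 360, 365, 370, 375, 379, 382, 384, 389, 393, 396, 403, 406, 410, 415, 418, 423, 427, 430, 433, 436, 440, 445, 450, 455, 459, 462, 465, 468, 472, 477, 480, 485, 489, 492, 499, 502, 506, 511]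

/-- the numbers of those squaring to one -/
def invL : List ℕ := [0, 5, 9, 12, 19, 22, 26, 31, 34, 46, 49, 61, 96, 108, 115, 127, 129, 132, 155, 158, 166, 175, 176, 185, 195, 198, 217, 220, 225, 232, 247, 254, 260, 264, 279, 283, 323, 335, 336, 348, 384, 393, 406, 415, 427, 430, 433, 436, 450, 459, 468, 477, 480, 485, 506, 511]

/-- an element not commuting with each -/
def witL : List (ℕ × ℕ) := [(5, 34), (9, 34), (12, 129), (19, 129), (22, 34), (26, 34), (34, 5), (39, 5), (43, 5), (46, 5), (49, 5), (52, 5), (56, 5), (61, 5), (66, 34), (71, 129), (75, 257), (78, 34), (81, 34), (84, 257), (88, 129), (93, 34), (96, 5), (101, 5), (105, 5), (108, 5), (115, 5), (118, 5), (122, 5), (127, 5), (129, 9), (132, 9), (136, 9), (141, 9), (146, 9), (151, 9), (155, 9), (158, 9), (163, 5), (166, 5), (170, 5), (175, 5), (176, 5), (181, 5), (185, 5), (188, 5), (195, 9), (198, 9), (202, 9), (207, 9), (208, 9), (213, 9), (217, 9), (220, 9), (225, 5), (228, 5), (232, 5), (237, 5), (242, 5), (247, 5), (251, 5), (254, 5), (257, 5), (260, 5), (264, 5), (269, 5), (274, 5), (279, 5), (283, 5), (286, 5), (291, 66), (294, 34), (298, 34), (303, 66), (304, 66), (309, 34), (313, 34), (316, 66), (323, 5), (326, 5), (330, 5), (335, 5), (336, 5), (341, 5), (345, 5), (348, 5), (353, 34), (356, 66), (360, 66), (365,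 34), (370, 34), (375, 66), (379, 66), (382, 34), (384, 5), (389, 5), (393, 5), (396, 5), (403, 5), (406, 5), (410, 5), (415, 5), (418, 9), (423, 9), (427, 9), (430, 9), (433, 9), (436, 9), (440, 9), (445, 9), (450, 5), (455, 5), (459, 5), (462, 5), (465, 5), (468, 5), (472, 5), (477, 5), (480, 9), (485, 9), (489, 9), (492, 9), (499, 9), (502, 9), (506, 9), (511, 9)]

/-- one number in each coset of the centre -/
def repL : List ℕ := [0, 5, 9, 12, 34, 39, 43, 46, 66, 71, 75, 78, 96, 101, 105, 108, 129, 132, 136, 141, 163, 166, 170, 175, 195, 198, 202, 207, 225, 228, 232, 237, 257, 260, 264, 269, 291, 294, 298, 303, 323, 326, 330, 335, 353, 356, 360, 365, 384, 389, 393, 396, 418, 423, 427, 430, 450, 455, 459, 462, 480, 485, 489, 492]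

/-- conjugation by a generator: target and sign -/
def tab0 : List (ℕ × ℕ × Bool) := [(0, 0, false), (5, 279, false), (9, 12, false), (12, 283, false), (34, 450, false), (39, 213, false), (43, 462, false), (46, 217, false), (66, 93, false), (71, 330, false), (75, 81, false), (78, 326, false), (96, 415, false), (101, 136, false), (105, 403, false), (108, 132, false), (129, 393, false), (132, 129, false), (136, 389, false), (141, 141, false), (163, 75, false), (166, 323, false), (170, 71, false), (175, 335, false), (195, 468, false), (198, 220, false), (202, 472, false), (207, 208, false), (225, 22, false), (228, 286, false), (232, 26, false), (237, 274, false), (257, 423, false), (260, 175, false), (264, 427, false), (269, 163, false), (291, 122, false), (294, 370, false), (298, 118, false), (303, 382, false), (323, 485, false), (326, 237, false), (330, 489, false), (335, 225, false), (353, 56, false), (356, 304, false), (360, 52, false), (365, 316, false), (384, 46, false), (389, 313, false), (393, 34, false), (396, 309, false), (418, 499, false), (423, 228, false), (427, 511, false), (430, 232, false), (450, 108, false), (455, 379, false), (459, 96, false), (462, 375, false), (480, 433, false), (485, 166, false), (489, 445, false), (492, 170, false)]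

/-- conjugation by a generator: target and sign -/
def tab1 : List (ℕ × ℕ × Bool) := [(0, 0, false), (5, 283, false), (9, 12, false), (12, 279, false), (34, 511, false), (39, 228, false), (43, 499, false), (46, 232, false), (66, 78, false), (71, 341, false), (75, 66, false), (78, 345, false), (96, 430, false), (101, 181, false), (105, 418, false), (108, 185, false), (129, 254, false), (132, 506, false), (136, 242, false), (141, 502, false), (163, 286, false), (166, 26, false), (170, 274, false), (175, 22, false), (195, 176, false), (198, 436, false), (202, 188, false), (207, 440, false), (225, 335, false), (228, 75, false), (232, 323, false), (237, 71, false), (257, 146, false), (260, 406, false), (264, 158, false), (269, 410, false), (291, 365, false), (294, 105, false), (298, 353, false), (303, 101, false), (323, 220, false), (326, 472, false), (330, 208, false), (335, 468, false), (353, 316, false), (356, 56, false), (360, 304, false), (365, 52, false), (384, 115, false), (389, 360, false), (393, 127, false), (396, 356, false), (418, 403, false), (423, 136, false), (427, 415, false), (430, 132, false), (450, 61, false), (455, 294, false), (459, 49, false), (462, 298, false), (480, 450, false), (485, 217, false), (489, 462, false), (492, 213, false)]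

/-- base point -/
def base0 : ℕ := 326

/-- words moving it -/
def words0 : List (List Bool) := [
  [true, false, true],
  [true, false, true, true],
  [true, false, false, false, false],
  [true, false],
  [false, false, false, false],
  [false, false, false, false, false],
  [true, false, false, true],
  [true, true, true],
  [false, true, false, false, true],
  [true, true, false, false, false],
  [false, false, false],
  [true, true, false, false, true],
  [false, true, false, true],
  [true, false, true, false],
  [true, true, false, true],
  [false],
  [true, false, false, false],
  [false, false],
  [false, false, true, true],
  [true, true],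
  [false, false, true, true, true],
  [false, false, true],
  [],
  [false, true, false],
  [false, false, false, true],
  [false, true],
  [true, true, false, false],
  [false, true, true],
  [true, false, false],
  [false, true, true, true],
  [true, true, true, true],
  [false, true, false, false, false],
  [true],
  [true, false, false, true, false],
  [false, false, true, false],
  [true, true, false, true, true]]

/-- base point -/
def base1 : ℕ := 101

/-- words moving it -/
def words1 : List (List Bool) := [
  [false, false, true, false, true, false, true, true, true, false],
  [false, true, false, true, true, true, true, false, true],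
  [true, true, true, true, true, true, false, true],
  [true, false, true, true, true, false, true],
  [],
  [false, true, false, true, false, false, false, false],
  [false, true, true, false, true, false, true, false, true],
  [false, true, true, false, false, false, false],
  [true, true, true, false, false, false, false],
  [true, false, true, false, false, true, false, false, false],
  [false, false, true, true, true, false, true],
  [false, true, true, true, true, true, false, true],
  [false, true, true, true, false, false, true, false, false, false],
  [true, true, false, true, true, true, true, false, true],
  [true, true, false, true, false, false, false, false],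
  [true, false, false, false, false, false],
  [false, true, false, false, true, true, true, true, false, true],
  [true, true, false, false, true, true, true, true, false, true],
  [false, false, false, true, false, true, false, true],
  [true, false, false, true, false, true, false, true]]

/-- base point -/
def base2 : ℕ := 136

/-- words moving it -/
def words2 : List (List Bool) := [
  [true, false, true, true, false, false, false, false, true],
  [false, false, true, true, false, true, false, true, false, false, true, true, false],
  [],
  [true, false, true, true, true, true, false, true, true, true],
  [true, false, true, false, false, true, true, false, true, false, true],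
  [true, true, false, false, true, false, false, false, false],
  [true, true, true, false, false, true, true, false, true, false, false, false, true],
  [false, true, false, true, false, true, true, true, true, false, true, true],
  [true, true, false, false, false, false, false, true, false, false, false, false]]

/-- unit vectors spanning the space with their images -/
def unitL : List ℕ := [17, 19, 21, 25]

/-- the matrix by column codes -/
def maL : List ℕ := [73, 205, 176, 105, 170, 41, 104, 55]

end Cfsg.Agent.CoSection.Suz3
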