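import Cfsg.Agent.CoSection.SuzElems
import Cfsg.Agent.CoSection.SuzQData
import Cfsg.Agent.Leech.CentOneCo

/-! The centralisers of the element of order three in the centraliser of the sign change and in the
isometry group of the fixed lattice modulo two. -/

set_option autoImplicit false
set_option maxRecDepth 100000

namespace Cfsg.Agent.CoSection.Suz3
open Cfsg Cfsg.Agent.Leech Cfsg.Agent.Leech.CentOne Matrix

/-- values in a finite set bound an index -/
theorem card_le_of_fibres {G V : Type*} [Group G] (S T : Subgroup G) [Finite ↥T] (f : G → V) (C : Finset V)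
    (hC : ∀ g ∈ S, f g ∈ C) (hfib : ∀ g ∈ S, ∀ h ∈ S, f g = f h → g⁻¹ * h ∈ T) :
    Nat.card ↥S ≤ C.card * Nat.card ↥T := by
  classical
  let r : V → G := fun v => if h : ∃ g ∈ S, f g = v then h.choose else 1
  have hr : ∀ g ∈ S, r (f g) ∈ S ∧ f (r (f g)) = f g := fun g hg => by
    have h : ∃ g' ∈ S, f g' = f g := ⟨g, hg, rfl⟩
    simp only [r, dif_pos h]
    exact h.choose_spec
  have hinj : Function.Injective (fun g : ↥S => ((⟨f g.1, hC _ g.2⟩ : ↥C),
      (⟨(r (f g.1))⁻¹ * g.1, hfib _ (hr _ g.2).1 _ g.2 (hr _ g.2).2⟩ : ↥T))) := by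
    intro a b h
    simp only [Prod.mk.injEq, Subtype.mk.injEq] at h
    refine Subtype.ext ?_
    have h2 := h.2
    rw [h.1] at h2
    exact mul_left_cancel h2
  calc Nat.card ↥S ≤ Nat.card (↥C × ↥T) := Nat.card_le_card_of_injective _ hinj
    _ = C.card * Nat.card ↥T := by rw [Nat.card_prod, Nat.card_eq_finsetCard]

/-- the isometries -/
abbrev O8 : Type := ↥(isometryGroup (ZMod 2) (quadFormPlus 4 (ZMod 2)))

/-- the matrix of an isometry -/
def mOf (g : O8) : Matrix J J (ZMod 2) := ((g : GL J (ZMod 2)) : Matrix J J (ZMod 2))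

theorem mOf_mul (g h : O8) : mOf (g * h) = mOf g * mOf h := rfl

theorem mOf_one : mOf 1 = 1 := rfl

/-- bits of codes -/
def cv (x : ℕ) : J → ZMod 2 := fun j => if x.testBit (posJ j) then 1 else 0

/-- the matrix of the element -/
def MA : Matrix J J (ZMod 2) := Matrix.of fun j k => cv (maL.getD (posJ k) 0) j

theorem ofL_toL' (x : GolayPt → ℤ) : ofL (toL x) = x :=
  funext fun p => by rw [ofL, toL_getD _ _ (idx_lt p), ptOf_idx]

theorem mat_check : ∀ p : J × J,
    ((dotInt (ofL (aEl.f (toL (bV p.2 : GolayPt → ℤ)))) (tV p.1 : GolayPt → ℤ) / 8 : ℤ) : ZMod 2) =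
      MA p.1 p.2 := by
  decide +kernel

theorem Mat_aEl : Mat aEl.g = MA := by
  ext j k
  rw [← mat_check (j, k), ← aEl.spec, ofL_toL']
  rfl

theorem aEl_CE : aEl.g ∈ CE :=
  CentOne.mem_CE.2 (g_eq (A := CentTwo.tGen.comp aEl) (B := aEl.comp CentTwo.tGen) (by decide +kernel))

/-- the image of the element -/
noncomputable def aO : O8 := rho ⟨aEl.g, aEl_CE⟩

theorem mOf_aO : mOf aO = MA := Mat_aEl

theorem mOf_preserves (g : O8) (v : J → ZMod 2) :
    quadFormPlus 4 (ZMod 2) (mOf g *ᵥ v) = quadFormPlus 4 (ZMod 2) v :=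
  (Classical.Quad.mem_isometryGroup_iff).1 g.2 v

/-- a unit vector -/
def uv (i : ℕ) : J → ZMod 2 := cv (unitL.getD i 0)

/-- the polar form -/
def pol (v w : J → ZMod 2) : ZMod 2 :=
  quadFormPlus 4 (ZMod 2) (v + w) - quadFormPlus 4 (ZMod 2) v - quadFormPlus 4 (ZMod 2) w

/-- candidates for the image of a unit vector -/
def cand (k : ℕ) : Finset (J → ZMod 2) := Finset.univ.filter fun v =>
  quadFormPlus 4 (ZMod 2) v = 1 ∧ ∀ i ∈ List.range k, pol v (uv i) = 0 ∧ pol v (MA *ᵥ uv i) = 0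

theorem cand_card : (cand 0).card ≤ 120 ∧ (cand 1).card ≤ 36 ∧ (cand 2).card ≤ 6 ∧ (cand 3).card ≤ 3 := by
  decide +kernel

theorem uv_cand : ∀ k < 4, uv k ∈ cand k := by decide +kernel

/-- the fixing subgroups -/
noncomputable def ZS : ℕ → Subgroup O8
  | 0 => Subgroup.centralizer {aO}
  | k + 1 => ZS k ⊓
    { carrier := {g | mOf g *ᵥ uv k = uv k}
      one_mem' := by show mOf 1 *ᵥ _ = _; rw [mOf_one, Matrix.one_mulVec]
      mul_mem' := fun {a b} ha hb => by
        show mOf (a * b) *ᵥ _ = _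
        rw [mOf_mul, ← Matrix.mulVec_mulVec, hb, ha]
      inv_mem' := fun {a} ha => by
        have h : mOf (a⁻¹ * a) *ᵥ uv k = uv k := by rw [inv_mul_cancel, mOf_one, Matrix.one_mulVec]
        rwa [mOf_mul, ← Matrix.mulVec_mulVec, ha] at h }

theorem ZS_comm : ∀ k, ∀ g ∈ ZS k, mOf g * MA = MA * mOf g
  | 0, g, hg => by
    rw [← mOf_aO, ← mOf_mul, ← mOf_mul]
    exact congrArg mOf (Subgroup.mem_centralizer_singleton_iff.1 hg)
  | k + 1, g, hg => ZS_comm k g hg.1

theorem ZS_fix : ∀ k, ∀ g ∈ ZS k, ∀ i < k, mOf g *ᵥ uv i = uv i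
  | 0, _, _, i, hi => absurd hi (Nat.not_lt_zero i)
  | k + 1, g, hg, i, hi => by
    rcases Nat.lt_succ_iff_lt_or_eq.1 hi with h | rfl
    · exact ZS_fix k g hg.1 i h
    · exact hg.2

theorem ZS_step (k n : ℕ) (hk : k < 4) (hn : (cand k).card ≤ n) :
    Nat.card ↥(ZS k) ≤ n * Nat.card ↥(ZS (k + 1)) := by
  refine (card_le_of_fibres (ZS k) (ZS (k + 1)) (fun g => mOf g *ᵥ uv k) (cand k) ?_ ?_).trans
    (Nat.mul_le_mul_right _ hn)
  · intro g hg
    have hu := uv_cand k hk
    simp only [cand, Finset.mem_filter, Finset.mem_univ, true_and] at hu ⊢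
    refine ⟨by rw [mOf_preserves]; exact hu.1, fun i hi => ?_⟩
    have e := ZS_fix k g hg i (List.mem_range.1 hi)
    have e' : mOf g *ᵥ (MA *ᵥ uv i) = MA *ᵥ uv i := by
      rw [Matrix.mulVec_mulVec, ZS_comm k g hg, ← Matrix.mulVec_mulVec, e]
    have hp : ∀ v w, pol (mOf g *ᵥ v) (mOf g *ᵥ w) = pol v w := fun v w => by
      simp only [pol, ← Matrix.mulVec_add, mOf_preserves]
    refine ⟨?_, ?_⟩
    · conv_lhs => rw [← e]
      rw [hp]; exact (hu.2 i hi).1
    · conv_lhs => rw [← e']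
      rw [hp]; exact (hu.2 i hi).2
  · intro g hg h hh e
    refine ⟨(ZS k).mul_mem ((ZS k).inv_mem hg) hh, ?_⟩
    show mOf (g⁻¹ * h) *ᵥ uv k = uv k
    replace e : mOf g *ᵥ uv k = mOf h *ᵥ uv k := e
    rw [mOf_mul, ← Matrix.mulVec_mulVec, ← e, Matrix.mulVec_mulVec, ← mOf_mul, inv_mul_cancel, mOf_one,
      Matrix.one_mulVec]

/-- the basis -/
def bM : Matrix J J (ZMod 2) := Matrix.of fun j k =>
  (if posJ k < 4 then uv (posJ k) else MA *ᵥ uv (posJ k - 4)) j

/-- a code list for the inverse of the basis -/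
def bInv : Matrix J J (ZMod 2) := Matrix.of fun j k =>
  cv ((List.range 256).find? (fun x => decide (bM *ᵥ cv x = fun i => if i = k then 1 else 0)) |>.getD 0) j

theorem bM_inv : bM * bInv = 1 := by decide +kernel

theorem ZS_four : Nat.card ↥(ZS 4) = 1 := by
  rw [Subgroup.card_eq_one, Subgroup.eq_bot_iff_forall]
  intro g hg
  have hb : mOf g * bM = bM := by
    ext j k
    have hk : posJ k < 8 := by revert k; decide
    have hcol : mOf g *ᵥ (fun i => bM i k) = fun i => bM i k := by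
      by_cases h : posJ k < 4
      · have e : (fun i => bM i k) = uv (posJ k) := funext fun i => by rw [bM, Matrix.of_apply, if_pos h]
        rw [e]; exact ZS_fix 4 g hg _ h
      · have e : (fun i => bM i k) = MA *ᵥ uv (posJ k - 4) :=
          funext fun i => by rw [bM, Matrix.of_apply, if_neg h]
        rw [e, Matrix.mulVec_mulVec, ZS_comm 4 g hg, ← Matrix.mulVec_mulVec,
          ZS_fix 4 g hg _ (by omega)]
    exact congrFun hcol j
  have hg1 : mOf g = 1 := by
    calc mOf g = mOf g * (bM * bInv) := by rw [bM_inv, mul_one]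
      _ = 1 := by rw [← mul_assoc, hb, bM_inv]
  exact Subtype.ext (Units.ext hg1)

theorem card_ZS : Nat.card ↥(ZS 0) ≤ 77760 := by
  obtain ⟨h0, h1, h2, h3⟩ := cand_card
  have := ZS_step 0 120 (by norm_num) h0
  have := ZS_step 1 36 (by norm_num) h1
  have := ZS_step 2 6 (by norm_num) h2
  have := ZS_step 3 3 (by norm_num) h3
  have h4 := ZS_four
  simp only [Nat.zero_add, show 1 + 1 = 2 from rfl, show 2 + 1 = 3 from rfl, show 3 + 1 = 4 from rfl] at *
  omega

end Cfsg.Agent.CoSection.Suz3
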