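import Cfsg.Agent.CoSection.SuzQuot
import Cfsg.Agent.CoSection.SuzFix
import Cfsg.Agent.LargeExtra.Sub
import Cfsg.Agent.LargeExtra.SingularSubgroup

/-! The centraliser of the image of the sign change: order and extraspecial normal subgroup. -/

set_option autoImplicit false
set_option maxRecDepth 100000

namespace Cfsg.Agent.CoSection.Suz3
open Cfsg Cfsg.Agent.Leech Cfsg.Agent.Leech.CentOne Cfsg.Agent.Leech.CentTwo

/-- the elements of the extraspecial group as list actions -/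
noncomputable def kL (i : ℕ) : LGen where
  g := (kG (Fin.ofNat 512 i)).1.1
  f := kF (i % 512)
  spec v := kG_spec _ v

theorem kL_g (i : Fin 512) : (kL i.1).g = (kG i).1.1 :=
  congrArg (fun j => (kG j).1.1) (Fin.ext (Nat.mod_eq_of_lt i.2))

/-- commuting with the element -/
noncomputable def commB (i : ℕ) : Bool := eqB (aEl.comp (kL i)).f ((kL i).comp aEl).f

theorem comm_list : (List.range 512).filter commB = q0L := by decide +kernel

theorem eqB_of_eq {A B : LGen} (h : A.g = B.g) : eqB A.f B.f = true := by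
  cases e : eqB A.f B.f
  · exact absurd h (g_ne e)
  · rfl

theorem comm_iff (i : Fin 512) : i.1 ∈ q0L ↔ aEl.g * (kG i).1.1 = (kG i).1.1 * aEl.g := by
  rw [← comm_list, List.mem_filter, List.mem_range, and_iff_right i.2, ← kL_g]
  exact ⟨fun h => g_eq (A := aEl.comp (kL i.1)) (B := (kL i.1).comp aEl) h,
    fun h => eqB_of_eq (A := aEl.comp (kL i.1)) (B := (kL i.1).comp aEl) h⟩

theorem kG31_g : (kG 31).1.1 = tGen.g := by
  rw [← kL_g 31]
  exact g_eq (by decide +kernel)

/-- the centralised part of the extraspecial group -/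
noncomputable def Q0 : Subgroup ↥act.ker :=
  (Subgroup.centralizer ({aEl.g} : Set ↥Co0)).comap (CT.subtype.comp act.ker.subtype)

theorem mem_Q0 {k : ↥act.ker} : k ∈ Q0 ↔ aEl.g * k.1.1 = k.1.1 * aEl.g := by
  rw [Q0, Subgroup.mem_comap, Subgroup.mem_centralizer_singleton_iff]
  exact eq_comm

theorem kG_mem_Q0 (i : Fin 512) : kG i ∈ Q0 ↔ i.1 ∈ q0L := by rw [mem_Q0, comm_iff]

/-- the numbered elements -/
noncomputable def q0Equiv : {i : Fin 512 // i.1 ∈ q0L} ≃ ↥Q0 :=
  Equiv.ofBijective (fun i => ⟨kG i.1, (kG_mem_Q0 _).2 i.2⟩) ⟨fun a b h =>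
    Subtype.ext (kG_injective (congrArg Subtype.val h)), fun k => by
      obtain ⟨i, hi⟩ := kG_surjective k.1
      exact ⟨⟨i, (kG_mem_Q0 i).1 (hi.symm ▸ k.2)⟩, Subtype.ext hi⟩⟩

theorem card_Q0 : Nat.card ↥Q0 = 128 := by
  rw [← Nat.card_congr q0Equiv, Nat.card_eq_fintype_card, Fintype.card_subtype]
  decide +kernel

theorem inv_list : q0L.filter (fun i => eqB ((kL i).comp (kL i)).f oneG.f) = invL := by decide +kernel

theorem sq_iff (i : Fin 512) (hi : i.1 ∈ q0L) : i.1 ∈ invL ↔ kG i ^ 2 = 1 := by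
  rw [← inv_list, List.mem_filter, and_iff_right hi]
  have e : ((kL i.1).comp (kL i.1)).g = ((kG i ^ 2 : ↥act.ker)).1.1 := by
    show (kL i.1).g * (kL i.1).g = _
    rw [kL_g, pow_two]; rfl
  constructor
  · intro h
    exact Subtype.ext (Subtype.ext (e.symm.trans (g_eq h)))
  · intro h
    refine eqB_of_eq (A := (kL i.1).comp (kL i.1)) (B := oneG) ?_
    rw [e, h]; rfl

theorem card_sq : Nat.card {k : ↥Q0 // k ^ 2 = 1} = 56 := by
  have e : {i : {i : Fin 512 // i.1 ∈ q0L} // i.1.1 ∈ invL} ≃ {k : ↥Q0 // k ^ 2 = 1} :=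
    q0Equiv.subtypeEquiv fun i => (sq_iff i.1 i.2).trans
      ⟨fun h => Subtype.ext h, fun h => congrArg Subtype.val h⟩
  rw [← Nat.card_congr e, Nat.card_eq_fintype_card, Fintype.card_subtype]
  decide +kernel

theorem wit_ok : (witL.all fun p => decide (p.1 ∈ q0L) && decide (p.2 ∈ q0L) &&
    !eqB ((kL p.1).comp (kL p.2)).f ((kL p.2).comp (kL p.1)).f) = true ∧
    q0L.all (fun i => decide (i = 0) || decide (i = 31) || witL.any fun p => decide (p.1 = i)) = true ∧
    witL ≠ [] ∧ (q0L.all fun i => decide (i < 512)) = true := by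
  decide +kernel

theorem kG31_center : kG 31 ∈ Subgroup.center ↥act.ker := Subgroup.mem_center_iff.2 fun k =>
  Subtype.ext (Subtype.ext (by
    show k.1.1 * (kG 31).1.1 = (kG 31).1.1 * k.1.1
    rw [kG31_g]
    exact (CentOne.mem_CE.1 (CT_le_CE k.1.2)).symm))

theorem extraspecial_Q0 : IsExtraspecial 2 ↥Q0 := by
  have := finite_co0
  obtain ⟨hw, hcov, hne, hlt⟩ := wit_ok
  have hp : ∀ p ∈ witL, ∃ a b : Fin 512, a.1 = p.1 ∧ b.1 = p.2 ∧ kG a ∈ Q0 ∧ kG b ∈ Q0 ∧
      kG a * kG b ≠ kG b * kG a := by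
    intro p hp
    have h := List.all_eq_true.1 hw p hp
    simp only [Bool.and_eq_true, decide_eq_true_eq, Bool.not_eq_true'] at h
    obtain ⟨⟨h1, h2⟩, h3⟩ := h
    have l1 := of_decide_eq_true (List.all_eq_true.1 hlt _ h1)
    have l2 := of_decide_eq_true (List.all_eq_true.1 hlt _ h2)
    refine ⟨⟨p.1, l1⟩, ⟨p.2, l2⟩, rfl, rfl, (kG_mem_Q0 _).2 h1, (kG_mem_Q0 _).2 h2, fun e => ?_⟩
    refine g_ne (A := (kL p.1).comp (kL p.2)) (B := (kL p.2).comp (kL p.1)) h3 ?_
    show (kL p.1).g * (kL p.2).g = (kL p.2).g * (kL p.1).g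
    rw [kL_g ⟨p.1, l1⟩, kL_g ⟨p.2, l2⟩]
    exact congrArg (fun x : ↥act.ker => x.1.1) e
  refine LargeExtra.extraspecial_sub (Q := (⊤ : Subgroup ↥act.ker))
    (LargeExtra.extraspecial_congr Subgroup.topEquiv.symm isExtraspecial_ker) le_top ?_ ?_
  · obtain ⟨p, hpm⟩ := List.exists_mem_of_ne_nil _ hne
    obtain ⟨a, b, -, -, ha, hb, hab⟩ := hp p hpm
    exact ⟨_, ha, _, hb, hab⟩
  · intro c hc hcomm
    obtain ⟨i, rfl⟩ := kG_surjective c
    have hcen : kG i ∈ Subgroup.center ↥act.ker := by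
      have hi := List.all_eq_true.1 hcov _ ((kG_mem_Q0 i).1 hc)
      simp only [Bool.or_eq_true, decide_eq_true_eq, List.any_eq_true] at hi
      rcases hi with (h | h) | ⟨p, hpm, hpi⟩
      · rw [show i = 0 from Fin.ext h, kG_zero]; exact one_mem _
      · rw [show i = 31 from Fin.ext h]; exact kG31_center
      · obtain ⟨a, b, ha', -, -, hb, hab⟩ := hp p hpm
        obtain rfl : a = i := Fin.ext (ha'.trans hpi)
        exact absurd (hcomm _ hb).symm hab
    refine ⟨⟨kG i, trivial⟩, Subgroup.mem_center_iff.2 fun y => Subtype.ext ?_, rfl⟩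
    exact Subgroup.mem_center_iff.1 hcen y.1

theorem tGen_Cg : tGen.g ∈ Cg aEl := mem_Cg.2 (CentOne.mem_CE.1 aEl_CE).symm

/-- the involution -/
noncomputable def zS : QS := QuotientGroup.mk ⟨tGen.g, tGen_Cg⟩

theorem zS_order : orderOf zS = 2 := by
  refine orderOf_eq_prime ?_ fun h => ?_
  · rw [pow_two, zS, ← QuotientGroup.mk_mul, QuotientGroup.eq_one_iff]
    show tGen.g * tGen.g ∈ AA aEl ⊔ Subgroup.center ↥Co0
    rw [tGen_inv]; exact one_mem _
  · exact not_mem_of_notTest prime_three base_ok (x := tGen) (by decide +kernel)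
      ((QuotientGroup.eq_one_iff (N := Nn aEl) _).1 h)

/-- the centraliser in the quotient -/
noncomputable abbrev CZ : Subgroup QS := Subgroup.centralizer ({zS} : Set QS)

/-- the common centraliser -/
noncomputable def CAg : Subgroup ↥(Cg aEl) := CE.subgroupOf (Cg aEl)

theorem sup_le_CE : AA aEl ⊔ Subgroup.center ↥Co0 ≤ CE :=
  sup_le (Subgroup.zpowers_le.2 aEl_CE) fun c hc => CentOne.mem_CE.2 (Subgroup.mem_center_iff.1 hc _)

/-- the map onto the centraliser -/
noncomputable def phiC : ↥CAg →* ↥CZ :=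
  ((QuotientGroup.mk' (Nn aEl)).comp CAg.subtype).codRestrict CZ fun g => by
    rw [Subgroup.mem_centralizer_singleton_iff, zS]
    show QuotientGroup.mk g.1 * QuotientGroup.mk _ = QuotientGroup.mk _ * QuotientGroup.mk g.1
    rw [← QuotientGroup.mk_mul, ← QuotientGroup.mk_mul]
    exact congrArg _ (Subtype.ext (CentOne.mem_CE.1 g.2).symm)

theorem phiC_coe (g : ↥CAg) : (phiC g : QS) = QuotientGroup.mk g.1 := rfl

theorem small_invol : ((nList aEl 3).all fun n =>
    !eqB (n.comp n).f oneG.f || eqB n.f oneG.f || eqB n.f negG.f) = true := by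
  decide +kernel

theorem phiC_surjective : Function.Surjective phiC := by
  rintro ⟨y, hy⟩
  obtain ⟨g, rfl⟩ := QuotientGroup.mk_surjective y
  rw [Subgroup.mem_centralizer_singleton_iff, zS, ← QuotientGroup.mk_mul, ← QuotientGroup.mk_mul] at hy
  have hn : (g * ⟨tGen.g, tGen_Cg⟩)⁻¹ * (⟨tGen.g, tGen_Cg⟩ * g) ∈ Nn aEl := QuotientGroup.eq.1 hy
  obtain ⟨n, hn', e⟩ := mem_cases prime_three base_ok hn
  replace e : tGen.g * g.1 = g.1 * tGen.g * n.g := by
    have e' : (g.1 * tGen.g)⁻¹ * (tGen.g * g.1) = n.g := e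
    rw [← e']; group
  have hmem : n.g ∈ AA aEl ⊔ Subgroup.center ↥Co0 := nList_mem aEl 3 hn'
  have ht : Commute tGen.g n.g := CentOne.mem_CE.1 (sup_le_CE hmem)
  have hg : Commute g.1 n.g := by
    have : g.1 ∈ Cg aEl := g.2
    obtain ⟨y, hy', c, hc, ec⟩ := Subgroup.mem_sup_of_normal_right.1 hmem
    rw [← ec]
    obtain ⟨k, rfl⟩ := hy'
    exact ((show Commute g.1 aEl.g from (mem_Cg.1 this).symm).zpow_right k).mul_right
      (Subgroup.mem_center_iff.1 hc g.1)
  have hsq : n.g * n.g = 1 := by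
    have h2 : tGen.g * (tGen.g * g.1) = g.1 := by rw [← mul_assoc, tGen_inv, one_mul]
    have h3 : tGen.g * (tGen.g * g.1) = g.1 * (tGen.g * tGen.g) * (n.g * n.g) := by
      rw [e]
      calc tGen.g * (g.1 * tGen.g * n.g) = tGen.g * g.1 * (tGen.g * n.g) := by group
        _ = g.1 * tGen.g * n.g * (tGen.g * n.g) := by rw [e]
        _ = g.1 * tGen.g * (n.g * tGen.g) * n.g := by group
        _ = g.1 * tGen.g * (tGen.g * n.g) * n.g := by rw [ht.eq]
        _ = _ := by group
    rw [h2, tGen_inv, mul_one] at h3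
    exact (mul_eq_left.1 h3.symm)
  have h := List.all_eq_true.1 small_invol n hn'
  simp only [Bool.or_eq_true, Bool.not_eq_true'] at h
  rcases h with (h | h) | h
  · exact absurd (show (n.comp n).g = oneG.g from hsq) (g_ne h)
  · rw [show n.g = 1 from g_eq (B := oneG) h, mul_one] at e
    exact ⟨⟨g, CentOne.mem_CE.2 e⟩, Subtype.ext rfl⟩
  · rw [show n.g = zneg from g_eq (B := negG) h] at e
    exact absurd e (not_flip g.1)

/-- into the centraliser of the sign change -/
noncomputable def toCE : ↥CAg →* ↥CE where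
  toFun g := ⟨g.1.1, g.2⟩
  map_one' := rfl
  map_mul' _ _ := rfl

/-- the action on the fixed lattice modulo two -/
noncomputable def fA : ↥CAg →* O8 := rho.comp toCE

theorem fA_range_le : fA.range ≤ ZS 0 := by
  rintro _ ⟨g, rfl⟩
  rw [ZS, Subgroup.mem_centralizer_singleton_iff, aO, fA, MonoidHom.comp_apply, ← map_mul, ← map_mul]
  exact congrArg rho (Subtype.ext (mem_Cg.1 g.1.2).symm)

/-- the elements of the extraspecial part -/
noncomputable def qHom : ↥Q0 →* ↥CAg where
  toFun k := ⟨⟨k.1.1.1, mem_Cg.2 (mem_Q0.1 k.2)⟩, CT_le_CE k.1.1.2⟩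
  map_one' := rfl
  map_mul' _ _ := rfl

theorem qHom_ker (k : ↥Q0) : qHom k ∈ fA.ker := by
  rw [MonoidHom.mem_ker, fA, MonoidHom.comp_apply]
  exact rho_kin k.1

/-- minus one -/
noncomputable def znegA : ↥CAg :=
  ⟨⟨zneg, sup_le_Cg aEl (zneg_mem aEl)⟩, sup_le_CE (zneg_mem aEl)⟩

theorem ker_fA {g : ↥CAg} (hg : g ∈ fA.ker) : ∃ k : ↥Q0, g = qHom k ∨ g = znegA * qHom k := by
  obtain ⟨k, h⟩ := ker_cases (g := toCE g) (by exact hg)
  have hc : aEl.g * g.1.1 = g.1.1 * aEl.g := mem_Cg.1 g.1.2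
  rcases h with h | h
  · have e : g.1.1 = k.1.1 := congrArg (fun x : ↥CE => x.1) h
    exact ⟨⟨k, mem_Q0.2 (e ▸ hc)⟩, Or.inl (Subtype.ext (Subtype.ext e))⟩
  · have e : g.1.1 = zneg * k.1.1 := congrArg (fun x : ↥CE => x.1) h
    rw [e, ← mul_assoc, zneg_comm aEl.g, mul_assoc, mul_assoc] at hc
    exact ⟨⟨k, mem_Q0.2 (mul_left_cancel hc)⟩, Or.inr (Subtype.ext (Subtype.ext e))⟩

theorem card_CAg : Nat.card ↥CAg ≤ 256 * 77760 := by
  have := finite_co0
  rw [← fA.ker.card_mul_index, Subgroup.index_ker]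
  refine Nat.mul_le_mul ?_ ((Subgroup.card_le_of_le fA_range_le).trans card_ZS)
  let F : Bool × ↥Q0 → ↥fA.ker := fun p => ⟨(if p.1 then znegA else 1) * qHom p.2, by
    refine mul_mem ?_ (qHom_ker _)
    cases p.1
    · exact one_mem _
    · exact rho_znegE⟩
  calc Nat.card ↥fA.ker ≤ Nat.card (Bool × ↥Q0) := Nat.card_le_card_of_surjective F fun g => by
        obtain ⟨k, h | h⟩ := ker_fA g.2
        · exact ⟨(false, k), Subtype.ext (by simp [F, h])⟩
        · exact ⟨(true, k), Subtype.ext (by simp [F, h])⟩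
    _ = 256 := by rw [Nat.card_prod, card_Q0]; simp

theorem card_CZ : Nat.card ↥CZ ≤ 3317760 := by
  have := finite_co0
  have hsub : (Nn aEl).subgroupOf CAg ≤ phiC.ker := fun g hg => by
    rw [MonoidHom.mem_ker]
    exact Subtype.ext ((QuotientGroup.eq_one_iff _).2 hg)
  have h6 : 6 ≤ Nat.card ↥phiC.ker := by
    refine le_trans ?_ (Subgroup.card_le_of_le hsub)
    rw [Nat.card_congr (Subgroup.subgroupOfEquivOfLe (show Nn aEl ≤ CAg from fun g hg => sup_le_CE hg)).toEquiv,
      card_Nn prime_three base_ok]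
  have h := phiC.ker.card_mul_index
  rw [Subgroup.index_ker, MonoidHom.range_eq_top.2 phiC_surjective, Subgroup.card_top] at h
  have h1 := Nat.mul_le_mul_right (Nat.card ↥CZ) h6
  rw [h] at h1
  have := h1.trans card_CAg
  omega

/-- the extraspecial normal subgroup -/
noncomputable def QQ : Subgroup ↥CZ := fA.ker.map phiC

instance QQ_normal : QQ.Normal := Subgroup.Normal.map inferInstance phiC phiC_surjective

theorem phiC_znegA : phiC znegA = 1 :=
  Subtype.ext ((QuotientGroup.eq_one_iff _).2 (zneg_mem aEl))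

theorem moved : ((nList aEl 3).all fun n =>
    eqB n.f oneG.f || !Model.eqZ (n.f (toL Spor.vecU)) (toL Spor.vecU)) = true := by
  decide +kernel

/-- the extraspecial part mapped onto the normal subgroup -/
noncomputable def qQ : ↥Q0 →* ↥QQ := (phiC.comp qHom).codRestrict QQ fun k => ⟨_, qHom_ker k, rfl⟩

theorem qQ_bijective : Function.Bijective qQ := by
  constructor
  · refine (MonoidHom.ker_eq_bot_iff _).1 ((Subgroup.eq_bot_iff_forall _).2 fun k hk => ?_)
    have h : (QuotientGroup.mk (qHom k).1 : QS) = 1 :=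
      congrArg (fun x : ↥QQ => (x.1 : QS)) (MonoidHom.mem_ker.1 hk)
    obtain ⟨n, hn, e⟩ := mem_cases prime_three base_ok
      (show k.1.1.1 ∈ AA aEl ⊔ Subgroup.center ↥Co0 from (QuotientGroup.eq_one_iff (N := Nn aEl) _).1 h)
    have hm := List.all_eq_true.1 moved n hn
    simp only [Bool.or_eq_true, Bool.not_eq_true'] at hm
    rcases hm with h1 | h1
    · exact Subtype.ext (Subtype.ext (Subtype.ext (e.trans (g_eq (B := oneG) h1))))
    · exfalso
      have hu : n.g • Spor.leechU = Spor.leechU := e ▸ (mem_CT.1 k.1.1.2).1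
      have := congrArg (fun v : leechLattice => toL (v : GolayPt → ℤ)) hu
      simp only [n.spec] at this
      have h2 : Model.eqZ (n.f (toL Spor.vecU)) (toL Spor.vecU) = true := by
        rw [show n.f (toL Spor.vecU) = toL Spor.vecU from this]; exact Model.eqZ_refl _
      rw [h1] at h2
      exact Bool.noConfusion h2
  · rintro ⟨y, g, hg, rfl⟩
    obtain ⟨k, h | h⟩ := ker_fA hg
    · exact ⟨k, Subtype.ext (by show phiC (qHom k) = phiC g; rw [h])⟩
    · exact ⟨k, Subtype.ext (by show phiC (qHom k) = phiC g; rw [h, map_mul, phiC_znegA, one_mul])⟩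

/-- the identification -/
noncomputable def qEquiv : ↥Q0 ≃* ↥QQ := MulEquiv.ofBijective qQ qQ_bijective

theorem QQ_extraspecial : IsExtraspecial 2 ↥QQ ∧ Nat.card ↥QQ = 2 ^ 7 := by
  have := finite_co0
  refine ⟨LargeExtra.extraspecial_congr qEquiv extraspecial_Q0, ?_⟩
  rw [← Nat.card_congr qEquiv.toEquiv, card_Q0]
  norm_num

theorem QQ_sq : Nat.card {x : ↥QQ // x ^ 2 = 1} = 56 := by
  rw [← card_sq]
  refine (Nat.card_congr (qEquiv.toEquiv.subtypeEquiv fun k => ?_)).symm
  show k ^ 2 = 1 ↔ qEquiv k ^ 2 = 1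
  rw [← map_pow, EmbeddingLike.map_eq_one_iff]

end Cfsg.Agent.CoSection.Suz3
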