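import Cfsg.Agent.CoSection.SuzMove
import Cfsg.Agent.SuzCover.Gens

/-! The element of order three in new position, as a conjugate. -/

set_option autoImplicit false
set_option maxRecDepth 100000

namespace Cfsg.Agent.CoSection.Suz3
open Cfsg Cfsg.Agent.Leech

/-- the inverse of the conjugating element -/
def mInv : LGen := invGen mElM mElM_ok

/-- the element of the cover -/
noncomputable def wEl : LGen := SuzCover.fastGen SuzCover.good_w

/-- the conjugated element as a composite -/
noncomputable def aComp : LGen := mEl.comp (wEl.comp mInv)

theorem aMatch : matchB aElM aComp.f = true := by decide +kernel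

/-- the element of order three -/
noncomputable def aEl : LGen := reGen aElM aComp aMatch

theorem aEl_g : aEl.g = mEl.g * (wEl.g * mEl.g⁻¹) := rfl

theorem prime_three : Nat.Prime 3 := by norm_num

theorem base_ok : baseTest aEl 3 = true := by decide +kernel

end Cfsg.Agent.CoSection.Suz3
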