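import Cfsg.Agent.CoSection.MatExtra

/-! Data: a conjugating element and the fixed-point-free element of order three in new position. -/

set_option autoImplicit false
set_option maxRecDepth 100000

namespace Cfsg.Agent.CoSection.Suz3
open Cfsg Cfsg.Agent.Leech

/-- the conjugating element -/
def mElM : List (List ℤ) := [
  [3, 3, 1, 1, 1, -1, 1, 1, 1, 3, 1, -1, -3, -1, -3, 1, 1, 1, 1, 1, 1, -1, 1, -1],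
  [3, -1, 1, 1, 1, -1, -3, 1, -3, -1, 1, 3, 1, 3, 1, 1, 1, 1, 1, 1, 1, -1, 1, -1],
  [1, 1, 3, 3, -1, 1, -1, -1, -1, 1, -1, 1, -1, -3, 3, -1, -1, -1, -1, 3, -1, 1, -1, 1],
  [-1, -1, 1, 1, 1, -1, 1, 1, 1, -1, -3, -1, -3, 3, 1, 1, -3, -3, 1, 1, 1, -1, 1, -1],
  [-1, -1, -3, 1, -3, -1, 1, -3, 1, -1, 1, 3, -3, -1, 1, 1, 1, 1, 1, 1, 1, -1, 1, -1],
  [-1, -1, -3, 1, 1, -1, -3, 1, 1, 3, -3, -1, 1, -1, 1, 1, 1, 1, 1, 1, 1, -1, -3, -1],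
  [-1, -1, 1, 1, 1, -1, 1, 1, 1, -1, 1, 3, 1, -1, -3, 1, -3, 1, 1, 1, -3, -1, -3, -1],
  [-1, -1, 1, 1, 1, 3, 1, 1, 1, -1, 1, -1, 1, -1, 1, 5, 1, 1, -3, 1, 1, -1, 1, -1],
  [1, 1, -1, 3, -1, 1, 3, -1, -1, 1, -1, 1, 3, 1, -1, -1, -1, -1, -1, -1, 3, -3, -1, 1],
  [-1, 3, 1, 1, 1, -1, -3, -3, 1, -1, 1, -1, 1, -1, 1, 1, -3, 1, 1, -3, 1, -1, 1, -1],
  [-1, -1, 1, 1, 1, -1, 1, 1, -3, -1, 1, -1, -3, -1, 1, 1, 1, 1, 1, -3, 1, -1, -3, 3],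
  [-1, -1, 1, 1, 1, 3, 1, 1, 1, -1, 1, -1, 1, -1, 1, -3, 1, 1, 5, 1, 1, -1, 1, -1],
  [-1, 3, -3, 1, 1, -1, 1, 1, -3, -1, 1, -1, 1, -1, 1, 1, 1, -3, 1, 1, -3, -1, 1, -1],
  [-1, 3, 1, -3, 1, -1, 1, 1, 1, -1, -3, 3, 1, -1, 1, 1, 1, 1, 1, 1, 1, -1, 1, 3],
  [1, 1, -1, 3, 3, 1, -1, -1, 3, -3, -1, 1, -1, 1, -1, -1, 3, -1, -1, -1, -1, 1, -1, 1],
  [3, -1, -3, 1, 1, -1, 1, 1, 1, -1, 1, -1, 1, -1, 1, 1, -3, 1, 1, 1, 1, 3, 1, 3],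
  [-1, -1, 1, 1, 1, -1, 1, -3, -3, -1, -3, -1, 1, -1, -3, 1, 1, 1, 1, 1, 1, 3, 1, -1],
  [1, -3, -1, -1, 3, 1, -1, -1, -1, 1, -1, 1, -1, -3, -1, -1, -1, -1, -1, -1, -1, -3, 3, 1],
  [1, 1, -1, -1, -1, 5, -1, -1, -1, 1, -1, 1, -1, 1, -1, 3, -1, -1, 3, -1, -1, 1, -1, 1],
  [1, 1, -1, -1, -1, 1, -1, 3, -1, -3, -1, 1, -1, -3, -1, -1, -1, -1, -1, -1, 3, 1, -1, -3],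
  [3, -1, 1, -3, 1, -1, 1, -3, 1, -1, 1, -1, 1, -1, 1, 1, 1, -3, 1, 1, 1, -1, -3, -1],
  [-3, 1, -1, -1, 3, 1, -1, -1, -1, 1, 3, 1, -1, 1, -1, -1, -1, -1, -1, 3, 3, 1, -1, 1],
  [-1, -1, 1, 1, -3, -1, -3, 1, 1, -1, 1, -1, 1, -1, -3, 1, 1, -3, 1, 1, 1, -1, 1, 3],
  [1, 1, -1, -1, -1, 1, -1, -1, -1, -3, -1, -3, -1, 1, -1, -1, -1, 3, -1, 3, -1, -3, -1, 1]]

theorem mElM_ok : matOK mElM = true := by decide +kernel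

/-- the conjugating element -/
def mEl : LGen := matGen mElM mElM_ok

/-- eight times the matrix of the element of order three -/
def aElM : List (List ℤ) := [
  [-4, 0, 0, 0, 0, 0, 0, 0, 0, 0, 0, 0, 0, -4, 0, 0, 0, 0, 4, 4, 0, 0, 0, 0],
  [0, -4, 0, 0, 0, 0, 0, 0, 0, 0, 0, 0, 0, 0, 0, 4, 0, -4, 0, 0, 0, 0, 0, 4],
  [0, 0, -4, 0, -4, 0, 0, 0, 0, 0, 0, -4, 0, 0, 0, 0, 0, 0, 0, 0, 0, -4, 0, 0],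
  [0, 0, 0, -4, 0, 0, 4, -4, 0, 0, 0, 0, 0, 0, 0, 0, 0, 0, 0, 0, 4, 0, 0, 0],
  [0, 0, 4, 0, -4, 0, 0, 0, 0, 0, 0, 4, 0, 0, 0, 0, 0, 0, 0, 0, 0, -4, 0, 0],
  [0, 0, 0, 0, 0, -4, 0, 0, 0, -4, 0, 0, 0, 0, 0, 0, 4, 0, 0, 0, 0, 0, 4, 0],
  [0, 0, 0, -4, 0, 0, -4, -4, 0, 0, 0, 0, 0, 0, 0, 0, 0, 0, 0, 0, -4, 0, 0, 0],
  [0, 0, 0, 4, 0, 0, 4, -4, 0, 0, 0, 0, 0, 0, 0, 0, 0, 0, 0, 0, -4, 0, 0, 0],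
  [0, 0, 0, 0, 0, 0, 0, 0, -4, 0, 4, 0, -4, 0, 4, 0, 0, 0, 0, 0, 0, 0, 0, 0],
  [0, 0, 0, 0, 0, 4, 0, 0, 0, -4, 0, 0, 0, 0, 0, 0, 4, 0, 0, 0, 0, 0, -4, 0],
  [0, 0, 0, 0, 0, 0, 0, 0, -4, 0, -4, 0, -4, 0, -4, 0, 0, 0, 0, 0, 0, 0, 0, 0],
  [0, 0, 4, 0, -4, 0, 0, 0, 0, 0, 0, -4, 0, 0, 0, 0, 0, 0, 0, 0, 0, 4, 0, 0],
  [0, 0, 0, 0, 0, 0, 0, 0, 4, 0, 4, 0, -4, 0, -4, 0, 0, 0, 0, 0, 0, 0, 0, 0],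
  [4, 0, 0, 0, 0, 0, 0, 0, 0, 0, 0, 0, 0, -4, 0, 0, 0, 0, 4, -4, 0, 0, 0, 0],
  [0, 0, 0, 0, 0, 0, 0, 0, -4, 0, 4, 0, 4, 0, -4, 0, 0, 0, 0, 0, 0, 0, 0, 0],
  [0, -4, 0, 0, 0, 0, 0, 0, 0, 0, 0, 0, 0, 0, 0, -4, 0, -4, 0, 0, 0, 0, 0, -4],
  [0, 0, 0, 0, 0, -4, 0, 0, 0, -4, 0, 0, 0, 0, 0, 0, -4, 0, 0, 0, 0, 0, -4, 0],
  [0, 4, 0, 0, 0, 0, 0, 0, 0, 0, 0, 0, 0, 0, 0, 4, 0, -4, 0, 0, 0, 0, 0, -4],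
  [-4, 0, 0, 0, 0, 0, 0, 0, 0, 0, 0, 0, 0, -4, 0, 0, 0, 0, -4, -4, 0, 0, 0, 0],
  [-4, 0, 0, 0, 0, 0, 0, 0, 0, 0, 0, 0, 0, 4, 0, 0, 0, 0, 4, -4, 0, 0, 0, 0],
  [0, 0, 0, -4, 0, 0, 4, 4, 0, 0, 0, 0, 0, 0, 0, 0, 0, 0, 0, 0, -4, 0, 0, 0],
  [0, 0, 4, 0, 4, 0, 0, 0, 0, 0, 0, -4, 0, 0, 0, 0, 0, 0, 0, 0, 0, -4, 0, 0],
  [0, 0, 0, 0, 0, -4, 0, 0, 0, 4, 0, 0, 0, 0, 0, 0, 4, 0, 0, 0, 0, 0, -4, 0],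
  [0, -4, 0, 0, 0, 0, 0, 0, 0, 0, 0, 0, 0, 0, 0, 4, 0, 4, 0, 0, 0, 0, 0, -4]]

end Cfsg.Agent.CoSection.Suz3
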