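import Cfsg.Agent.CoSection.SuzBound
import Cfsg.Agent.SuzCover.Cover

/-! The centraliser modulo the element and the centre is the presented Suzuki group. -/

set_option autoImplicit false
set_option maxRecDepth 100000

namespace Cfsg.Agent.CoSection.Suz3
open Cfsg Cfsg.Agent.Leech

theorem uGen_g : SuzCover.uGen.g = zneg * wEl.g := rfl

theorem conj_mem {x : ↥Co0} (hx : x ∈ SuzCover.CW) : mEl.g * x * mEl.g⁻¹ ∈ Cg aEl := by
  rw [mem_Cg, aEl_g]
  rw [Subgroup.mem_centralizer_singleton_iff, uGen_g, ← mul_assoc, zneg_comm x, mul_assoc, mul_assoc] at hx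
  have h : x * wEl.g = wEl.g * x := mul_left_cancel hx
  calc mEl.g * (wEl.g * mEl.g⁻¹) * (mEl.g * x * mEl.g⁻¹) = mEl.g * (wEl.g * x) * mEl.g⁻¹ := by group
    _ = mEl.g * (x * wEl.g) * mEl.g⁻¹ := by rw [h]
    _ = mEl.g * x * mEl.g⁻¹ * (mEl.g * (wEl.g * mEl.g⁻¹)) := by group

/-- conjugation into the new position -/
noncomputable def theta : ↥SuzCover.CW →* ↥(Cg aEl) :=
  ((MulAut.conj mEl.g).toMonoidHom.comp SuzCover.CW.subtype).codRestrict (Cg aEl) fun x => conj_mem x.2

theorem theta_coe (x : ↥SuzCover.CW) : (theta x).1 = mEl.g * x.1 * mEl.g⁻¹ := rfl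

theorem theta_uE : Subgroup.zpowers SuzCover.uE ≤ (Nn aEl).comap theta := by
  rw [Subgroup.zpowers_le]
  show (theta SuzCover.uE).1 ∈ AA aEl ⊔ Subgroup.center ↥Co0
  have e : (theta SuzCover.uE).1 = zneg * aEl.g := by
    rw [theta_coe, show (SuzCover.uE : ↥Co0) = SuzCover.uGen.g from rfl, uGen_g, aEl_g, ← mul_assoc mEl.g zneg,
      zneg_comm mEl.g]
    group
  rw [e]
  exact mul_mem (zneg_mem aEl) (Subgroup.mem_sup_left (Subgroup.mem_zpowers _))

/-- the quotient -/
abbrev QS : Type := ↥(Cg aEl) ⧸ Nn aEl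

/-- the map from the presented group -/
noncomputable def phiS : Cfsg.Spor.Suz →* QS :=
  (QuotientGroup.map _ (Nn aEl) theta theta_uE).comp SuzCover.psi

/-- a conjugated generator as a composite -/
noncomputable def genA : LGen := mEl.comp ((SuzCover.gens.getD 0 SuzCover.oneGen).comp mInv)

theorem genA_not : notTest aEl 3 genA = true := by decide +kernel

theorem phiS_ne : phiS (PresentedGroup.of .a) ≠ 1 := by
  intro h
  rw [phiS, MonoidHom.comp_apply, SuzCover.psi, PresentedGroup.toGroup.of, SuzCover.bar,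
    QuotientGroup.mk'_apply, QuotientGroup.map_mk] at h
  have h' : (theta (SuzCover.gE (CosetCert.SuzG24.enc Cfsg.Spor.Suz.Gen.a))).1 ∈
      AA aEl ⊔ Subgroup.center ↥Co0 := (QuotientGroup.eq_one_iff (N := Nn aEl) _).1 h
  refine not_mem_of_notTest prime_three base_ok genA_not ?_
  have e : genA.g = (theta (SuzCover.gE (CosetCert.SuzG24.enc Cfsg.Spor.Suz.Gen.a))).1 := by
    rw [theta_coe, mul_assoc]
    rfl
  rw [e]
  exact h'

theorem phiS_bijective : Function.Bijective phiS := by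
  have hsz := CosetCert.SuzOrder.order_and_simple
  have : IsSimpleGroup Cfsg.Spor.Suz := hsz.1
  refine bijective_of_bound prime_three base_ok phiS _ phiS_ne ?_
  rw [hsz.2]
  exact card_bound

theorem exists_equiv : Nonempty (Cfsg.Spor.Suz ≃* QS) := ⟨MulEquiv.ofBijective phiS phiS_bijective⟩

end Cfsg.Agent.CoSection.Suz3
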