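import Cfsg.Agent.CoSection.SuzTables
import Cfsg.Agent.LargeExtra.OutExtra
import Cfsg.Agent.Fg24.ExtraTwo
import Cfsg.Agent.SuzType.Build
import Cfsg.Agent.Classical.OrthPOmega
import Cfsg.Agent.Layer.FStar
import Cfsg.Agent.Layer.PConstraint

/-! The quotient of the centraliser of the involution by the extraspecial group. -/

set_option autoImplicit false
set_option maxRecDepth 100000

namespace Cfsg.Agent.CoSection.Suz3
open Cfsg Cfsg.Agent.Leech Cfsg.Agent.LargeExtra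

/-- the elliptic form -/
abbrev qm : ((Fin 2 ⊕ Fin 2) ⊕ Fin 2 → ZMod 2) → ZMod 2 := quadFormMinus 2 (ZMod 2) 1 1

theorem exists_coord : Nonempty (↥QQ ≃* Heis 2 1) := by
  have := finite_co0
  obtain ⟨hQ, hcard⟩ := QQ_extraspecial
  obtain ⟨m, c, ⟨ε⟩⟩ := Fg24.ExtraTwo.exists_equiv_heis hQ
  obtain rfl : m = 2 := by
    have h := Nat.card_congr ε.toEquiv
    rw [hcard, Heis.card] at h
    have := Nat.pow_right_injective le_rfl h
    omega
  rcases Fg24.ExtraTwo.two_cases c with rfl | rfl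
  · exfalso
    have h := (Fg24.ExtraTwo.card_sq_eq_one 2).1
    have e : Nat.card {x : ↥QQ // x ^ 2 = 1} = Nat.card {x : Heis 2 0 // x ^ 2 = 1} :=
      Nat.card_congr (ε.toEquiv.subtypeEquiv fun x => by
        show x ^ 2 = 1 ↔ ε x ^ 2 = 1
        rw [← map_pow, EmbeddingLike.map_eq_one_iff])
    rw [← e, QQ_sq] at h
    norm_num at h
  · exact ⟨ε⟩

/-- coordinates on the extraspecial group -/
noncomputable def eps : ↥QQ ≃* Heis 2 1 := exists_coord.some

/-- the action by conjugation -/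
noncomputable def cgH : ↥CZ →* MulAut (Heis 2 1) := ((MulAut.congr eps).toMonoidHom).comp MulAut.conjNormal

/-- the representation -/
noncomputable def rhoQ : ↥CZ →* ↥(isometryGroup (ZMod 2) qm) :=
  (Heis.isoHom (Heis.minusCoordH 2) (Heis.minusCoordH_form 2)).comp cgH

theorem rhoQ_inner {d : ↥CZ} (hd : d ∈ rhoQ.ker) : ∃ q ∈ QQ, ∀ r ∈ QQ, d * r * d⁻¹ = q * r * q⁻¹ := by
  rw [MonoidHom.mem_ker, rhoQ, MonoidHom.comp_apply, ← MonoidHom.mem_ker, Heis.isoHom_ker] at hd
  obtain ⟨h, hh⟩ := hd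
  refine ⟨(eps.symm h : ↥QQ), (eps.symm h).2, fun r hr => ?_⟩
  have h1 := congrArg (fun α : MulAut (Heis 2 1) => eps.symm (α (eps ⟨r, hr⟩))) hh
  simp [cgH] at h1
  have h3 := congrArg Subtype.val h1
  simp only [MulAut.conjNormal_apply, Subgroup.coe_mul, Subgroup.coe_inv] at h3
  exact h3.symm

theorem QQ_le_ker : QQ ≤ rhoQ.ker := by
  intro d hd
  rw [MonoidHom.mem_ker, rhoQ, MonoidHom.comp_apply, ← MonoidHom.mem_ker, Heis.isoHom_ker]
  refine ⟨eps ⟨d, hd⟩, MulEquiv.ext fun x => ?_⟩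
  obtain ⟨r, rfl⟩ := eps.surjective x
  simp [cgH, ← map_mul, ← map_inv]
  congr 1

theorem kQ_mem {i : ℕ} (h : i ∈ q0L) : kQ i ∈ QQ := by
  have hi : (Fin.ofNat 512 i).1 = i := Nat.mod_eq_of_lt (q0L_lt h)
  rw [kQ, dif_pos (by rwa [hi])]
  exact ⟨_, qHom_ker _, rfl⟩

theorem commutator_mem {q r : ↥CZ} (hq : q ∈ QQ) (hr : r ∈ QQ) : q * r * q⁻¹ * r⁻¹ ∈ ZZ := by
  have := finite_co0
  have : Fact (Nat.Prime 2) := ⟨Nat.prime_two⟩
  obtain ⟨hQ, -⟩ := QQ_extraspecial
  have hzQ : zC ∈ QQ := kQ_mem rep_ok.2.2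
  have hzc : (⟨zC, hzQ⟩ : ↥QQ) ∈ Subgroup.center ↥QQ := Subgroup.mem_center_iff.2 fun y =>
    Subtype.ext (Subgroup.mem_center_iff.1 zC_center y.1)
  have hz1 : (⟨zC, hzQ⟩ : ↥QQ) ≠ 1 := fun e => by
    have e' : zS = 1 := zC_coe.symm.trans (congrArg (fun x : ↥QQ => (x.1 : QS)) e)
    have := zS_order
    rw [e', orderOf_one] at this
    omega
  have h := Fusion.es_commutator_mem hQ ⟨q, hq⟩ ⟨r, hr⟩
  rw [← Fusion.es_center_zpowers hQ hzc hz1] at h
  obtain ⟨k, hk⟩ := h
  refine ⟨k, ?_⟩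
  have := congrArg Subtype.val hk
  simpa [commutatorElement_def] using this

/-- the words -/
def wordsAt : ℕ → List (List Bool)
  | 0 => words0
  | 1 => words1
  | _ => words2

/-- the base points -/
def baseAt : ℕ → ℕ
  | 0 => base0
  | 1 => base1
  | _ => base2

/-- the fixing subgroups -/
noncomputable def TC : ℕ → Subgroup ↥CZ
  | 0 => ⊤
  | k + 1 => TC k ⊓ (Subgroup.centralizer ({cls (baseAt k)} : Set (↥CZ ⧸ ZZ))).comap (QuotientGroup.mk' ZZ)

theorem chain_ok : ∀ k < 3, decide (baseAt k ∈ repL) = true ∧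
    ((wordsAt k).all fun w => (List.range k).all fun i => evalW w (baseAt i) == baseAt i) = true ∧
    ((wordsAt k).map fun w => evalW w (baseAt k)).Nodup := by
  decide +kernel

theorem word_mem_TC : ∀ k, k ≤ 3 → ∀ w : List Bool, (∀ i < k, evalW w (baseAt i) = baseAt i) → wC w ∈ TC k
  | 0, _, w, _ => Subgroup.mem_top _
  | k + 1, hk, w, h => by
    refine ⟨word_mem_TC k (by omega) w fun i hi => h i (by omega), ?_⟩
    show QuotientGroup.mk (wC w) ∈ Subgroup.centralizer _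
    rw [Subgroup.mem_centralizer_singleton_iff]
    have hb : baseAt k ∈ repL := of_decide_eq_true (chain_ok k (by omega)).1
    have e := (conj_word w (baseAt k) hb).2
    rw [h k (by omega)] at e
    exact mul_inv_eq_iff_eq_mul.1 e

theorem TC_step (k : ℕ) (hk : k < 3) : (wordsAt k).length * Nat.card ↥(TC (k + 1)) ≤ Nat.card ↥(TC k) := by
  have := finite_co0
  obtain ⟨hb, hw, hn⟩ := chain_ok k hk
  have hb' : baseAt k ∈ repL := of_decide_eq_true hb
  have hmem : ∀ i : Fin (wordsAt k).length, wC ((wordsAt k)[i.1]) ∈ TC k := fun i => by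
    refine word_mem_TC k (by omega) _ fun j hj => ?_
    have := List.all_eq_true.1 (List.all_eq_true.1 hw _ (List.getElem_mem i.2)) j (List.mem_range.2 hj)
    exact beq_iff_eq.1 this
  let F : Fin (wordsAt k).length × ↥(TC (k + 1)) → ↥(TC k) := fun p =>
    ⟨wC ((wordsAt k)[p.1.1]) * p.2.1, mul_mem (hmem p.1) p.2.2.1⟩
  have hF : Function.Injective F := by
    rintro ⟨i, s⟩ ⟨j, t⟩ h
    have h' : wC ((wordsAt k)[i.1]) * s.1 = wC ((wordsAt k)[j.1]) * t.1 := congrArg Subtype.val h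
    have key : ∀ (i : Fin (wordsAt k).length) (s : ↥(TC (k + 1))),
        QuotientGroup.mk (wC ((wordsAt k)[i.1]) * s.1) * cls (baseAt k) *
          (QuotientGroup.mk (wC ((wordsAt k)[i.1]) * s.1))⁻¹ = cls (evalW ((wordsAt k)[i.1]) (baseAt k)) := by
      intro i s
      have hs : QuotientGroup.mk s.1 * cls (baseAt k) = cls (baseAt k) * QuotientGroup.mk s.1 :=
        Subgroup.mem_centralizer_singleton_iff.1 s.2.2
      rw [← (conj_word _ _ hb').2, QuotientGroup.mk_mul, mul_inv_rev,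
        mul_assoc (QuotientGroup.mk (wC (wordsAt k)[i.1])) (QuotientGroup.mk s.1) (cls (baseAt k)), hs]
      group
    have e := (key i s).symm.trans ((congrArg (fun x : ↥CZ => (QuotientGroup.mk x : ↥CZ ⧸ ZZ) * cls (baseAt k) *
      (QuotientGroup.mk x : ↥CZ ⧸ ZZ)⁻¹) h').trans (key j t))
    have e2 := cls_inj (conj_word _ _ hb').1 (conj_word _ _ hb').1 e
    have hij : i = j := by
      refine Fin.ext ?_
      refine (hn.getElem_inj_iff (hi := by simp) (hj := by simp)).1 ?_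
      simpa using e2
    subst hij
    exact Prod.ext rfl (Subtype.ext (mul_left_cancel h'))
  have := Nat.card_le_card_of_injective F hF
  rwa [Nat.card_prod, Nat.card_fin] at this

theorem ker_le_TC : ∀ k, k ≤ 3 → rhoQ.ker ≤ TC k
  | 0, _ => le_top
  | k + 1, hk => fun d hd => by
    refine ⟨ker_le_TC k (by omega) hd, ?_⟩
    show QuotientGroup.mk d ∈ Subgroup.centralizer _
    rw [Subgroup.mem_centralizer_singleton_iff]
    have hb : baseAt k ∈ repL := of_decide_eq_true (chain_ok k (by omega)).1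
    have hq0 : baseAt k ∈ q0L := by
      have := List.all_eq_true.1 rep_ok.1 _ hb
      simp only [Bool.and_eq_true, decide_eq_true_eq] at this
      exact this.1
    obtain ⟨q, hq, hconj⟩ := rhoQ_inner hd
    rw [cls, ← QuotientGroup.mk_mul, ← QuotientGroup.mk_mul, QuotientGroup.eq]
    have hc := commutator_mem hq (kQ_mem hq0)
    rw [← hconj _ (kQ_mem hq0)] at hc
    have e : (d * kQ (baseAt k))⁻¹ * (kQ (baseAt k) * d) =
        (kQ (baseAt k))⁻¹ * d⁻¹ * ((d * kQ (baseAt k) * d⁻¹ * (kQ (baseAt k))⁻¹)⁻¹) *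
          (d * kQ (baseAt k)) := by group
    rw [e]
    have := ZZ_normal.conj_mem _ (inv_mem hc) ((kQ (baseAt k))⁻¹ * d⁻¹)
    simpa [mul_inv_rev] using this

theorem card_range_bounds : 6480 * Nat.card ↥rhoQ.ker ≤ Nat.card ↥CZ ∧ 128 ≤ Nat.card ↥rhoQ.ker ∧
    Nat.card ↥rhoQ.range * Nat.card ↥rhoQ.ker = Nat.card ↥CZ := by
  have := finite_co0
  refine ⟨?_, ?_, ?_⟩
  · have h0 := TC_step 0 (by norm_num)
    have h1 := TC_step 1 (by norm_num)
    have h2 := TC_step 2 (by norm_num)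
    have hl : (wordsAt 0).length = 36 ∧ (wordsAt 1).length = 20 ∧ (wordsAt 2).length = 9 := by decide +kernel
    rw [hl.1] at h0
    rw [hl.2.1] at h1
    rw [hl.2.2] at h2
    have h3 := Subgroup.card_le_of_le (ker_le_TC 3 le_rfl)
    rw [show TC 0 = ⊤ from rfl, Subgroup.card_top] at h0
    simp only [Nat.zero_add, show 1 + 1 = 2 from rfl, show 2 + 1 = 3 from rfl] at h0 h1 h2
    omega
  · have := Subgroup.card_le_of_le QQ_le_ker
    rw [QQ_extraspecial.2] at this
    exact this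
  · rw [mul_comm, ← Subgroup.index_ker, Subgroup.card_mul_index]

theorem omega_simple : IsSimpleGroup ↥(Omega (ZMod 2) qm) := by
  have hd : Module.finrank (ZMod 2) ((Fin 2 ⊕ Fin 2) ⊕ Fin 2 → ZMod 2) = 6 := by simp
  have hc : Nat.card ↥(Subgroup.center ↥(Omega (ZMod 2) ⇑(ThreeTrans.OrthCohom.qM 2))) = 1 :=
    (Classical.Quad.card_center_omega ThreeTrans.OrthCohom.nondegM2 (by omega)).2 (Or.inr rfl)
  have hs := Classical.Quad.isSimpleGroup_pomega ThreeTrans.OrthCohom.nondegM2 (by omega)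
  rw [ThreeTrans.OrthCohom.qM_coe] at hc hs
  have := hs
  exact MulEquiv.isSimpleGroup (((QuotientGroup.quotientMulEquivOfEq
    (Subgroup.card_eq_one.1 hc)).trans QuotientGroup.quotientBot).symm)

theorem fact_small : ∀ n ≤ 8, ¬ 25920 ∣ n.factorial := by decide +kernel

theorem eq_top_of_small {G : Type*} [Group G] [Finite G] [IsSimpleGroup G] (hG : Nat.card G = 25920)
    (H : Subgroup G) (h : H.index ≤ 8) : H = ⊤ := by
  classical
  by_contra hne
  rcases (H.normalCore_normal).eq_bot_or_eq_top with hb | ht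
  · have hinj : Function.Injective (MulAction.toPermHom G (G ⧸ H)) := by
      rw [← MonoidHom.ker_eq_bot_iff, ← Subgroup.normalCore_eq_ker]; exact hb
    have hd := Subgroup.card_dvd_of_injective _ hinj
    rw [hG, Nat.card_perm, ← Subgroup.index_eq_card] at hd
    exact fact_small _ h hd
  · exact hne (top_le_iff.1 (ht ▸ H.normalCore_le))

theorem range_eq : rhoQ.range = Omega (ZMod 2) qm ∧ rhoQ.ker = QQ := by
  have := finite_co0
  obtain ⟨h1, h2, h3⟩ := card_range_bounds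
  obtain ⟨hidx, hcardΩ, -⟩ := SuzType.omega_facts
  have := omega_simple
  have hCZ := card_CZ
  have hR : 6480 ≤ Nat.card ↥rhoQ.range := by
    rw [← h3] at h1
    exact Nat.le_of_mul_le_mul_right h1 (by omega)
  have hR' : Nat.card ↥rhoQ.range ≤ 25920 := by
    have h4 : Nat.card ↥rhoQ.range * 128 ≤ 25920 * 128 :=
      (Nat.mul_le_mul_left _ h2).trans (h3.le.trans hCZ)
    exact Nat.le_of_mul_le_mul_right h4 (by norm_num)
  have hle : Omega (ZMod 2) qm ≤ rhoQ.range := by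
    rw [← Subgroup.subgroupOf_eq_top]
    refine eq_top_of_small hcardΩ _ ?_
    show rhoQ.range.relIndex (Omega (ZMod 2) qm) ≤ 8
    have e0 := rhoQ.range.card_mul_index
    rw [show Nat.card ↥(isometryGroup (ZMod 2) qm) = 51840 from SuzType.card_iso_minus] at e0
    have hpos : rhoQ.range.index ≠ 0 := Subgroup.index_ne_zero_of_finite
    have e1 : rhoQ.range.index ≤ 8 := by
      have := Nat.mul_le_mul_right rhoQ.range.index hR
      omega
    refine le_trans ((Subgroup.relIndex_le_of_le_right le_top ?_).trans_eq (Subgroup.relIndex_top_right _)) e1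
    rw [Subgroup.relIndex_top_right]; exact hpos
  have heq : rhoQ.range = Omega (ZMod 2) qm :=
    (Subgroup.eq_of_le_of_card_ge hle (by rw [hcardΩ]; exact hR')).symm
  refine ⟨heq, (Subgroup.eq_of_le_of_card_ge QQ_le_ker ?_).symm⟩
  rw [heq, hcardΩ] at h3
  rw [QQ_extraspecial.2]
  omega

theorem quot_equiv : Nonempty (↥CZ ⧸ QQ ≃* ↥(Omega (ZMod 2) qm)) :=
  ⟨(QuotientGroup.quotientMulEquivOfEq range_eq.2.symm).trans
    ((QuotientGroup.quotientKerEquivRange rhoQ).trans (MulEquiv.subgroupCongr range_eq.1))⟩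

theorem centralizer_QQ_le : Subgroup.centralizer (QQ : Set ↥CZ) ≤ QQ := by
  intro d hd
  rw [← range_eq.2, MonoidHom.mem_ker, rhoQ, MonoidHom.comp_apply]
  have e : cgH d = 1 := MulEquiv.ext fun x => by
    obtain ⟨r, rfl⟩ := eps.surjective x
    simp [cgH]
    refine Subtype.ext ?_
    rw [MulAut.conjNormal_apply, ← Subgroup.mem_centralizer_iff.1 hd r.1 r.2, mul_inv_cancel_right]
  rw [e, map_one]

theorem omega_not_nilpotent : ¬ Group.IsNilpotent ↥(Omega (ZMod 2) qm) := by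
  intro hn
  have := finite_co0
  have := omega_simple
  have hcard := SuzType.omega_facts.2.1
  have hc : ∀ a b : ↥(Omega (ZMod 2) qm), a * b = b * a := fun a b =>
    IsSimpleGroup.comm_iff_isSolvable.2 (inferInstance : Group.IsSolvable _) a b
  let _ : CommGroup ↥(Omega (ZMod 2) qm) :=
    { (inferInstance : Group ↥(Omega (ZMod 2) qm)) with mul_comm := hc }
  have hp := IsSimpleGroup.prime_card (α := ↥(Omega (ZMod 2) qm))
  rw [hcard] at hp
  norm_num at hp

theorem fitting_eq : fittingSubgroup ↥CZ = QQ := by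
  have := finite_co0
  refine le_antisymm ?_ (Core.le_fittingSubgroup (QQ_extraspecial.1.1.1).isNilpotent)
  have := omega_simple
  obtain ⟨e⟩ := quot_equiv
  let p : ↥CZ →* ↥(Omega (ZMod 2) qm) := e.toMonoidHom.comp (QuotientGroup.mk' QQ)
  have hp : Function.Surjective p := e.surjective.comp (QuotientGroup.mk'_surjective QQ)
  rcases (Subgroup.Normal.map (inferInstance : (fittingSubgroup ↥CZ).Normal) p hp).eq_bot_or_eq_top with h | h
  · intro x hx
    have := (Subgroup.map_eq_bot_iff _).1 h hx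
    rwa [MonoidHom.mem_ker, MonoidHom.comp_apply, MulEquiv.coe_toMonoidHom, MulEquiv.map_eq_one_iff,
      QuotientGroup.mk'_apply, QuotientGroup.eq_one_iff] at this
  · exfalso
    refine omega_not_nilpotent (Group.isNilpotent_top.1 ?_)
    rw [← h]
    exact Core.isNilpotent_map Core.fittingSubgroup_isNilpotent _

theorem gen_fitting_eq : generalizedFittingSubgroup ↥CZ = QQ := by
  have := finite_co0
  rw [generalizedFittingSubgroup, Layer.layer_eq_bot_iff_centralizer_fitting.2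
    (by rw [fitting_eq]; exact centralizer_QQ_le), bot_sup_eq, fitting_eq]

theorem sigma_comm : eqB (aEl.comp sEl).f (sEl.comp aEl).f = true ∧
    eqB (sEl.comp CentTwo.tGen).f (negG.comp ((kL sIdx).comp sEl)).f = true ∧
    decide (sIdx ∈ q0L) = true ∧ decide (sIdx ≠ 31) = true := by
  decide +kernel

theorem conj_in : ∃ g : QS, (∃ hq : g * zS * g⁻¹ ∈ CZ, (⟨g * zS * g⁻¹, hq⟩ : ↥CZ) ∈ QQ) ∧
    g * zS * g⁻¹ ≠ zS := by
  obtain ⟨h1, h2, h3, h4⟩ := sigma_comm
  replace h3 := of_decide_eq_true h3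
  replace h4 := of_decide_eq_true h4
  refine ⟨QuotientGroup.mk ⟨sEl.g, mem_Cg.2 (g_eq (A := aEl.comp sEl) (B := sEl.comp aEl) h1)⟩, ?_⟩
  obtain ⟨g, eg, hg⟩ := kQ_eq h3
  have key : (QuotientGroup.mk ⟨sEl.g, mem_Cg.2 (g_eq (A := aEl.comp sEl) (B := sEl.comp aEl) h1)⟩ : QS) * zS *
      (QuotientGroup.mk ⟨sEl.g, mem_Cg.2 (g_eq (A := aEl.comp sEl) (B := sEl.comp aEl) h1)⟩)⁻¹ =
      (kQ sIdx : QS) := by
    rw [mul_inv_eq_iff_eq_mul, zS, eg, phiC_coe, ← QuotientGroup.mk_mul, ← QuotientGroup.mk_mul,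
      QuotientGroup.eq]
    have e := g_eq (A := sEl.comp CentTwo.tGen) (B := negG.comp ((kL sIdx).comp sEl)) h2
    show (sEl.g * CentTwo.tGen.g)⁻¹ * (g.1.1 * sEl.g) ∈ AA aEl ⊔ Subgroup.center ↥Co0
    rw [hg, show sEl.g * CentTwo.tGen.g = zneg * ((kL sIdx).g * sEl.g) from e]
    have hz := inv_mem zneg_mem_center
    have e2 : (zneg * ((kL sIdx).g * sEl.g))⁻¹ * ((kL sIdx).g * sEl.g) = zneg⁻¹ := by
      rw [mul_inv_rev, mul_assoc, ← Subgroup.mem_center_iff.1 hz, ← mul_assoc, inv_mul_cancel, one_mul]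
    rw [e2]
    exact Subgroup.mem_sup_right hz
  rw [key]
  refine ⟨⟨(kQ sIdx).2, kQ_mem h3⟩, fun e => h4 (kQ_inj h3 rep_ok.2.2 (Subtype.ext ?_))⟩
  show (kQ sIdx : QS) = (zC : QS)
  rw [zC_coe]
  exact e

theorem large_extraspecial : ∃ z : QS, orderOf z = 2 ∧
    ∃ (Q : Subgroup (Subgroup.centralizer ({z} : Set QS))) (_ : Q.Normal),
    generalizedFittingSubgroup (Subgroup.centralizer ({z} : Set QS)) = Q ∧
    IsExtraspecial 2 Q ∧ Nat.card Q = 2 ^ 7 ∧
    Nonempty ((Subgroup.centralizer ({z} : Set QS)) ⧸ Q ≃* Omega (ZMod 2) (quadFormMinus 2 (ZMod 2) 1 1)) ∧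
    ∃ g : QS, (∃ hq : g * z * g⁻¹ ∈ Subgroup.centralizer ({z} : Set QS),
      (⟨g * z * g⁻¹, hq⟩ : Subgroup.centralizer ({z} : Set QS)) ∈ Q) ∧ g * z * g⁻¹ ≠ z :=
  ⟨zS, zS_order, QQ, QQ_normal, gen_fitting_eq, QQ_extraspecial.1, QQ_extraspecial.2, quot_equiv, conj_in⟩

end Cfsg.Agent.CoSection.Suz3
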