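import Cfsg.Agent.CoSection.SuzCount
import Cfsg.Agent.CoSection.SuzCAGens

/-! The action of two elements of the centraliser on the extraspecial group modulo its centre. -/

set_option autoImplicit false
set_option maxRecDepth 100000

namespace Cfsg.Agent.CoSection.Suz3
open Cfsg Cfsg.Agent.Leech Cfsg.Agent.Leech.CentOne Cfsg.Agent.Leech.CentTwo

/-- a generator -/
def cG (b : Bool) : LGen := if b then c1 else c0

theorem cG_comm : ∀ b : Bool, eqB (aEl.comp (cG b)).f ((cG b).comp aEl).f = true ∧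
    eqB (tGen.comp (cG b)).f ((cG b).comp tGen).f = true := by
  decide +kernel

/-- the generator in the common centraliser -/
noncomputable def cA (b : Bool) : ↥CAg :=
  ⟨⟨(cG b).g, mem_Cg.2 (g_eq (A := aEl.comp (cG b)) (B := (cG b).comp aEl) (cG_comm b).1)⟩,
    CentOne.mem_CE.2 (g_eq (A := tGen.comp (cG b)) (B := (cG b).comp tGen) (cG_comm b).2)⟩

/-- the generator in the centraliser -/
noncomputable def cC (b : Bool) : ↥CZ := phiC (cA b)

/-- the element of a word -/
noncomputable def wC (w : List Bool) : ↥CZ := (w.map cC).prod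

/-- a numbered element in the centraliser -/
noncomputable def kQ (i : ℕ) : ↥CZ :=
  if h : (Fin.ofNat 512 i).1 ∈ q0L then phiC (qHom ⟨kG (Fin.ofNat 512 i), (kG_mem_Q0 _).2 h⟩) else 1

theorem q0L_lt {i : ℕ} (h : i ∈ q0L) : i < 512 :=
  of_decide_eq_true (List.all_eq_true.1 wit_ok.2.2.2 _ h)

theorem kQ_eq {i : ℕ} (h : i ∈ q0L) :
    ∃ g : ↥CAg, kQ i = phiC g ∧ g.1.1 = (kL i).g := by
  have hi : (Fin.ofNat 512 i).1 = i := Nat.mod_eq_of_lt (q0L_lt h)
  rw [kQ, dif_pos (by rwa [hi])]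
  exact ⟨_, rfl, rfl⟩

theorem kQ_inj {i j : ℕ} (hi : i ∈ q0L) (hj : j ∈ q0L) (e : kQ i = kQ j) : i = j := by
  have hi' : (Fin.ofNat 512 i).1 = i := Nat.mod_eq_of_lt (q0L_lt hi)
  have hj' : (Fin.ofNat 512 j).1 = j := Nat.mod_eq_of_lt (q0L_lt hj)
  rw [kQ, kQ, dif_pos (by rwa [hi']), dif_pos (by rwa [hj'])] at e
  have := congrArg Subtype.val (qQ_bijective.1 (Subtype.ext e))
  rw [← hi', ← hj']
  exact congrArg Fin.val (kG_injective this)

/-- the representative of a class -/
def repOf (j : ℕ) : ℕ := if repL.contains j then j else j ^^^ 31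

/-- the entry of a table -/
def look (b : Bool) (r : ℕ) : ℕ × Bool :=
  (((if b then tab1 else tab0).find? fun p => p.1 == r).map Prod.snd).getD (0, false)

theorem tab_ok : ∀ b : Bool, repL.all (fun r =>
    decide ((look b r).1 ∈ q0L) && decide (repOf (look b r).1 ∈ repL) &&
      eqB ((cG b).comp (kL r)).f
        ((if (look b r).2 then negG else oneG).comp ((kL (look b r).1).comp (cG b))).f) = true := by
  decide +kernel

theorem rep_ok : repL.all (fun r => decide (r ∈ q0L) && !repL.contains (r ^^^ 31)) = true ∧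
    q0L.all (fun r => decide (r ^^^ 31 ∈ q0L) && eqB (kL (r ^^^ 31)).f ((kL r).comp (kL 31)).f) = true ∧
    31 ∈ q0L := by
  decide +kernel

theorem move_eq (b : Bool) {r : ℕ} (hr : r ∈ repL) :
    cC b * kQ r = kQ (look b r).1 * cC b := by
  have h := List.all_eq_true.1 (tab_ok b) r hr
  simp only [Bool.and_eq_true, decide_eq_true_eq] at h
  obtain ⟨⟨h1, -⟩, h2⟩ := h
  have hr' : r ∈ q0L := by
    have := List.all_eq_true.1 rep_ok.1 r hr
    simp only [Bool.and_eq_true, decide_eq_true_eq] at this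
    exact this.1
  obtain ⟨g, eg, hg⟩ := kQ_eq hr'
  obtain ⟨g', eg', hg'⟩ := kQ_eq h1
  have key := g_eq h2
  rw [eg, eg', cC]
  cases hs : (look b r).2 <;> rw [hs] at key
  · rw [← map_mul, ← map_mul]
    refine congrArg phiC (Subtype.ext (Subtype.ext ?_))
    show (cG b).g * g.1.1 = g'.1.1 * (cG b).g
    rw [hg, hg']
    have : (cG b).g * (kL r).g = 1 * ((kL (look b r).1).g * (cG b).g) := key
    rwa [one_mul] at this
  · rw [← map_mul, ← map_mul, ← one_mul (phiC (g' * cA b)), ← phiC_znegA, ← map_mul]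
    refine congrArg phiC (Subtype.ext (Subtype.ext ?_))
    show (cG b).g * g.1.1 = zneg * (g'.1.1 * (cG b).g)
    rw [hg, hg']
    exact key

/-- the centre of the extraspecial group -/
noncomputable def zC : ↥CZ := kQ 31

theorem zC_coe : (zC : QS) = zS := by
  obtain ⟨g, eg, hg⟩ := kQ_eq rep_ok.2.2
  rw [zC, eg, phiC_coe, zS]
  refine congrArg _ (Subtype.ext ?_)
  show g.1.1 = tGen.g
  rw [hg]
  exact (kL_g 31).trans kG31_g

theorem zC_center : zC ∈ Subgroup.center ↥CZ := Subgroup.mem_center_iff.2 fun y => Subtype.ext (by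
  show (y : QS) * (zC : QS) = (zC : QS) * y
  rw [zC_coe]
  exact Subgroup.mem_centralizer_singleton_iff.1 y.2)

theorem xor_mul {r : ℕ} (hr : r ∈ q0L) : kQ (r ^^^ 31) = kQ r * zC := by
  have h := List.all_eq_true.1 rep_ok.2.1 r hr
  simp only [Bool.and_eq_true, decide_eq_true_eq] at h
  obtain ⟨g, eg, hg⟩ := kQ_eq h.1
  obtain ⟨g', eg', hg'⟩ := kQ_eq hr
  obtain ⟨g'', eg'', hg''⟩ := kQ_eq rep_ok.2.2
  rw [eg, eg', zC, eg'', ← map_mul]
  refine congrArg phiC (Subtype.ext (Subtype.ext ?_))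
  show g.1.1 = g'.1.1 * g''.1.1
  rw [hg, hg', hg'']
  exact g_eq (A := kL (r ^^^ 31)) (B := (kL r).comp (kL 31)) h.2

/-- the subgroup generated by the central involution -/
noncomputable abbrev ZZ : Subgroup ↥CZ := Subgroup.zpowers zC

instance ZZ_normal : ZZ.Normal :=
  ⟨fun n hn g => by
    rw [Subgroup.mem_center_iff.1 ((Subgroup.zpowers_le.2 zC_center) hn) g, mul_inv_cancel_right]; exact hn⟩

/-- the class of a number -/
noncomputable def cls (r : ℕ) : ↥CZ ⧸ ZZ := QuotientGroup.mk (kQ r)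

theorem cls_repOf {j : ℕ} (hj : j ∈ q0L) : cls (repOf j) = cls j := by
  unfold repOf
  split_ifs
  · rfl
  · rw [cls, cls, xor_mul hj, QuotientGroup.eq]
    simp only [mul_inv_rev, inv_mul_cancel_right]
    exact inv_mem (Subgroup.mem_zpowers _)

/-- the image of a class -/
def evalW (w : List Bool) (r : ℕ) : ℕ := w.foldr (fun b x => repOf (look b x).1) r

theorem conj_word : ∀ (w : List Bool) (r : ℕ), r ∈ repL →
    evalW w r ∈ repL ∧ QuotientGroup.mk (wC w) * cls r * (QuotientGroup.mk (wC w))⁻¹ = cls (evalW w r)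
  | [], r, hr => ⟨hr, by simp [wC, evalW]⟩
  | b :: w, r, hr => by
    obtain ⟨h1, h2⟩ := conj_word w r hr
    have h := List.all_eq_true.1 (tab_ok b) _ h1
    simp only [Bool.and_eq_true, decide_eq_true_eq] at h
    refine ⟨h.1.2, ?_⟩
    have e : (QuotientGroup.mk (wC (b :: w)) : ↥CZ ⧸ ZZ) =
        QuotientGroup.mk (cC b) * QuotientGroup.mk (wC w) := by
      rw [← QuotientGroup.mk_mul]; simp [wC]
    rw [e, mul_inv_rev]
    have : evalW (b :: w) r = repOf (look b (evalW w r)).1 := rfl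
    rw [this, cls_repOf h.1.1, show QuotientGroup.mk (cC b) * QuotientGroup.mk (wC w) * cls r *
      ((QuotientGroup.mk (wC w))⁻¹ * (QuotientGroup.mk (cC b))⁻¹) = QuotientGroup.mk (cC b) *
      (QuotientGroup.mk (wC w) * cls r * (QuotientGroup.mk (wC w))⁻¹) * (QuotientGroup.mk (cC b))⁻¹ by group,
      h2, cls, cls, ← QuotientGroup.mk_mul, move_eq b h1, QuotientGroup.mk_mul, mul_inv_cancel_right]

theorem cls_inj {r s : ℕ} (hr : r ∈ repL) (hs : s ∈ repL) (e : cls r = cls s) : r = s := by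
  have hr' := List.all_eq_true.1 rep_ok.1 r hr
  have hs' := List.all_eq_true.1 rep_ok.1 s hs
  simp only [Bool.and_eq_true, decide_eq_true_eq, Bool.not_eq_true'] at hr' hs'
  obtain ⟨k, hk⟩ := QuotientGroup.eq.1 e
  have hk' : kQ s = kQ r * zC ^ k := by
    show kQ s = kQ r * zC ^ k
    rw [show zC ^ k = (kQ r)⁻¹ * kQ s from hk, mul_inv_cancel_left]
  have hz2 : zC ^ (2 : ℤ) = 1 := by
    refine Subtype.ext ?_
    rw [SubgroupClass.coe_zpow, zC_coe]
    show zS ^ ((2 : ℕ) : ℤ) = _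
    rw [zpow_natCast, ← zS_order, pow_orderOf_eq_one]
    rfl
  rcases Int.even_or_odd' k with ⟨q, rfl | rfl⟩
  · rw [zpow_mul, hz2, one_zpow, mul_one] at hk'
    exact (kQ_inj hs'.1 hr'.1 hk').symm
  · rw [zpow_add, zpow_mul, hz2, one_zpow, one_mul, zpow_one, ← xor_mul hr'.1] at hk'
    have h31 := List.all_eq_true.1 rep_ok.2.1 r hr'.1
    simp only [Bool.and_eq_true, decide_eq_true_eq] at h31
    have := kQ_inj hs'.1 h31.1 hk'
    subst this
    have hc : repL.contains (r ^^^ 31) = true := List.contains_iff_mem.2 hs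
    rw [hr'.2] at hc
    exact Bool.noConfusion hc

end Cfsg.Agent.CoSection.Suz3
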